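import Cfsg.Agent.Lib.ClassK.M23Nse.Words
import Cfsg.Agent.Lib.ClassK.M22Nse.Model

/-! The values of the number of elements of each order in M23. -/

set_option autoImplicit false
set_option maxRecDepth 100000
set_option maxHeartbeats 1000000

namespace CfsgLib.ClassK.M23Nse

open Cfsg CfsgLib.Golay
open CfsgLib.ClassK.M12Nse (prods app)
open CfsgLib.ClassK.M22Nse (ordSet countM22 lev X20)
open scoped Pointwise

/-- An element carrying `0, 1, 2` to `1, 0, 2`. -/
def a2 : List ℕ := [972515684202761748824803774667261953, 984818244535754528103549039458486304,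
  984818244535754528103549039458486304]
/-- An element carrying `0, 1, 2` to `1, 0, 3`. -/
def a3 : List ℕ := [972515684202761748824803774667261953, 984818244535754528103549039458486304,
  981737719767249052369456315699891232]
/-- An element carrying `0, 1, 2` to `1, 2, 0`. -/
def b0 : List ℕ := [972515684202761748824803774667261953, 976990105829392847739289005721748544,
  984818244535754528103549039458486304]
/-- An element carrying `0, 1, 2` to `1, 2, 3`. -/
def b3 : List ℕ := [972515684202761748824803774667261953, 976990105829392847739289005721748544,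
  981737719767249052369456315699891232]

/-- The words of one coset. -/
def cos (e : List ℕ) : List (List ℕ) := (prods (lev 4)).map (e ++ ·)

/-- Number of elements of order `n` as computed by the chain. -/
def countM23 (n : ℕ) : ℕ :=
  countM22 n + 22 * ((hist (cos a2) n + 20 * hist (cos a3) n) +
    21 * (hist (cos b0) n + 20 * hist (cos b3) n))

/-- The four cosets are well formed. -/
def cosOK (e : List ℕ) : Bool :=
  (prods (lev 4)).all fun w => w.all (inFix X20) && !Nat.beq (ord23 (e ++ w)) 0

theorem ok_a2 : cosOK a2 = true := by decide +kernel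
theorem ok_a3 : cosOK a3 = true := by decide +kernel
theorem ok_b0 : cosOK b0 = true := by decide +kernel
theorem ok_b3 : cosOK b3 = true := by decide +kernel

/-- A point outside `s` lies in the orbit of `3`. -/
theorem img_cases {σ : Equiv.Perm GolayPt} (hσ : σ ∈ fixMasks X23) {z z' z'' : ℕ}
    (h0 : σ (pt 0) = pt z) (h1 : σ (pt 1) = pt z') (hz : z < 24) (hz' : z' < 24)
    (hall : (List.range 24).all (fun i => Nat.beq i 23 || Nat.beq i z || Nat.beq i z' ||
      Nat.beq i z'' || (orbMask (chainM24Levels.getD 4 noLevel).1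
        (chainM24Levels.getD 4 noLevel).2.1).testBit i) = true) :
    σ (pt 2) = pt z'' ∨ σ (pt 2) ∈ mset (orbMask (chainM24Levels.getD 4 noLevel).1
      (chainM24Levels.getD 4 noLevel).2.1) := by
  have h23 : σ (pt 23) = pt 23 := by
    have := (mem_fixMasks_bit (by norm_num : 23 < 24) (X := [])).1
      (show σ ∈ fixMasks [Nat.shiftLeft 1 23] from hσ)
    exact this.2
  have ne : ∀ {a b : ℕ}, a < 24 → b < 24 → a ≠ b → pt a ≠ pt b := fun ha hb hne e => hne (by
    have := congrArg idx e; rwa [idx_pt ha, idx_pt hb] at this)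
  have h := List.all_eq_true.1 hall (idx (σ (pt 2))) (List.mem_range.2 (idx_lt _))
  simp only [Bool.or_eq_true] at h
  rcases h with (((h | h) | h) | h) | h
  · have e : σ (pt 2) = σ (pt 23) := by rw [h23, ← Nat.eq_of_beq_eq_true h, pt_idx]
    exact absurd (σ.injective e) (ne (by norm_num) (by norm_num) (by norm_num))
  · have e : σ (pt 2) = σ (pt 0) := by rw [h0, ← Nat.eq_of_beq_eq_true h, pt_idx]
    exact absurd (σ.injective e) (ne (by norm_num) (by norm_num) (by norm_num))
  · have e : σ (pt 2) = σ (pt 1) := by rw [h1, ← Nat.eq_of_beq_eq_true h, pt_idx]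
    exact absurd (σ.injective e) (ne (by norm_num) (by norm_num) (by norm_num))
  · exact Or.inl (by rw [← Nat.eq_of_beq_eq_true h, pt_idx])
  · exact Or.inr (by rw [mem_mset, h])

theorem ncard_pair {z' z'' : ℕ} (hz' : z' = 0 ∨ z' = 2) (hz'' : z'' = 2 ∨ z'' = 0) (hne : z' ≠ z'')
    (e e' : List ℕ) (he : e.all (inFix X23) = true) (he' : e'.all (inFix X23) = true)
    (i1 : app e 0 = 1 ∧ app e 1 = z' ∧ app e 2 = z'')
    (i2 : app e' 0 = 1 ∧ app e' 1 = z' ∧ app e' 2 = 3)
    (ok : cosOK e = true) (ok' : cosOK e' = true) (n : ℕ) :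
    (ordSet X23 (fun σ => σ (pt 0) = pt 1 ∧ σ (pt 1) = pt z') n).ncard =
      hist (cos e) n + 20 * hist (cos e') n := by
  have hz1 : z' < 24 := by omega
  have hz2 : z'' < 24 := by omega
  have hL : levelOK X20 (chainM24Levels.getD 4 noLevel) = true := by decide +kernel
  have h20 : chainOK X20 (lev 4) chainM24Fin = true := M22Nse.chain20
  rw [ncard_third (X := X23) (b := 0) (b' := 1) (c := 2) (z := 1) (z' := z') (z'' := z'')
    (lv := chainM24Levels.getD 4 noLevel) (by norm_num) (by norm_num) hL (by norm_num) (by norm_num)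
    hz1 hz2 ?_ ?_ ?_ n,
    show pop (orbMask (chainM24Levels.getD 4 noLevel).1 (chainM24Levels.getD 4 noLevel).2.1) = 20
      by decide +kernel,
    show (chainM24Levels.getD 4 noLevel).1 = 3 by decide +kernel,
    ncard_ordSet_coset3 (X := X23) (b := 0) (b' := 1) (b'' := 2) (by norm_num) (by norm_num)
      (by norm_num) h20 le_rfl e he i1.1 i1.2.1 i1.2.2 ok (by decide +kernel) n,
    ncard_ordSet_coset3 (X := X23) (b := 0) (b' := 1) (b'' := 2) (by norm_num) (by norm_num)
      (by norm_num) h20 le_rfl e' he' i2.1 i2.2.1 i2.2.2 ok' (by decide +kernel) n]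
  · rfl
  · intro k hk
    obtain ⟨h1, h2⟩ := (mem_fixMasks_cons (by norm_num : 2 < 24)).1 hk
    obtain ⟨h3, h4⟩ := (mem_fixMasks_cons (by norm_num : 1 < 24)).1 h1
    obtain ⟨-, h6⟩ := (mem_fixMasks_cons (by norm_num : 0 < 24)).1 h3
    refine ⟨h4, ?_⟩
    rcases hz' with rfl | rfl
    exacts [h6, h2]
  · rcases hz'' with rfl | rfl <;> decide +kernel
  · intro σ hσ h0 h1
    refine img_cases hσ h0 h1 (by norm_num) hz1 ?_
    rcases hz' with rfl | rfl <;> rcases hz'' with rfl | rfl
    all_goals first
      | exact absurd rfl hne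
      | decide +kernel

theorem ncard_X23 (n : ℕ) : (ordSet X23 (fun _ => True) n).ncard = countM23 n := by
  have h := M22Nse.ncard_step (X := X23) (lv := chainM24Levels.getD 1 noLevel)
    (lv' := chainM24Levels.getD 2 noLevel) (lv'' := chainM24Levels.getD 3 noLevel)
    (by decide +kernel) (by decide +kernel) (by decide +kernel) (by decide +kernel)
    (by decide +kernel) (by decide +kernel) (by decide +kernel) (by decide +kernel) n
  rw [show pop (orbMask (chainM24Levels.getD 2 noLevel).1 (chainM24Levels.getD 2 noLevel).2.1) = 22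
      by decide +kernel,
    show pop (orbMask (chainM24Levels.getD 3 noLevel).1 (chainM24Levels.getD 3 noLevel).2.1) = 21
      by decide +kernel,
    show (chainM24Levels.getD 1 noLevel).1 = 0 by decide +kernel,
    show (chainM24Levels.getD 2 noLevel).1 = 1 by decide +kernel,
    show (chainM24Levels.getD 3 noLevel).1 = 2 by decide +kernel] at h
  rw [h, show (Nat.shiftLeft 1 0 :: X23 : List ℕ) = X22 from rfl, M22Nse.ncard_X22,
    ncard_pair (z' := 0) (z'' := 2) (Or.inl rfl) (Or.inl rfl) (by norm_num) a2 a3 (by decide +kernel)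
      (by decide +kernel) (by decide +kernel) (by decide +kernel) ok_a2 ok_a3 n,
    ncard_pair (z' := 2) (z'' := 0) (Or.inr rfl) (Or.inr rfl) (by norm_num) b0 b3 (by decide +kernel)
      (by decide +kernel) (by decide +kernel) (by decide +kernel) ok_b0 ok_b3 n, countM23]

theorem card_order (n : ℕ) :
    Nat.card {g : ↥Spor.M23 // orderOf g = n} = countM23 n := by
  rw [← ncard_X23, sporM23_eq, ← Nat.card_coe_set_eq]
  exact Nat.card_congr
    { toFun := fun g => ⟨g.1.1, g.1.2, trivial, by rw [Subgroup.orderOf_coe]; exact g.2⟩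
      invFun := fun g => ⟨⟨g.1, g.2.1⟩, by rw [← Subgroup.orderOf_coe]; exact g.2.2.2⟩
      left_inv := fun _ => rfl
      right_inv := fun _ => rfl }

/-- The values. -/
def nseM23 : Finset ℕ :=
  {1, 3795, 56672, 318780, 680064, 850080, 1457280, 1275120, 1854720, 1360128, 887040}

/-- The orders occurring. -/
def ordsM23 : List ℕ := [1, 2, 3, 4, 5, 6, 7, 8, 11, 14, 15, 23]

theorem cos_orders : ([a2, a3, b0, b3].all fun e =>
    ((cos e).map ord23).all fun o => ordsM23.contains o) = true := by decide +kernel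

theorem countM23_table : ordsM23.map countM23 =
    [1, 3795, 56672, 318780, 680064, 850080, 1457280, 1275120, 1854720, 1457280, 1360128, 887040] := by
  decide +kernel

theorem countM23_zero {n : ℕ} (hn : n ∉ ordsM23) : countM23 n = 0 := by
  have h22 : n ∉ [1, 2, 3, 4, 5, 6, 7, 8, 11] := fun h => hn (by
    simp only [ordsM23, List.mem_cons, List.not_mem_nil, or_false] at h ⊢
    omega)
  have h0 : ∀ e ∈ [a2, a3, b0, b3], hist (cos e) n = 0 := by
    intro e he
    rw [hist, List.countP_eq_zero]
    intro o ho hon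
    have := List.all_eq_true.1 (List.all_eq_true.1 cos_orders e he) o ho
    rw [List.contains_iff_mem, Nat.eq_of_beq_eq_true hon] at this
    exact hn this
  rw [countM23, M22Nse.countM22_zero h22, h0 a2 (by simp), h0 a3 (by simp), h0 b0 (by simp),
    h0 b3 (by simp)]

theorem nse_M23 :
    {c : ℕ | 0 < c ∧ ∃ n : ℕ, c = Nat.card {g : ↥Spor.M23 // orderOf g = n}} = ↑nseM23 := by
  ext c
  simp only [card_order, Set.mem_setOf_eq, Finset.mem_coe]
  have ht := countM23_table
  simp only [ordsM23, List.map_cons, List.map_nil, List.cons.injEq, and_true] at ht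
  obtain ⟨h1, h2, h3, h4, h5, h6, h7, h8, h11, h14, h15, h23⟩ := ht
  constructor
  · rintro ⟨hc, n, rfl⟩
    by_cases hn : n ∈ ordsM23
    · simp only [ordsM23, List.mem_cons, List.not_mem_nil, or_false] at hn
      rcases hn with rfl | rfl | rfl | rfl | rfl | rfl | rfl | rfl | rfl | rfl | rfl | rfl <;>
        simp [h1, h2, h3, h4, h5, h6, h7, h8, h11, h14, h15, h23, nseM23]
    · rw [countM23_zero hn] at hc; omega
  · intro hc
    simp only [nseM23, Finset.mem_insert, Finset.mem_singleton] at hc
    rcases hc with rfl | rfl | rfl | rfl | rfl | rfl | rfl | rfl | rfl | rfl | rfl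
    exacts [⟨by norm_num, 1, h1.symm⟩, ⟨by norm_num, 2, h2.symm⟩, ⟨by norm_num, 3, h3.symm⟩,
      ⟨by norm_num, 4, h4.symm⟩, ⟨by norm_num, 5, h5.symm⟩, ⟨by norm_num, 6, h6.symm⟩,
      ⟨by norm_num, 7, h7.symm⟩, ⟨by norm_num, 8, h8.symm⟩, ⟨by norm_num, 11, h11.symm⟩,
      ⟨by norm_num, 15, h15.symm⟩, ⟨by norm_num, 23, h23.symm⟩]

end CfsgLib.ClassK.M23Nse
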