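import Cfsg.Agent.Lib.ClassK.M23Nse.Tools

/-!
A group with the order and the element counts of M23 is simple.
-/

set_option autoImplicit false
set_option linter.unusedSectionVars false

namespace CfsgLib.ClassK.M23Nse

open Subgroup CfsgLib.StructB.OrderCount

universe u

variable {G : Type u} [Group G] [Finite G]

theorem mem_of_one {N : Subgroup G} [N.Normal] {p : ℕ} [hp : Fact p.Prime] (hd : p ∣ Nat.card G)
    (hd2 : ¬ p ^ 2 ∣ Nat.card G) {y : G} (hy : y ∈ N) (hyo : orderOf y = p) {g : G}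
    (hg : orderOf g = p) : g ∈ N := by
  obtain ⟨P, hP⟩ := exists_sylow_eq hd hd2 hg
  obtain ⟨Q, hQ⟩ := exists_sylow_eq hd hd2 hyo
  obtain ⟨c, rfl⟩ := MulAction.exists_smul_eq G Q P
  have h1 : g ∈ ((c • Q : Sylow p G) : Subgroup G) := hP ▸ mem_zpowers g
  obtain ⟨q, hq, rfl⟩ := h1
  exact (inferInstance : N.Normal).conj_mem q ((hQ ▸ zpowers_le.2 hy : (Q : Subgroup G) ≤ N) hq) c

/-- If all elements of order `q` lie in a normal subgroup, so does an element of order `r`, when
some element of order `q` normalises but does not centralise a subgroup of order `r`. -/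
theorem step {N : Subgroup G} [N.Normal] {q r : ℕ} [Fact q.Prime] [hr : Fact r.Prime] {y : G}
    (hy : orderOf y = r) (hN : q ∣ Nat.card (normalizer (zpowers y : Set G)))
    (hC : ¬ q ∣ Nat.card (centralizer ({y} : Set G))) (hall : ∀ z : G, orderOf z = q → z ∈ N) :
    ∃ g ∈ N, orderOf g = r := by
  obtain ⟨⟨z, hz⟩, hzo⟩ :=
    exists_prime_orderOf_dvd_card' (G := normalizer (zpowers y : Set G)) q hN
  rw [Subgroup.orderOf_mk] at hzo
  have hzN := hall z hzo
  refine ⟨z * y * z⁻¹ * y⁻¹, ?_, ?_⟩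
  · rw [show z * y * z⁻¹ * y⁻¹ = z * (y * z⁻¹ * y⁻¹) by group]
    exact mul_mem hzN ((inferInstance : N.Normal).conj_mem _ (inv_mem hzN) y)
  · have hm : z * y * z⁻¹ * y⁻¹ ∈ zpowers y :=
      mul_mem ((mem_normalizer_iff.1 hz y).1 (mem_zpowers y)) (inv_mem (mem_zpowers y))
    have hd := Subgroup.orderOf_dvd_natCard _ hm
    rw [Nat.card_zpowers, hy] at hd
    refine ((Nat.dvd_prime hr.out).1 hd).resolve_left fun e => hC ?_
    rw [orderOf_eq_one_iff, mul_inv_eq_one, mul_inv_eq_iff_eq_mul] at e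
    exact hzo ▸ Subgroup.orderOf_dvd_natCard _ (mem_centralizer_singleton_iff.2 e)

theorem sum_cnt_le {N : Subgroup G} (S : Finset ℕ)
    (hS : ∀ n ∈ S, ∀ g : G, orderOf g = n → g ∈ N) : ∑ n ∈ S, cnt G n ≤ Nat.card N := by
  classical
  have := Fintype.ofFinite G
  rw [← Finset.sum_attach]
  refine le_trans (le_of_eq (Nat.card_sigma (β := fun n : S => {g : G // orderOf g = n.1})).symm) ?_
  refine Nat.card_le_card_of_injective (fun p => (⟨p.2.1, hS _ p.1.2 _ p.2.2⟩ : N)) ?_
  rintro ⟨⟨n, hn⟩, g, hg⟩ ⟨⟨m, hm⟩, g', hg'⟩ e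
  obtain rfl : g = g' := congrArg (fun z : N => (z : G)) e
  obtain rfl : n = m := hg.symm.trans hg'
  rfl

theorem simple (h : Hyp G) : IsSimpleGroup G := by
  classical
  have : Nontrivial G := Finite.one_lt_card_iff_nontrivial.1 (by rw [h.card]; norm_num)
  have f2 : Fact (Nat.Prime 2) := ⟨Nat.prime_two⟩
  have f3 : Fact (Nat.Prime 3) := ⟨Nat.prime_three⟩
  have f5 : Fact (Nat.Prime 5) := ⟨by norm_num⟩
  have f7 : Fact (Nat.Prime 7) := ⟨by norm_num⟩
  have f11 : Fact (Nat.Prime 11) := ⟨by norm_num⟩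
  have f23 : Fact (Nat.Prime 23) := ⟨by norm_num⟩
  have elt : ∀ p : ℕ, p.Prime → p ∣ 10200960 → ∃ g : G, orderOf g = p := fun p hp hd => by
    have : Fact p.Prime := ⟨hp⟩
    exact exists_prime_orderOf_dvd_card' (G := G) p (h.card ▸ hd)
  refine ⟨fun N hN => ?_⟩
  by_cases hbot : N = ⊥
  · exact Or.inl hbot
  right
  have hd : Nat.card N ∣ 10200960 := h.card ▸ N.card_subgroup_dvd_card
  have mem : ∀ p : ℕ, p.Prime → p ∣ Nat.card N → ∃ g ∈ N, orderOf g = p := fun p hp hpd => by
    have : Fact p.Prime := ⟨hp⟩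
    obtain ⟨⟨g, hg⟩, hgo⟩ := exists_prime_orderOf_dvd_card' (G := N) p hpd
    exact ⟨g, hg, by rwa [Subgroup.orderOf_mk] at hgo⟩
  have one : ∀ p : ℕ, p.Prime → p ∈ [5, 7, 11, 23] → (∃ g ∈ N, orderOf g = p) →
      ∀ g : G, orderOf g = p → g ∈ N := by
    intro p hp hmem ⟨y, hy, hyo⟩ g hg
    have : Fact p.Prime := ⟨hp⟩
    refine mem_of_one ?_ ?_ hy hyo hg <;> rw [h.card] <;>
      simp only [List.mem_cons, List.not_mem_nil, or_false] at hmem <;>
      rcases hmem with rfl | rfl | rfl | rfl <;> norm_num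
  have all2 : (∃ g ∈ N, orderOf g = 2) → ∀ g : G, orderOf g = 2 → g ∈ N := by
    rintro ⟨y, hy, hyo⟩ g hg
    obtain ⟨c, rfl⟩ := isConj_iff.1 (isConj_two h hyo hg)
    exact hN.conj_mem y hy c
  have all3 : (∃ g ∈ N, orderOf g = 3) → ∀ g : G, orderOf g = 3 → g ∈ N := by
    rintro ⟨y, hy, hyo⟩ g hg
    obtain ⟨c, rfl⟩ := isConj_iff.1 (isConj_three h hyo hg)
    exact hN.conj_mem y hy c
  have s37 : (∃ g ∈ N, orderOf g = 3) → ∃ g ∈ N, orderOf g = 7 := fun h3 => by
    obtain ⟨y, hy⟩ := elt 7 (by norm_num) (by norm_num)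
    exact step (q := 3) hy (by rw [norm_seven h hy]; norm_num) (by rw [cent_seven h hy]; norm_num) (all3 h3)
  by_cases h2 : 2 ∣ Nat.card N
  · have a2 := all2 (mem 2 Nat.prime_two h2)
    have a5 := one 5 (by norm_num) (by simp) (by
      obtain ⟨y, hy⟩ := elt 5 (by norm_num) (by norm_num)
      exact step (q := 2) hy (by rw [norm_five h hy]; norm_num) (by rw [cent_five h hy]; norm_num) a2)
    have a11 := one 11 (by norm_num) (by simp) (by
      obtain ⟨y, hy⟩ := elt 11 (by norm_num) (by norm_num)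
      exact step (q := 5) hy (by rw [norm_eleven h hy]; norm_num) (by rw [cent_eleven h hy]; norm_num) a5)
    have a23 := one 23 (by norm_num) (by simp) (by
      obtain ⟨y, hy⟩ := elt 23 (by norm_num) (by norm_num)
      exact step (q := 11) hy (by rw [norm_twentythree h hy]; norm_num)
        (by rw [cent_twentythree h hy]; norm_num) a11)
    have h1 := sum_cnt_le (N := N) {2, 5, 11, 23} (by
      intro n hn g hg
      simp only [Finset.mem_insert, Finset.mem_singleton] at hn
      rcases hn with rfl | rfl | rfl | rfl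
      exacts [a2 g hg, a5 g hg, a11 g hg, a23 g hg])
    simp only [Finset.sum_insert, Finset.sum_singleton, Finset.mem_insert, Finset.mem_singleton,
      or_self, not_false_eq_true, Nat.reduceEqDiff, h.cnt_two, h.cnt_five,
      h.cnt_eleven, h.cnt_twentythree] at h1
    have hmul := N.card_mul_index
    rw [h.card] at hmul
    have hi : N.index ≤ 2 := by
      by_contra hgt
      have := Nat.mul_le_mul h1 (show 3 ≤ N.index by omega)
      omega
    refine index_eq_one.1 ?_
    have hi0 : N.index ≠ 0 := index_ne_zero_of_finite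
    by_contra hne
    have hi2 : N.index = 2 := by omega
    have hodd : ∀ g : G, Odd (orderOf g) → g ∈ N := by
      intro g hg
      refine mem_of_coprime_index (K := ⊤) (by rw [normalizer_eq_top]) (mem_top g) ?_
      rw [relIndex_top_right, hi2]
      exact Nat.coprime_two_right.2 hg
    have h3 := sum_cnt_le (N := N) {2, 3, 5, 7, 11, 15, 23} (by
      intro n hn g hg
      simp only [Finset.mem_insert, Finset.mem_singleton] at hn
      rcases hn with rfl | rfl | rfl | rfl | rfl | rfl | rfl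
      all_goals first
        | exact a2 g hg
        | exact hodd g (by rw [hg]; decide))
    simp only [Finset.sum_insert, Finset.sum_singleton, Finset.mem_insert, Finset.mem_singleton,
      or_self, not_false_eq_true, Nat.reduceEqDiff, h.cnt_two, h.cnt_three,
      h.cnt_five, h.cnt_seven, h.cnt_eleven, h.cnt_twentythree, cnt_fifteen h] at h3
    rw [hi2] at hmul
    omega
  · exfalso
    have hle : Nat.card N ≤ 79695 := by
      refine Nat.le_of_dvd (by norm_num) (Nat.Coprime.dvd_of_dvd_mul_left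
        ?_ (show Nat.card N ∣ 2 ^ 7 * 79695 by norm_num; exact hd))
      exact (Nat.Coprime.pow_left 7 ((Nat.Prime.coprime_iff_not_dvd Nat.prime_two).2 h2)).symm
    have big : ∀ p : ℕ, p.Prime → p ∈ [5, 7, 11, 23] → ¬ ∃ g ∈ N, orderOf g = p := by
      intro p hp hmem hex
      have h1 := sum_cnt_le (N := N) {p} (fun n hn g hg => by
        obtain rfl := Finset.mem_singleton.1 hn
        exact one _ hp hmem hex g hg)
      rw [Finset.sum_singleton] at h1
      simp only [List.mem_cons, List.not_mem_nil, or_false] at hmem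
      rcases hmem with rfl | rfl | rfl | rfl
      · rw [h.cnt_five] at h1; omega
      · rw [h.cnt_seven] at h1; omega
      · rw [h.cnt_eleven] at h1; omega
      · rw [h.cnt_twentythree] at h1; omega
    have hne1 : Nat.card N ≠ 1 := fun e => hbot (card_eq_one.1 e)
    obtain ⟨p, hp, hpd⟩ := Nat.exists_prime_and_dvd hne1
    have hpG : p ∣ 2 ^ 7 * 3 ^ 2 * 5 * 7 * 11 * 23 := by norm_num; exact hpd.trans hd
    simp only [hp.dvd_mul] at hpG
    have pr : ∀ {q : ℕ}, q.Prime → p ∣ q → p = q := fun hq hd' =>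
      (Nat.prime_dvd_prime_iff_eq hp hq).1 hd'
    rcases hpG with ((((e | e) | e) | e) | e) | e
    · exact h2 (pr Nat.prime_two (hp.dvd_of_dvd_pow e) ▸ hpd)
    · exact big 7 (by norm_num) (by simp) (s37 (mem 3 Nat.prime_three
        (pr Nat.prime_three (hp.dvd_of_dvd_pow e) ▸ hpd)))
    · exact big 5 (by norm_num) (by simp) (mem 5 (by norm_num) (pr (by norm_num) e ▸ hpd))
    · exact big 7 (by norm_num) (by simp) (mem 7 (by norm_num) (pr (by norm_num) e ▸ hpd))
    · exact big 11 (by norm_num) (by simp) (mem 11 (by norm_num) (pr (by norm_num) e ▸ hpd))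
    · exact big 23 (by norm_num) (by simp) (mem 23 (by norm_num) (pr (by norm_num) e ▸ hpd))

end CfsgLib.ClassK.M23Nse
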