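import Cfsg.Agent.Lib.ClassK.M23Nse.Core
import Cfsg.Agent.Lib.ClassK.M23Nse.Simple
import Cfsg.Agent.Lib.ClassK.M23Nse.Model
import Cfsg.Agent.Lib.ClassK.M23Nse.Geom.Final

/-!
A group with the order and the order counts of `M₂₃` is isomorphic to it.
-/

set_option autoImplicit false
set_option linter.unusedSectionVars false

namespace CfsgLib.ClassK.M23Nse

open Subgroup CfsgLib.StructB.OrderCount

universe u

variable {G : Type u} [Group G] [Finite G]

theorem nseM23_eq : nseM23 = vals := by decide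

theorem hyp_of_nse (hcard : Nat.card G = 10200960)
    (hnse : {c : ℕ | 0 < c ∧ ∃ n : ℕ, c = Nat.card {g : G // orderOf g = n}} = ↑nseM23) : Hyp G where
  card := hcard
  val n hn := by
    have : cnt G n ∈ ({c : ℕ | 0 < c ∧ ∃ n : ℕ, c = Nat.card {g : G // orderOf g = n}}) :=
      ⟨Nat.pos_of_ne_zero hn, n, rfl⟩
    rw [hnse, nseM23_eq] at this
    exact this
  ach c hc := by
    have : c ∈ ({c : ℕ | 0 < c ∧ ∃ n : ℕ, c = Nat.card {g : G // orderOf g = n}}) := by
      rw [hnse, nseM23_eq]; exact hc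
    obtain ⟨-, n, e⟩ := this
    exact ⟨n, e.symm⟩

theorem iso_of_hyp (h : Hyp G) : Cfsg.Spor.IsoM23 G := by
  have := simple h
  obtain ⟨d⟩ := nonempty_eData h
  exact iso_of_eData d

end CfsgLib.ClassK.M23Nse
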