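import Mathlib

/-!
The local data at an elementary abelian subgroup of order sixteen from which `M₂₃` is recognised.
-/

set_option autoImplicit false

namespace CfsgLib.ClassK.M23Nse

open Subgroup

universe u

/-- An elementary abelian subgroup of order sixteen with the properties of the kernel of the
heptad stabiliser in `M₂₃`. -/
structure EData (G : Type u) [Group G] [Finite G] where
  E : Subgroup G
  card_G : Nat.card G = 10200960
  card_E : Nat.card E = 16
  sq : ∀ a ∈ E, a * a = 1
  card_norm : Nat.card (normalizer (E : Set G)) = 40320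
  cent_two : ∀ t ∈ E, t ≠ 1 → Nat.card (centralizer ({t} : Set G)) = 2688
  cent_five : ∀ x : G, orderOf x = 5 → Nat.card (centralizer ({x} : Set G)) = 15
  norm_five : ∀ x : G, orderOf x = 5 → Nat.card (normalizer (zpowers x : Set G)) = 60
  cent_seven : ∀ x : G, orderOf x = 7 → Nat.card (centralizer ({x} : Set G)) = 14
  ti : ∀ g a : G, a ∈ E → a ≠ 1 → g * a * g⁻¹ ∈ E → g ∈ normalizer (E : Set G)
  fix_four : ∀ v ∈ normalizer (E : Set G), orderOf v = 2 → v ∉ E →
    Nat.card (E ⊓ centralizer ({v} : Set G) : Subgroup G) = 4

end CfsgLib.ClassK.M23Nse
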