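import Cfsg.Agent.Lib.ClassK.M23Nse.Small
import Cfsg.Agent.Lib.ClassK.M23Nse.Data

/-!
The elementary abelian subgroup of order sixteen of `C(t)` and the local data at it.
-/

set_option autoImplicit false
set_option linter.unusedSectionVars false

namespace CfsgLib.ClassK.M23Nse

open Subgroup CfsgLib.StructB.OrderCount

universe u

variable {G : Type u} [Group G] [Finite G]

theorem card_inf_cent_conj {E : Subgroup G} {n : G} (hn : n ∈ normalizer (E : Set G)) (b : G) :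
    Nat.card (E ⊓ centralizer ({n * b * n⁻¹} : Set G) : Subgroup G) =
      Nat.card (E ⊓ centralizer ({b} : Set G) : Subgroup G) := by
  have he : (E ⊓ centralizer ({b} : Set G)).map (MulAut.conj n).toMonoidHom =
      E ⊓ centralizer ({n * b * n⁻¹} : Set G) := by
    ext g
    constructor
    · rintro ⟨a, ha, rfl⟩
      refine mem_inf.2 ⟨(mem_normalizer_iff.1 hn a).1 (mem_inf.1 ha).1, mem_centralizer_singleton_iff.2 ?_⟩
      exact ((show Commute a b from mem_centralizer_singleton_iff.1 (mem_inf.1 ha).2).map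
        (MulAut.conj n).toMonoidHom).eq
    · intro hg
      obtain ⟨hgE, hgb⟩ := mem_inf.1 hg
      refine ⟨n⁻¹ * g * n, mem_inf.2 ⟨?_, mem_centralizer_singleton_iff.2 ?_⟩, ?_⟩
      · simpa using (mem_normalizer_iff.1 (inv_mem hn) g).1 hgE
      · have := (show Commute g (n * b * n⁻¹) from mem_centralizer_singleton_iff.1 hgb).map
          (MulAut.conj n⁻¹).toMonoidHom
        simpa [mul_assoc] using this.eq
      · show n * (n⁻¹ * g * n) * n⁻¹ = g
        group
  rw [← he, card_map_of_injective (MulAut.conj n).injective]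

namespace Loc

variable (c : Loc G)

/-- The normal elementary abelian subgroup of order sixteen. -/
noncomputable def E : Subgroup G := c.exists_E.choose

theorem E_le : c.E ≤ c.L := c.exists_E.choose_spec.1

theorem L_norm_E : c.L ≤ normalizer (c.E : Set G) := c.exists_E.choose_spec.2.1

theorem card_E : Nat.card c.E = 16 := c.exists_E.choose_spec.2.2.1

theorem V_le_E : c.V ≤ c.E := c.exists_E.choose_spec.2.2.2.1

theorem sq_E {a : G} (ha : a ∈ c.E) : a * a = 1 := c.exists_E.choose_spec.2.2.2.2 a ha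

theorem inv_E {a : G} (ha : a ∈ c.E) : a⁻¹ = a := inv_eq_of_mul_eq_one_right (c.sq_E ha)

theorem E_comm {a b : G} (ha : a ∈ c.E) (hb : b ∈ c.E) : a * b = b * a := by
  calc a * b = (a * b)⁻¹ := eq_inv_of_mul_eq_one_left (c.sq_E (mul_mem ha hb))
    _ = b * a := by rw [mul_inv_rev, c.inv_E ha, c.inv_E hb]

theorem E_le_A : c.E ≤ c.A := fun _ ha =>
  c.mem_A.2 ⟨c.mem_L.1 (c.E_le ha), c.E_comm ha (c.V_le_E c.s_mem)⟩

theorem A_norm_E : c.A ≤ normalizer (c.E : Set G) := inf_le_left.trans c.L_norm_E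

theorem cent_E {g : G} (hg : ∀ e ∈ c.E, g * e = e * g) : g ∈ c.E := by
  set K := centralizer (c.E : Set G) with hK
  have hgK : g ∈ K := mem_centralizer_iff.2 fun e he => (hg e he).symm
  have hEK : c.E ≤ K := fun a ha => mem_centralizer_iff.2 fun e he => c.E_comm he ha
  have hKL : K ≤ c.L := fun a ha =>
    c.mem_L.2 (mem_centralizer_iff.1 ha c.t (c.V_le_E c.t_mem_V)).symm
  have hn : c.L ≤ normalizer (K : Set G) := by
    intro l hl
    refine mem_normalizer_fintype fun a ha => mem_centralizer_iff.2 fun e he => ?_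
    have he' : l⁻¹ * e * l ∈ c.E := by
      simpa using (mem_normalizer_iff.1 (inv_mem (c.L_norm_E hl)) e).1 he
    have := mem_centralizer_iff.1 ha _ he'
    calc e * (l * a * l⁻¹) = l * ((l⁻¹ * e * l) * a) * l⁻¹ := by group
      _ = l * (a * (l⁻¹ * e * l)) * l⁻¹ := by rw [this]
      _ = l * a * l⁻¹ * e := by group
  have hKA : K ≤ c.A := fun a ha => c.mem_A.2 ⟨c.mem_L.1 (hKL ha),
    (mem_centralizer_iff.1 ha c.s (c.V_le_E c.s_mem)).symm⟩
  have h16 := card_le_of_le hEK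
  rw [c.card_E] at h16
  obtain ⟨h, -, -⟩ := c.normal_sub hKL hn (hEK (c.V_le_E c.t_mem_V)) (by omega) fun e => by
    have := card_le_of_le hKA
    rw [e, c.card_L, c.card_A] at this
    omega
  exact (eq_of_le_of_card_ge hEK (by rw [c.card_E, h])).ge hgK

theorem E_cases {a : G} (ha : a ∈ c.E) (h1 : a ≠ 1) (ht : a ≠ c.t) :
    ∃ g ∈ c.L, g * c.s * g⁻¹ = a := by
  have h := orbit_count (K := c.L) (a := c.s) (c.V_le_A c.s_mem |> mem_inf.1).1
  rw [show (c.L ⊓ centralizer ({c.s} : Set G) : Subgroup G) = c.A from rfl, c.card_A, c.card_L] at h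
  have hsub : {b : G | ∃ g ∈ c.L, g * c.s * g⁻¹ = b} ⊆ (c.E : Set G) \ {1, c.t} := by
    rintro _ ⟨g, hg, rfl⟩
    refine ⟨(mem_normalizer_iff.1 (c.L_norm_E hg) c.s).1 (c.V_le_E c.s_mem), ?_⟩
    rintro (e | e)
    · exact c.s_ne_one (conj_eq_one_iff.1 e)
    · refine c.s_ne_t (mul_left_cancel (mul_right_cancel ((Set.mem_singleton_iff.1 e).trans ?_)))
      exact (mul_inv_eq_iff_eq_mul.2 (c.mem_L.1 hg)).symm
  have heq := Set.eq_of_subset_of_ncard_le hsub (by
    rw [Set.ncard_sdiff (show ({1, c.t} : Set G) ⊆ (c.E : Set G) by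
        rintro g (rfl | rfl)
        exacts [one_mem _, c.V_le_E c.t_mem_V]) (Set.toFinite _),
      Set.ncard_pair c.t_ne_one.symm, ← Nat.card_coe_set_eq (c.E : Set G), SetLike.coe_sort_coe,
      c.card_E]
    omega) (Set.toFinite _)
  exact heq.ge ⟨ha, by simp [h1, ht]⟩

theorem exists_R192 : ∃ R : Subgroup G, R ≤ c.A ∧ c.E ≤ R ∧ Nat.card R = 64 ∧
    c.A ≤ normalizer (R : Set G) ∧ (∀ g ∈ c.A, ∀ k : ℕ, orderOf g ∣ 2 ^ k → g ∈ R) := by
  classical
  have : Fact (Nat.Prime 2) := ⟨Nat.prime_two⟩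
  have : Fact (Nat.Prime 3) := ⟨Nat.prime_three⟩
  obtain ⟨T, hT⟩ := (IsPGroup.of_card (G := c.E.subgroupOf c.A) (p := 2) (n := 4)
    ((Nat.card_congr (subgroupOfEquivOfLe c.E_le_A).toEquiv).trans
      (c.card_E.trans (by norm_num)))).exists_le_sylow
  have hTc : Nat.card (T : Subgroup c.A) = 2 ^ 6 := card_sylow_exact T
    (by rw [c.card_A]; norm_num) (by rw [c.card_A]; norm_num)
  have hTi : (T : Subgroup c.A).index = 3 := by
    have := (T : Subgroup c.A).card_mul_index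
    rw [hTc, c.card_A] at this
    omega
  have hEn : (c.E.subgroupOf c.A).Normal := normal_subgroupOf_of_le_normalizer c.A_norm_E
  set K := (T : Subgroup c.A).normalCore with hK
  have hEK : c.E.subgroupOf c.A ≤ K := normal_le_normalCore.2 hT
  have hKi : K.index ∣ 6 := by
    rw [hK, normalCore_eq_ker, index_ker]
    refine (card_subgroup_dvd_card _).trans ?_
    rw [Nat.card_perm, ← index_eq_card, hTi]
    norm_num [Nat.factorial]
  set R := K.map c.A.subtype with hR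
  have hRA : R ≤ c.A := map_subtype_le _
  have hnR : c.A ≤ normalizer (R : Set G) := by
    intro g hg
    refine mem_normalizer_fintype ?_
    rintro a ⟨a', ha', rfl⟩
    exact ⟨_, (normalCore_normal _).conj_mem a' ha' ⟨g, hg⟩, rfl⟩
  have hER : c.E ≤ R := fun v hv => ⟨⟨v, c.E_le_A hv⟩, hEK hv, rfl⟩
  have hRK : Nat.card R = Nat.card K := card_map_of_injective c.A.subtype_injective
  have hmul := K.card_mul_index
  rw [c.card_A, ← hRK] at hmul
  have h3i : 3 ∣ K.index := hTi ▸ index_dvd_of_le (normalCore_le _)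
  have hRc : Nat.card R = 64 := by
    have hcases : K.index = 3 ∨ K.index = 6 := by
      have : ∀ m ∈ Nat.divisors 6, 3 ∣ m → m = 3 ∨ m = 6 := by decide
      exact this _ (Nat.mem_divisors.2 ⟨hKi, by norm_num⟩) h3i
    rcases hcases with e | e <;> rw [e] at hmul
    · omega
    · exfalso
      have h32 : Nat.card R = 32 := by omega
      have heq : R ⊓ centralizer ({c.x} : Set G) = c.V :=
        le_antisymm (c.inf_cent_x_le (hRA.trans inf_le_left) (k := 5) (h32.trans (by norm_num)))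
          (le_inf (c.V_le_E.trans hER) fun v hv =>
            mem_centralizer_singleton_iff.2 (c.commute_V_x hv))
      have := card_modEq_fixed (p := 3) c.hx (hnR c.x_mem_A)
      rw [heq, h32, c.card_V] at this
      norm_num at this
  have hrel : R.relIndex c.A = 3 := by
    have h1 := (R.subgroupOf c.A).card_mul_index
    rw [Nat.card_congr (subgroupOfEquivOfLe hRA).toEquiv, hRc, c.card_A] at h1
    show (R.subgroupOf c.A).index = 3
    omega
  exact ⟨R, hRA, hER, hRc, hnR, fun g hg k hk => mem_of_coprime_index hnR hg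
    (Nat.Coprime.coprime_dvd_left hk (by rw [hrel]; exact Nat.Coprime.pow_left k (by norm_num)))⟩

theorem two_pow_inter {F : Subgroup G} {n : ℕ} (hc : Nat.card F = 2 ^ n) (hF : F ≤ c.L)
    (hV : c.V ≤ F) (hx : c.x ∈ normalizer (F : Set G)) : 2 ^ n % 3 = 1 := by
  have : Fact (Nat.Prime 3) := ⟨Nat.prime_three⟩
  have heq : F ⊓ centralizer ({c.x} : Set G) = c.V :=
    le_antisymm (c.inf_cent_x_le hF hc)
      (le_inf hV fun v hv => mem_centralizer_singleton_iff.2 (c.commute_V_x hv))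
  have := card_modEq_fixed (p := 3) c.hx hx
  rw [heq, hc, c.card_V] at this
  exact this

theorem x_cube : c.x * c.x * c.x = 1 := by
  rw [← pow_two, ← pow_succ, show 2 + 1 = orderOf c.x from c.hx.symm, pow_orderOf_eq_one]

/-- An involution of `A` centralising a hyperplane of `E` lies in `E`. -/
theorem fix8_A {b : G} (hbA : b ∈ c.A) (hb : b * b = 1)
    (h8 : 8 ≤ Nat.card (c.E ⊓ centralizer ({b} : Set G) : Subgroup G)) : b ∈ c.E := by
  classical
  by_contra hbE
  obtain ⟨R, hRA, hER, hRc, hnR, hmem⟩ := c.exists_R192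
  have hbR : b ∈ R := hmem b hbA 1 (orderOf_dvd_of_pow_eq_one (by rw [pow_one, pow_two, hb]))
  have hRL : R ≤ c.L := hRA.trans inf_le_left
  have hbi : b⁻¹ = b := inv_eq_of_mul_eq_one_right hb
  obtain ⟨a₀, ha₀, hb₀, ha₀V⟩ : ∃ a ∈ c.E, b * a = a * b ∧ a ∉ c.V := by
    by_contra hh
    push Not at hh
    have hle : c.E ⊓ centralizer ({b} : Set G) ≤ c.V := fun g hg =>
      hh g (mem_inf.1 hg).1 (mem_centralizer_singleton_iff.1 (mem_inf.1 hg).2).symm
    have := h8.trans (card_le_of_le hle)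
    rw [c.card_V] at this
    omega
  -- congruence modulo the four-group
  have hEx : ∀ {e}, e ∈ c.E → ∀ g ∈ c.A, g * e * g⁻¹ ∈ c.E := fun he g hg =>
    (mem_normalizer_iff.1 (c.A_norm_E hg) _).1 he
  have hVfix : ∀ {v}, v ∈ c.V → ∀ g ∈ c.A, g * v * g⁻¹ = v := fun hv g hg =>
    mul_inv_eq_iff_eq_mul.2 (c.A_comm hg hv)
  have hcong : ∀ {p q}, q⁻¹ * p ∈ c.V → ∀ g ∈ c.A, (g * q * g⁻¹)⁻¹ * (g * p * g⁻¹) ∈ c.V :=
    fun {p q} h g hg => by
      rw [show (g * q * g⁻¹)⁻¹ * (g * p * g⁻¹) = g * (q⁻¹ * p) * g⁻¹ by group, hVfix h g hg]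
      exact h
  have htrans : ∀ {p q r}, q⁻¹ * p ∈ c.V → r⁻¹ * q ∈ c.V → r⁻¹ * p ∈ c.V := fun {p q r} h h' => by
    rw [show r⁻¹ * p = r⁻¹ * q * (q⁻¹ * p) by group]; exact mul_mem h' h
  have hsymm : ∀ {p q}, q⁻¹ * p ∈ c.V → p⁻¹ * q ∈ c.V := fun {p q} h => by
    rw [show p⁻¹ * q = (q⁻¹ * p)⁻¹ by group]; exact inv_mem h
  set a₁ := c.x * a₀ * c.x⁻¹ with ha₁d
  set a₂ := c.x * a₁ * c.x⁻¹ with ha₂d
  have ha₁ : a₁ ∈ c.E := hEx ha₀ _ c.x_mem_A
  have ha₂ : a₂ ∈ c.E := hEx ha₁ _ c.x_mem_A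
  have hx3 : c.x * a₂ * c.x⁻¹ = a₀ := by
    calc c.x * a₂ * c.x⁻¹ = (c.x * c.x * c.x) * a₀ * (c.x * c.x * c.x)⁻¹ := by
          rw [ha₂d, ha₁d]; group
      _ = a₀ := by rw [c.x_cube]; group
  have hfix : ∀ a ∈ c.E, a ∉ c.V → ¬ a⁻¹ * (c.x * a * c.x⁻¹) ∈ c.V := by
    intro a ha haV hv
    set v := a⁻¹ * (c.x * a * c.x⁻¹) with hvd
    have e : c.x * a * c.x⁻¹ = a * v := by rw [hvd]; group
    have hxv := hVfix hv _ c.x_mem_A
    have e2 : c.x * (c.x * a * c.x⁻¹) * c.x⁻¹ = a := by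
      calc c.x * (c.x * a * c.x⁻¹) * c.x⁻¹ = c.x * a * c.x⁻¹ * (c.x * v * c.x⁻¹) := by
            conv_lhs => rw [e]
            group
        _ = a * (v * v) := by rw [e, hxv]; group
        _ = a := by rw [c.sq_V hv, mul_one]
    have e3 : c.x * a * c.x⁻¹ = a := by
      calc c.x * a * c.x⁻¹ = c.x * (c.x * (c.x * a * c.x⁻¹) * c.x⁻¹) * c.x⁻¹ := by rw [e2]
        _ = (c.x * c.x * c.x) * a * (c.x * c.x * c.x)⁻¹ := by group
        _ = a := by rw [c.x_cube]; group
    exact haV (c.inf_cent_x_le c.E_le (k := 4) (c.card_E.trans (by norm_num))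
      (mem_inf.2 ⟨ha, mem_centralizer_singleton_iff.2 (mul_inv_eq_iff_eq_mul.1 e3).symm⟩))
  have ha₁V : a₁ ∉ c.V := fun h => ha₀V (by
    have h' := hVfix h _ (inv_mem c.x_mem_A)
    rw [ha₁d, show c.x⁻¹ * (c.x * a₀ * c.x⁻¹) * c.x⁻¹⁻¹ = a₀ by group] at h'
    rwa [h', ← ha₁d])
  have ha₂V : a₂ ∉ c.V := fun h => ha₁V (by
    have h' := hVfix h _ (inv_mem c.x_mem_A)
    rw [ha₂d, show c.x⁻¹ * (c.x * a₁ * c.x⁻¹) * c.x⁻¹⁻¹ = a₁ by group] at h'
    rwa [h', ← ha₂d])
  have n01 : ¬ a₀⁻¹ * a₁ ∈ c.V := hfix a₀ ha₀ ha₀V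
  have n12 : ¬ a₁⁻¹ * a₂ ∈ c.V := hfix a₁ ha₁ ha₁V
  have n20 : ¬ a₂⁻¹ * a₀ ∈ c.V := hx3 ▸ hfix a₂ ha₂ ha₂V
  -- four cosets
  have hcos : ∀ e ∈ c.E, e ∈ c.V ∨ a₀⁻¹ * e ∈ c.V ∨ a₁⁻¹ * e ∈ c.V ∨ a₂⁻¹ * e ∈ c.V := by
    let f : Fin 4 × c.V → G := fun p => ![1, a₀, a₁, a₂] p.1 * (p.2 : G)
    have hfi : Function.Injective f := by
      rintro ⟨i, v⟩ ⟨j, v'⟩ e
      have hsep : ∀ p q : G, ¬ p⁻¹ * q ∈ c.V → p * (v : G) ≠ q * v' ∧ q * (v : G) ≠ p * v' := by
        intro p q h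
        refine ⟨fun e => h ?_, fun e => h (hsymm ?_)⟩
        · rw [show p⁻¹ * q = p⁻¹ * (q * v') * (v' : G)⁻¹ by group, ← e,
            show p⁻¹ * (p * v) * (v' : G)⁻¹ = (v : G) * (v' : G)⁻¹ by group]
          exact mul_mem v.2 (inv_mem v'.2)
        · rw [show q⁻¹ * p = q⁻¹ * (p * v') * (v' : G)⁻¹ by group, ← e,
            show q⁻¹ * (q * v) * (v' : G)⁻¹ = (v : G) * (v' : G)⁻¹ by group]
          exact mul_mem v.2 (inv_mem v'.2)
      have h0 := hsep 1 a₀ (by simpa using ha₀V)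
      have h1 := hsep 1 a₁ (by simpa using ha₁V)
      have h2 := hsep 1 a₂ (by simpa using ha₂V)
      simp only [one_mul] at h0 h1 h2
      have h01 := hsep a₀ a₁ n01
      have h12 := hsep a₁ a₂ n12
      have h20 := hsep a₂ a₀ n20
      fin_cases i <;> fin_cases j <;> simp [f] at e ⊢ <;>
        first
          | exact e
          | exact h0.1 e
          | exact h0.2 e
          | exact h1.1 e
          | exact h1.2 e
          | exact h2.1 e
          | exact h2.2 e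
          | exact h01.1 e
          | exact h01.2 e
          | exact h12.1 e
          | exact h12.2 e
          | exact h20.1 e
          | exact h20.2 e
    have hsub : Set.range f ⊆ (c.E : Set G) := by
      rintro _ ⟨⟨i, v⟩, rfl⟩
      fin_cases i <;> simp [f]
      exacts [c.V_le_E v.2, mul_mem ha₀ (c.V_le_E v.2), mul_mem ha₁ (c.V_le_E v.2),
        mul_mem ha₂ (c.V_le_E v.2)]
    have heq := Set.eq_of_subset_of_ncard_le hsub (by
      rw [Set.ncard_range_of_injective hfi, ← Nat.card_coe_set_eq, SetLike.coe_sort_coe, c.card_E,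
        Nat.card_prod, Nat.card_fin, c.card_V]) (Set.toFinite _)
    intro e he
    obtain ⟨⟨i, v⟩, rfl⟩ : e ∈ Set.range f := heq ▸ he
    fin_cases i <;> simp [f]
  -- `b` fixes the coset of `a₁`
  have hb₁ : a₁⁻¹ * (b * a₁ * b⁻¹) ∈ c.V := by
    rcases hcos _ (hEx ha₁ b hbA) with h | h | h | h
    · refine absurd ?_ ha₁V
      have h' := hVfix h b hbA
      rw [hbi, show b * (b * a₁ * b) * b = (b * b) * a₁ * (b * b) by group, hb, one_mul,
        mul_one] at h'
      rw [hbi] at h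
      rwa [← h'] at h
    · refine absurd ?_ n01
      have h' := hcong h b hbA
      rw [show b * a₀ * b⁻¹ = a₀ by rw [hb₀, mul_inv_cancel_right],
        show b * (b * a₁ * b⁻¹) * b⁻¹ = (b * b) * a₁ * (b * b)⁻¹ by group, hb, one_mul, inv_one,
        mul_one] at h'
      exact h'
    · exact h
    · exfalso
      have hb2 : a₁⁻¹ * (b * a₂ * b⁻¹) ∈ c.V := by
        have h' := hcong h b hbA
        rw [show b * (b * a₁ * b⁻¹) * b⁻¹ = (b * b) * a₁ * (b * b)⁻¹ by group, hb, one_mul, inv_one,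
          mul_one] at h'
        exact hsymm h'
      set g := b * (c.x * b * c.x⁻¹) with hg
      have hxbR : c.x * b * c.x⁻¹ ∈ R := (mem_normalizer_iff.1 (hnR c.x_mem_A) b).1 hbR
      have hgR : g ∈ R := mul_mem hbR hxbR
      have hxi : ∀ q : G, c.x⁻¹ * (c.x * q * c.x⁻¹) * c.x = q := fun q => by group
      have himg : ∀ p q : G, q⁻¹ * (b * p * b⁻¹) ∈ c.V →
          (b * (c.x * q * c.x⁻¹) * b⁻¹)⁻¹ * (g * (c.x * p * c.x⁻¹) * g⁻¹) ∈ c.V := by
        intro p q hpq
        have h2 := hcong (hcong hpq c.x c.x_mem_A) b hbA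
        convert h2 using 1
        rw [hg]; group
      have g1 : a₂⁻¹ * (g * a₁ * g⁻¹) ∈ c.V := by
        refine htrans (himg a₀ a₀ ?_) h
        rw [hb₀, mul_inv_cancel_right, inv_mul_cancel]; exact one_mem _
      have g2 : a₀⁻¹ * (g * a₂ * g⁻¹) ∈ c.V := by
        refine htrans (himg a₁ a₂ h) ?_
        rw [hx3, hb₀, mul_inv_cancel_right, inv_mul_cancel]; exact one_mem _
      have g0 : a₁⁻¹ * (g * a₀ * g⁻¹) ∈ c.V := by
        rw [← hx3]
        exact htrans (himg a₂ a₁ hb2) hb2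
      let sq : ℕ → G := fun i => if i % 3 = 0 then a₁ else if i % 3 = 1 then a₂ else a₀
      have hpow : ∀ n : ℕ, (sq n)⁻¹ * (g ^ n * a₁ * (g ^ n)⁻¹) ∈ c.V := by
        intro n
        induction n with
        | zero => simp [sq]
        | succ n ih =>
          have h' := hcong ih g (hRA hgR)
          rw [show g * (g ^ n * a₁ * (g ^ n)⁻¹) * g⁻¹ = g ^ (n + 1) * a₁ * (g ^ (n + 1))⁻¹ by
            rw [pow_succ']; group] at h'
          refine htrans h' ?_
          rcases (show n % 3 = 0 ∨ n % 3 = 1 ∨ n % 3 = 2 by omega) with e | e | e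
          · simpa [sq, e, show (n + 1) % 3 = 1 by omega] using g1
          · simpa [sq, e, show (n + 1) % 3 = 2 by omega] using g2
          · simpa [sq, e, show (n + 1) % 3 = 0 by omega] using g0
      have h64 := hpow 64
      have hg64 : g ^ 64 = 1 := hRc ▸ (orderOf_dvd_iff_pow_eq_one.1 (Subgroup.orderOf_dvd_natCard _ hgR))
      rw [hg64] at h64
      simp [sq] at h64
      exact n12 (hsymm h64)
  set d := a₁⁻¹ * (b * a₁ * b⁻¹) with hd
  -- all commutators lie in `⟨d⟩`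
  let S : Subgroup G :=
    { carrier := {r | r ∈ c.A ∧ ∀ e ∈ c.E, r * e * r⁻¹ * e⁻¹ ∈ zpowers d}
      one_mem' := ⟨one_mem _, fun e _ => by simp⟩
      mul_mem' := by
        rintro r r' ⟨hr, hr'⟩ ⟨hq, hq'⟩
        refine ⟨mul_mem hr hq, fun e he => ?_⟩
        have h1 := hq' e he
        have h1V : r' * e * r'⁻¹ * e⁻¹ ∈ c.V := (zpowers_le.2 hb₁) h1
        have := mul_mem h1 (hr' e he)
        rw [← hVfix h1V r hr] at this
        convert this using 1
        group
      inv_mem' := by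
        rintro r ⟨hr, hr'⟩
        refine ⟨inv_mem hr, fun e he => ?_⟩
        have he' : r⁻¹ * e * r ∈ c.E := by simpa using hEx he _ (inv_mem hr)
        have h1 := inv_mem (hr' _ he')
        convert h1 using 1
        group }
  have hbS : b ∈ S := by
    refine ⟨hbA, ?_⟩
    let M : Subgroup G :=
      { carrier := {e | e ∈ c.E ∧ b * e * b⁻¹ * e⁻¹ ∈ zpowers d}
        one_mem' := ⟨one_mem _, by simp⟩
        mul_mem' := by
          rintro p q ⟨hp, hp'⟩ ⟨hq, hq'⟩
          refine ⟨mul_mem hp hq, ?_⟩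
          have hqE : b * q * b⁻¹ * q⁻¹ ∈ c.E := c.V_le_E ((zpowers_le.2 hb₁) hq')
          have e : b * (p * q) * b⁻¹ * (p * q)⁻¹ =
              (b * p * b⁻¹ * p⁻¹) * (p * (b * q * b⁻¹ * q⁻¹) * p⁻¹) := by group
          rw [e, c.E_comm hp hqE, mul_inv_cancel_right]
          exact mul_mem hp' hq'
        inv_mem' := by
          rintro p ⟨hp, hp'⟩
          refine ⟨inv_mem hp, ?_⟩
          rw [c.inv_E hp]; exact hp' }
    have hVM : c.V ≤ M := fun v hv =>
      ⟨c.V_le_E hv, by rw [hVfix hv b hbA, mul_inv_cancel]; exact one_mem _⟩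
    have h0M : a₀ ∈ M := ⟨ha₀, by rw [hb₀]; simp⟩
    have h1M : a₁ ∈ M := ⟨ha₁, by
      have hd' : b * a₁ * b⁻¹ * a₁⁻¹ = d := by
        rw [c.E_comm (hEx ha₁ b hbA) (inv_mem ha₁)]
      rw [hd']; exact mem_zpowers d⟩
    have h2M : ∀ e ∈ c.E, e ∈ M := by
      intro e he
      have hm : ∀ {p}, p ∈ M → p⁻¹ * e ∈ c.V → e ∈ M := fun hp h => by
        have := mul_mem hp (hVM h)
        rwa [mul_inv_cancel_left] at this
      rcases hcos e he with h | h | h | h
      · exact hVM h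
      · exact hm h0M h
      · exact hm h1M h
      · have hp : a₀ * a₁ ∈ M := mul_mem h0M h1M
        refine hm hp ?_
        rcases hcos _ (mul_mem ha₀ ha₁) with k | k | k | k
        · exact absurd (by rw [c.inv_E ha₀]; exact k) n01
        · exact absurd (by rw [inv_mul_cancel_left] at k; exact k) ha₁V
        · exact absurd (by rw [c.E_comm ha₀ ha₁, inv_mul_cancel_left] at k; exact k) ha₀V
        · exact htrans h (hsymm k)
    exact fun e he => (h2M e he).2
  have hEA : c.E ≤ S := fun r hr =>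
    ⟨c.E_le_A hr, fun e he => by rw [c.E_comm hr he]; simp⟩
  have hxS : ∀ r ∈ S, c.x * r * c.x⁻¹ ∈ S := by
    rintro r ⟨hr, hr'⟩
    refine ⟨mul_mem (mul_mem c.x_mem_A hr) (inv_mem c.x_mem_A), fun e he => ?_⟩
    have he' : c.x⁻¹ * e * c.x ∈ c.E := by simpa using hEx he _ (inv_mem c.x_mem_A)
    have h1 := hr' _ he'
    have h1V := (zpowers_le.2 hb₁) h1
    rw [← hVfix h1V _ c.x_mem_A] at h1
    convert h1 using 1
    group
  have hRS : R ≤ S := by
    set W := S ⊓ R with hW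
    have hd64 : Nat.card W ∣ 2 ^ 6 := by
      rw [show (2 : ℕ) ^ 6 = Nat.card R by rw [hRc]; norm_num]
      exact card_dvd_of_le inf_le_right
    obtain ⟨n, hn, hnc⟩ := (Nat.dvd_prime_pow Nat.prime_two).1 hd64
    have hEW : c.E ≤ W := le_inf hEA hER
    have hm := c.two_pow_inter hnc (inf_le_right.trans hRL) (c.V_le_E.trans hEW)
      (mem_normalizer_fintype fun r hr => mem_inf.2 ⟨hxS r (mem_inf.1 hr).1,
        (mem_normalizer_iff.1 (hnR c.x_mem_A) r).1 (mem_inf.1 hr).2⟩)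
    have h16 : 16 < 2 ^ n := by
      rw [← hnc, ← c.card_E]
      refine lt_of_le_of_ne (card_le_of_le hEW) fun e => hbE ?_
      exact (eq_of_le_of_card_ge hEW e.ge).ge (mem_inf.2 ⟨hbS, hbR⟩)
    have hn6 : n = 6 := by
      interval_cases n <;> first | rfl | (revert hm h16; norm_num)
    have := eq_of_le_of_card_ge (inf_le_right : W ≤ R) (by rw [hnc, hn6, hRc]; norm_num)
    exact this ▸ inf_le_left
  have hd1 : d ≠ 1 := by
    intro e
    have hcent : R ≤ c.E := fun r hr => c.cent_E fun e' he => by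
      have := (hRS hr).2 e' he
      rw [e, zpowers_one_eq_bot, mem_bot, mul_inv_eq_one] at this
      exact mul_inv_eq_iff_eq_mul.1 this
    have := card_le_of_le hcent
    rw [hRc, c.card_E] at this
    omega
  have hdt : d = c.t := by
    have hwd : c.w * d * c.w⁻¹ ∈ zpowers d := by
      have hwb : c.w * b * c.w⁻¹ ∈ R := hmem _ (c.mem_A_w hbA) 1 (orderOf_dvd_of_pow_eq_one (by
        rw [pow_one, conj_pow, pow_two, hb]; group))
      have hwa : c.w * a₁ * c.w⁻¹ ∈ c.E := (mem_normalizer_iff.1 (c.L_norm_E c.w_mem_L) _).1 ha₁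
      have h1 := (hRS hwb).2 _ hwa
      convert h1 using 1
      rw [hd, ← c.E_comm (hEx ha₁ b hbA) (inv_mem ha₁)]
      group
    obtain ⟨k, hk⟩ := mem_zpowers_iff.1 hwd
    have hdd : d * d = 1 := c.sq_V hb₁
    rcases Int.even_or_odd k with ⟨j, hj⟩ | ⟨j, hj⟩
    · exfalso
      rw [hj, ← two_mul, zpow_mul, zpow_two, hdd, one_zpow, eq_comm, conj_eq_one_iff] at hk
      exact hd1 hk
    · rw [hj, zpow_add, zpow_mul, zpow_two, hdd, one_zpow, one_mul, zpow_one] at hk
      rcases c.V_cases hb₁ with e | e | e | e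
      · exact absurd e hd1
      · exact e
      · rw [e, c.w_s] at hk; exact absurd hk.symm c.ts_ne_s
      · exfalso
        rw [e, show c.w * (c.t * c.s) * c.w⁻¹ = c.w * c.t * c.w⁻¹ * (c.w * c.s * c.w⁻¹) by group,
          c.w_t, c.w_s, ← mul_assoc, CfsgLib.Invol.invol_mul_self c.ht, one_mul] at hk
        exact c.ts_ne_s hk
  -- the kernel of the action on `E / ⟨t⟩`
  have ht2 : ∀ q ∈ zpowers c.t, ∀ g ∈ c.L, g * q * g⁻¹ = q := fun q hq g hg => by
    obtain ⟨k, rfl⟩ := mem_zpowers_iff.1 hq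
    rw [((show Commute g c.t from c.mem_L.1 hg).zpow_right k).eq, mul_inv_cancel_right]
  let K : Subgroup G :=
    { carrier := {r | r ∈ c.L ∧ ∀ e ∈ c.E, r * e * r⁻¹ * e⁻¹ ∈ zpowers c.t}
      one_mem' := ⟨one_mem _, fun e _ => by simp⟩
      mul_mem' := by
        rintro r r' ⟨hr, hr'⟩ ⟨hq, hq'⟩
        refine ⟨mul_mem hr hq, fun e he => ?_⟩
        have h1 := hq' e he
        rw [← ht2 _ h1 r hr] at h1
        convert mul_mem h1 (hr' e he) using 1
        group
      inv_mem' := by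
        rintro r ⟨hr, hr'⟩
        refine ⟨inv_mem hr, fun e he => ?_⟩
        have he' : r⁻¹ * e * r ∈ c.E := by
          simpa using (mem_normalizer_iff.1 (inv_mem (c.L_norm_E hr)) e).1 he
        convert inv_mem (hr' _ he') using 1
        group }
  have hRK : R ≤ K := fun r hr => ⟨hRL hr, fun e he => hdt ▸ (hRS hr).2 e he⟩
  have hnK : c.L ≤ normalizer (K : Set G) := by
    intro l hl
    refine mem_normalizer_fintype ?_
    rintro r ⟨hr, hr'⟩
    refine ⟨mul_mem (mul_mem hl hr) (inv_mem hl), fun e he => ?_⟩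
    have he' : l⁻¹ * e * l ∈ c.E := by
      simpa using (mem_normalizer_iff.1 (inv_mem (c.L_norm_E hl)) e).1 he
    have h1 := hr' _ he'
    rw [← ht2 _ h1 l hl] at h1
    convert h1 using 1
    group
  have hKL : K ≤ c.L := fun r hr => hr.1
  have h64 := card_le_of_le hRK
  rw [hRc] at h64
  have hKne : K ≠ c.L := by
    intro e
    obtain ⟨z, hz, hzo⟩ := c.exists_seven
    have h1 := ((e.symm ▸ hz : z ∈ K)).2 c.s (c.V_le_E c.s_mem)
    have hsz : z ^ 2 * c.s * (z ^ 2)⁻¹ = c.s := by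
      obtain ⟨k, hk⟩ := mem_zpowers_iff.1 h1
      have e1 : z * c.s * z⁻¹ = c.t ^ k * c.s := by rw [hk]; group
      calc z ^ 2 * c.s * (z ^ 2)⁻¹ = z * (z * c.s * z⁻¹) * z⁻¹ := by rw [pow_two]; group
        _ = z * c.t ^ k * z⁻¹ * (z * c.s * z⁻¹) := by
            conv_lhs => rw [e1]
            group
        _ = c.t ^ k * c.t ^ k * c.s := by
            rw [ht2 _ (zpow_mem (mem_zpowers _) k) z hz, e1, mul_assoc]
        _ = c.s := by
            rw [← (Commute.refl c.t).mul_zpow, CfsgLib.Invol.invol_mul_self c.ht, one_zpow, one_mul]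
    refine c.s_ne_t (c.eq_t_of_comm_seven (z := z ^ 2) (pow_mem hz 2) ?_
      (c.orderOf_V c.s_mem c.s_ne_one) (mul_inv_eq_iff_eq_mul.1 hsz))
    rw [Nat.Coprime.orderOf_pow (by rw [hzo]; norm_num), hzo]
  obtain ⟨h16, -, -⟩ := c.normal_sub hKL hnK (hRK (hER (c.V_le_E c.t_mem_V))) (by omega) hKne
  omega

theorem fix8 {b : G} (hbL : b ∈ c.L) (hb : b * b = 1)
    (h8 : 8 ≤ Nat.card (c.E ⊓ centralizer ({b} : Set G) : Subgroup G)) : b ∈ c.E := by
  obtain ⟨a, ha, ha1, hat⟩ : ∃ a ∈ c.E ⊓ centralizer ({b} : Set G), a ≠ 1 ∧ a ≠ c.t := by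
    by_contra hh
    push Not at hh
    have hsub : ((c.E ⊓ centralizer ({b} : Set G) : Subgroup G) : Set G) ⊆ {1, c.t} := fun g hg => by
      by_cases e : g = 1
      · exact Or.inl e
      · exact Or.inr (hh g hg e)
    have := Set.ncard_le_ncard hsub (Set.toFinite _)
    rw [Set.ncard_pair c.t_ne_one.symm, ← Nat.card_coe_set_eq, SetLike.coe_sort_coe] at this
    omega
  obtain ⟨haE, hab⟩ := mem_inf.1 ha
  obtain ⟨g, hg, e⟩ := c.E_cases haE ha1 hat
  subst e
  have hgN := c.L_norm_E hg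
  set b' := g⁻¹ * b * g with hb'
  have hcomm : b' * c.s = c.s * b' := by
    have := (show Commute (g * c.s * g⁻¹) b from mem_centralizer_singleton_iff.1 hab).map
      (MulAut.conj g⁻¹).toMonoidHom
    simp only [MulEquiv.coe_toMonoidHom, MulAut.conj_apply, inv_inv] at this
    rw [show g⁻¹ * (g * c.s * g⁻¹) * g = c.s by group] at this
    exact this.eq.symm
  have hb'A : b' ∈ c.A :=
    c.mem_A.2 ⟨c.mem_L.1 (mul_mem (mul_mem (inv_mem hg) hbL) hg), hcomm⟩
  have hbe : g * b' * g⁻¹ = b := by rw [hb']; group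
  have hsq : b' * b' = 1 := by
    rw [hb', show g⁻¹ * b * g * (g⁻¹ * b * g) = g⁻¹ * (b * b) * g by group, hb]; group
  have hm := c.fix8_A hb'A hsq (by rw [← card_inf_cent_conj hgN b', hbe]; exact h8)
  rw [← hbe]
  exact (mem_normalizer_iff.1 hgN b').1 hm

theorem y_A : (c.A).map (MulAut.conj c.y).toMonoidHom = c.A := by
  refine eq_of_le_of_card_ge ?_ (card_map_of_injective (MulAut.conj c.y).injective).ge
  rintro _ ⟨a, ha, rfl⟩
  exact c.mem_A_y ha

theorem y_norm_E : c.y ∈ normalizer (c.E : Set G) := by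
  classical
  obtain ⟨R, hRA, hER, hRc, hnR, hmem⟩ := c.exists_R192
  let nx : Subgroup G → Subgroup G := fun F => F.map (MulAut.conj c.y).toMonoidHom
  let good : Subgroup G → Prop := fun F => F ≤ c.A ∧ c.A ≤ normalizer (F : Set G) ∧
    Nat.card F = 16 ∧ c.V ≤ F ∧ ∀ a ∈ F, a * a = 1
  have hgood : ∀ F, good F → good (nx F) := by
    rintro F ⟨h1, h2, h3, h4, h5⟩
    refine ⟨?_, ?_, ?_, ?_, ?_⟩
    · rintro _ ⟨a, ha, rfl⟩
      exact c.mem_A_y (h1 ha)
    · intro a ha
      obtain ⟨a', ha', rfl⟩ := c.y_A.ge ha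
      refine mem_normalizer_fintype ?_
      rintro _ ⟨f, hf, rfl⟩
      exact ⟨a' * f * a'⁻¹, (mem_normalizer_iff.1 (h2 ha') f).1 hf, by simp [mul_assoc]⟩
    · exact (card_map_of_injective (MulAut.conj c.y).injective).trans h3
    · intro v hv
      refine ⟨c.y⁻¹ * v * c.y, h4 ?_, ?_⟩
      · simpa using (mem_normalizer_iff.1 (inv_mem c.y_norm_V) v).1 hv
      · show c.y * (c.y⁻¹ * v * c.y) * c.y⁻¹ = v
        group
    · rintro _ ⟨a, ha, rfl⟩
      rw [← map_mul, h5 a ha, map_one]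
  have g0 : good c.E := ⟨c.E_le_A, c.A_norm_E, c.card_E, c.V_le_E, fun a ha => c.sq_E ha⟩
  set E1 := nx c.E with hE1
  set E2 := nx E1 with hE2
  have g1 := hgood _ g0
  have g2 := hgood _ g1
  have hfin : E1 ≤ c.E → c.y ∈ normalizer (c.E : Set G) := fun h =>
    mem_normalizer_fintype fun a ha => h ⟨a, ha, rfl⟩
  have hinter : ∀ F F', good F → good F' → F ≠ F' → F ⊓ F' = c.V := by
    rintro F F' ⟨h1, h2, h3, h4, -⟩ ⟨-, h2', h3', h4', -⟩ hne
    have hd : Nat.card (F ⊓ F' : Subgroup G) ∣ 2 ^ 4 := by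
      simpa [h3] using card_dvd_of_le (inf_le_left : F ⊓ F' ≤ F)
    obtain ⟨n, hn, hnc⟩ := (Nat.dvd_prime_pow Nat.prime_two).1 hd
    have hm := c.two_pow_inter hnc ((inf_le_left.trans h1).trans inf_le_left) (le_inf h4 h4')
      (mem_normalizer_fintype fun a ha => mem_inf.2
        ⟨(mem_normalizer_iff.1 (h2 c.x_mem_A) a).1 (mem_inf.1 ha).1,
          (mem_normalizer_iff.1 (h2' c.x_mem_A) a).1 (mem_inf.1 ha).2⟩)
    have hge := card_le_of_le (le_inf h4 h4')
    rw [c.card_V, hnc] at hge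
    have hn4 : n ≠ 4 := by
      rintro rfl
      refine hne ?_
      have e1 := eq_of_le_of_card_ge (inf_le_left : F ⊓ F' ≤ F) (by rw [hnc, h3]; norm_num)
      have e2 := eq_of_le_of_card_ge (inf_le_right : F ⊓ F' ≤ F') (by rw [hnc, h3']; norm_num)
      exact e1.symm.trans e2
    have hn2 : n = 2 := by
      interval_cases n <;> first | rfl | exact absurd rfl hn4 | (revert hm hge; norm_num)
    exact (eq_of_le_of_card_ge (le_inf h4 h4') (by rw [hnc, hn2, c.card_V]; norm_num)).symm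
  by_contra hy
  have ne01 : c.E ≠ E1 := fun e => hy (hfin e.ge)
  have hy3 : c.y ^ 3 ∈ c.A := c.mem_A.2
    ⟨mul_inv_eq_iff_eq_mul.1 (c.y_cube c.t_mem_V), mul_inv_eq_iff_eq_mul.1 (c.y_cube c.s_mem)⟩
  have h3E : nx E2 = c.E := by
    refine eq_of_le_of_card_ge ?_ (by rw [c.card_E, (hgood _ g2).2.2.1])
    rintro _ ⟨_, ⟨_, ⟨a, ha, rfl⟩, rfl⟩, rfl⟩
    have := (mem_normalizer_iff.1 (c.A_norm_E hy3) a).1 ha
    simpa [pow_succ, mul_assoc] using this
  have hnx : Function.Injective nx := map_injective (MulAut.conj c.y).injective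
  have ne12 : E1 ≠ E2 := fun e => ne01 (hnx e)
  have ne02 : c.E ≠ E2 := fun e => ne01 (by
    have h := congrArg nx e
    rw [h3E] at h
    exact h.symm)
  have i01 := hinter _ _ g0 g1 ne01
  have i12 := hinter _ _ g1 g2 ne12
  have i02 := hinter _ _ g0 g2 ne02
  have h1R : ∀ F, good F → F ≤ R := fun F hF a ha => hmem a (hF.1 ha) 1
    (orderOf_dvd_of_pow_eq_one (by rw [pow_one, pow_two, hF.2.2.2.2 a ha]))
  -- `R` is the product of `E` and `E1`
  have hprod : (R : Set G) = (fun p : G × G => p.1 * p.2) '' ((c.E : Set G) ×ˢ (E1 : Set G)) := by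
    have hsub : (fun p : G × G => p.1 * p.2) '' ((c.E : Set G) ×ˢ (E1 : Set G)) ⊆ (R : Set G) := by
      rintro _ ⟨⟨p, q⟩, ⟨hp, hq⟩, rfl⟩
      exact mul_mem (hER hp) (h1R _ g1 hq)
    refine (Set.eq_of_subset_of_ncard_le hsub ?_ (Set.toFinite _)).symm
    rw [← Nat.card_coe_set_eq (R : Set G), SetLike.coe_sort_coe, hRc]
    have h256 : ((c.E : Set G) ×ˢ (E1 : Set G)).ncard = 256 := by
      rw [Set.ncard_prod, ← Nat.card_coe_set_eq, ← Nat.card_coe_set_eq, SetLike.coe_sort_coe,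
        SetLike.coe_sort_coe, c.card_E, g1.2.2.1]
    have := Fintype.ofFinite G
    have hb : ∀ r ∈ ((c.E : Set G) ×ˢ (E1 : Set G)).toFinset.image (fun p : G × G => p.1 * p.2),
        (((c.E : Set G) ×ˢ (E1 : Set G)).toFinset.filter fun p => p.1 * p.2 = r).card ≤ 4 := by
      intro r hr
      obtain ⟨⟨p₀, q₀⟩, hpq, rfl⟩ := Finset.mem_image.1 hr
      rw [Set.mem_toFinset] at hpq
      have hinj : Set.InjOn (fun p : G × G => p₀⁻¹ * p.1)
          (((c.E : Set G) ×ˢ (E1 : Set G)).toFinset.filter fun p => p.1 * p.2 = p₀ * q₀) := by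
        intro p hp q hq e
        simp only [Finset.coe_filter, Set.mem_toFinset, Set.mem_ofPred_eq] at hp hq
        have e1 : p.1 = q.1 := mul_left_cancel e
        refine Prod.ext e1 (mul_left_cancel (a := p.1) ?_)
        rw [hp.2, e1, hq.2]
      refine le_trans (Finset.card_le_card_of_injOn (t := (c.V : Set G).toFinset) _ ?_ hinj) ?_
      · intro p hp
        simp only [Finset.coe_filter, Set.mem_toFinset, Set.mem_ofPred_eq] at hp
        simp only [Set.coe_toFinset, SetLike.mem_coe]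
        rw [← i01]
        refine mem_inf.2 ⟨mul_mem (inv_mem hpq.1) hp.1.1, ?_⟩
        have e : p₀⁻¹ * p.1 = q₀ * p.2⁻¹ := by
          rw [eq_mul_inv_iff_mul_eq, mul_assoc, hp.2, inv_mul_cancel_left]
        rw [e]
        exact mul_mem hpq.2 (inv_mem hp.1.2)
      · rw [← Set.ncard_eq_toFinset_card', ← Nat.card_coe_set_eq, SetLike.coe_sort_coe, c.card_V]
    have h1 := Finset.card_le_mul_card_image ((c.E : Set G) ×ˢ (E1 : Set G)).toFinset 4 hb
    rw [← Set.ncard_eq_toFinset_card', h256, ← Set.toFinset_image,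
      ← Set.ncard_eq_toFinset_card'] at h1
    omega
  obtain ⟨e, he, heV⟩ : ∃ e ∈ E2, e ∉ c.V := by
    by_contra hh
    push Not at hh
    have := card_le_of_le hh
    rw [g2.2.2.1, c.card_V] at this
    omega
  obtain ⟨⟨a, b⟩, ⟨ha, hb⟩, rfl⟩ : e ∈ (fun p : G × G => p.1 * p.2) '' ((c.E : Set G) ×ˢ (E1 : Set G)) :=
    hprod ▸ (h1R _ g2 he : e ∈ (R : Set G))
  have haV : a ∉ c.V := fun h => heV (by
    have hbE2 : b ∈ E2 := by
      have := mul_mem (inv_mem (g2.2.2.2.1 h)) he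
      rwa [inv_mul_cancel_left] at this
    exact mul_mem h (i12 ▸ mem_inf.2 ⟨hb, hbE2⟩))
  have hbV : b ∉ c.V := fun h => heV (by
    have haE2 : a ∈ E2 := by
      have := mul_mem he (inv_mem (g2.2.2.2.1 h))
      rwa [mul_inv_cancel_right] at this
    exact mul_mem (i02 ▸ mem_inf.2 ⟨ha, haE2⟩) h)
  have hbb : b * b = 1 := g1.2.2.2.2 b hb
  have hab : a * b = b * a := by
    calc a * b = (a * b)⁻¹ := eq_inv_of_mul_eq_one_left (g2.2.2.2.2 _ he)
      _ = b * a := by rw [mul_inv_rev, c.inv_E ha, inv_eq_of_mul_eq_one_right hbb]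
  have h8 : 8 ≤ Nat.card (c.E ⊓ centralizer ({b} : Set G) : Subgroup G) := by
    set F := c.E ⊓ centralizer ({b} : Set G) with hF
    have hVF : c.V ≤ F := le_inf c.V_le_E fun v hv =>
      mem_centralizer_singleton_iff.2 (c.A_comm (g1.1 hb) hv).symm
    have hd : Nat.card F ∣ 2 ^ 4 := by
      rw [show (2 : ℕ) ^ 4 = Nat.card c.E by rw [c.card_E]; norm_num]
      exact card_dvd_of_le inf_le_left
    obtain ⟨n, -, hn⟩ := (Nat.dvd_prime_pow Nat.prime_two).1 hd
    have hne : c.V ≠ F := fun e => haV (e ▸ mem_inf.2 ⟨ha, mem_centralizer_singleton_iff.2 hab⟩)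
    have hlt : Nat.card c.V < Nat.card F := lt_of_le_of_ne (card_le_of_le hVF)
      fun e => hne (eq_of_le_of_card_ge hVF e.ge)
    rw [c.card_V, hn] at hlt
    rw [hn]
    rcases Nat.lt_or_ge n 3 with h | h
    · interval_cases n <;> norm_num at hlt
    · exact le_trans (by norm_num) (Nat.pow_le_pow_right (by norm_num) h)
  exact hbV (i01 ▸ mem_inf.2 ⟨c.fix8 (g1.1.trans inf_le_left hb) hbb h8, hb⟩)

theorem exists_conj_t {a : G} (ha : a ∈ c.E) (h1 : a ≠ 1) :
    ∃ n ∈ normalizer (c.E : Set G), n * c.t * n⁻¹ = a := by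
  by_cases hat : a = c.t
  · exact ⟨1, one_mem _, by rw [hat]; group⟩
  have hyt := c.y_conj_mem c.t_mem_V
  obtain ⟨g, hg, hgs⟩ := c.E_cases ha h1 hat
  obtain ⟨k, hk, hke⟩ : ∃ k ∈ c.L, k * (c.y * c.t * c.y⁻¹) * k⁻¹ = c.s := by
    rcases c.V_cases hyt with e | e | e | e
    · exact absurd (conj_eq_one_iff.1 e) c.t_ne_one
    · exact absurd e (c.y_move c.t_mem_V c.t_ne_one)
    · exact ⟨1, one_mem _, by rw [e]; group⟩
    · refine ⟨c.w, c.w_mem_L, ?_⟩
      rw [e, show c.w * (c.t * c.s) * c.w⁻¹ = c.w * c.t * c.w⁻¹ * (c.w * c.s * c.w⁻¹) by group,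
        c.w_t, c.w_s, ← mul_assoc, CfsgLib.Invol.invol_mul_self c.ht, one_mul]
  refine ⟨g * k * c.y, mul_mem (mul_mem (c.L_norm_E hg) (c.L_norm_E hk)) c.y_norm_E, ?_⟩
  rw [← hgs, ← hke]
  group

theorem cent_le_norm {a : G} (ha : a ∈ c.E) (h1 : a ≠ 1) :
    centralizer ({a} : Set G) ≤ normalizer (c.E : Set G) := by
  obtain ⟨n, hn, rfl⟩ := c.exists_conj_t ha h1
  intro g hg
  have hl : n⁻¹ * g * n ∈ c.L := c.mem_L.2 (by
    have := (show Commute g (n * c.t * n⁻¹) from mem_centralizer_singleton_iff.1 hg).map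
      (MulAut.conj n⁻¹).toMonoidHom
    simpa [mul_assoc] using this.eq)
  have := mul_mem (mul_mem hn (c.L_norm_E hl)) (inv_mem hn)
  simpa [mul_assoc] using this

theorem card_norm_E : Nat.card (normalizer (c.E : Set G)) = 40320 := by
  set N := normalizer (c.E : Set G) with hN
  have htN : c.t ∈ N := c.L_norm_E c.t_mem_L
  have h := orbit_count (K := N) (a := c.t) htN
  have hc : N ⊓ centralizer ({c.t} : Set G) = c.L :=
    le_antisymm inf_le_right (le_inf c.L_norm_E le_rfl)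
  rw [hc, c.card_L] at h
  have ho : {b : G | ∃ g ∈ N, g * c.t * g⁻¹ = b} = (c.E : Set G) \ {1} := by
    ext b
    constructor
    · rintro ⟨g, hg, rfl⟩
      exact ⟨(mem_normalizer_iff.1 hg c.t).1 (c.V_le_E c.t_mem_V),
        fun e => c.t_ne_one (conj_eq_one_iff.1 e)⟩
    · rintro ⟨hb, hb1⟩
      exact c.exists_conj_t hb hb1
  rw [ho, Set.ncard_sdiff (by simp) (Set.toFinite _), Set.ncard_singleton,
    ← Nat.card_coe_set_eq (c.E : Set G), SetLike.coe_sort_coe, c.card_E] at h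
  omega

theorem fix_four {v : G} (hv : v ∈ normalizer (c.E : Set G)) (ho : orderOf v = 2) (hvE : v ∉ c.E) :
    Nat.card (c.E ⊓ centralizer ({v} : Set G) : Subgroup G) = 4 := by
  have : Fact (Nat.Prime 2) := ⟨Nat.prime_two⟩
  have hvv : v * v = 1 := CfsgLib.Invol.invol_mul_self ho
  set F := c.E ⊓ centralizer ({v} : Set G) with hF
  have hd : Nat.card F ∣ 2 ^ 4 := by
    rw [show (2 : ℕ) ^ 4 = Nat.card c.E by rw [c.card_E]; norm_num]
    exact card_dvd_of_le inf_le_left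
  obtain ⟨n, hn4, hn⟩ := (Nat.dvd_prime_pow Nat.prime_two).1 hd
  have hmod := card_modEq_fixed (p := 2) ho hv
  rw [← hF, c.card_E, hn] at hmod
  have hn1 : 1 ≤ n := by
    by_contra h0
    rw [show n = 0 by omega] at hmod
    norm_num at hmod
  obtain ⟨a, ha, ha1⟩ : ∃ a ∈ F, a ≠ 1 := by
    have : Nontrivial F := Finite.one_lt_card_iff_nontrivial.1
      (by rw [hn]; exact Nat.one_lt_two_pow (by omega))
    obtain ⟨a, ha⟩ := exists_ne (1 : F)
    exact ⟨a, a.2, fun e => ha (Subtype.ext e)⟩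
  obtain ⟨m, hm, e⟩ := c.exists_conj_t (mem_inf.1 ha).1 ha1
  subst e
  have hL : m⁻¹ * v * m ∈ c.L := c.mem_L.2 (by
    have := (show Commute (m * c.t * m⁻¹) v from
      mem_centralizer_singleton_iff.1 (mem_inf.1 ha).2).map (MulAut.conj m⁻¹).toMonoidHom
    simpa [mul_assoc] using this.eq.symm)
  have hn2 : n ≤ 2 := by
    by_contra hgt
    have h8 : 8 ≤ 2 ^ n := le_trans (by norm_num) (Nat.pow_le_pow_right (by norm_num) (show 3 ≤ n by omega))
    have hm8 := c.fix8 hL (by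
      rw [show m⁻¹ * v * m * (m⁻¹ * v * m) = m⁻¹ * (v * v) * m by group, hvv]; group) (by
      rw [← card_inf_cent_conj hm, show m * (m⁻¹ * v * m) * m⁻¹ = v by group, ← hF, hn]; exact h8)
    refine hvE ?_
    have := (mem_normalizer_iff.1 hm _).1 hm8
    rwa [show m * (m⁻¹ * v * m) * m⁻¹ = v by group] at this
  -- the commutator map
  have hconj : ∀ e ∈ c.E, v * e * v⁻¹ ∈ c.E := fun e he => (mem_normalizer_iff.1 hv e).1 he
  let φ : c.E →* G :=
    { toFun := fun e => (e : G) * (v * e * v⁻¹)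
      map_one' := by simp
      map_mul' := fun e e' => by
        have h1 := c.E_comm (mul_mem e.2 e'.2) (one_mem c.E)
        have h2 := c.E_comm e'.2 (hconj e e.2)
        simp only [Subgroup.coe_mul]
        calc (e : G) * e' * (v * (e * e') * v⁻¹)
            = e * ((e' : G) * (v * e * v⁻¹)) * (v * e' * v⁻¹) := by group
          _ = e * (v * e * v⁻¹ * e') * (v * e' * v⁻¹) := by rw [h2]
          _ = _ := by group }
  have hker : Nat.card φ.ker ≤ Nat.card F := by
    refine Nat.card_le_card_of_injective (fun e => (⟨e.1.1, mem_inf.2 ⟨e.1.2, ?_⟩⟩ : F))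
      fun p q h => Subtype.ext (Subtype.ext (congrArg (fun z : F => (z : G)) h))
    refine mem_centralizer_singleton_iff.2 ?_
    have h : (e.1 : G) * (v * e.1 * v⁻¹) = 1 := e.2
    have h' : v * e.1 * v⁻¹ = e.1 := by
      rw [eq_inv_of_mul_eq_one_right h, c.inv_E e.1.2]
    exact (mul_inv_eq_iff_eq_mul.1 h').symm
  have hran : Nat.card φ.range ≤ Nat.card F := by
    refine card_le_of_le ?_
    rintro _ ⟨e, rfl⟩
    refine mem_inf.2 ⟨mul_mem e.2 (hconj e e.2), mem_centralizer_singleton_iff.2 ?_⟩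
    refine (mul_inv_eq_iff_eq_mul.1 ?_).symm
    show v * ((e : G) * (v * e * v⁻¹)) * v⁻¹ = e * (v * e * v⁻¹)
    calc v * ((e : G) * (v * e * v⁻¹)) * v⁻¹ = (v * e * v⁻¹) * ((v * v) * e * (v * v)⁻¹) := by group
      _ = v * e * v⁻¹ * e := by rw [hvv]; group
      _ = _ := c.E_comm (hconj e e.2) e.2
  have hmul := φ.ker.card_mul_index
  rw [index_ker, c.card_E] at hmul
  have := Nat.mul_le_mul hker hran
  rw [hmul, hn] at this
  rw [hn]
  interval_cases n <;> first | rfl | (revert this; norm_num)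

/-- The local data at `E`. -/
noncomputable def eData : EData G where
  E := c.E
  card_G := c.h.card
  card_E := c.card_E
  sq _ ha := c.sq_E ha
  card_norm := c.card_norm_E
  cent_two a ha h1 := cent_two c.h (orderOf_eq_prime (by rw [pow_two]; exact c.sq_E ha) h1)
  cent_five _ hx := M23Nse.cent_five c.h hx
  norm_five _ hx := M23Nse.norm_five c.h hx
  cent_seven _ hx := M23Nse.cent_seven c.h hx
  ti g a ha h1 hg := by
    obtain ⟨n, hn, e⟩ := c.exists_conj_t hg fun e => h1 (conj_eq_one_iff.1 e)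
    obtain ⟨m, hm, f⟩ := c.exists_conj_t ha h1
    have hcomm : n⁻¹ * g * m ∈ centralizer ({c.t} : Set G) := by
      refine mem_centralizer_singleton_iff.2 (mul_inv_eq_iff_eq_mul.1 ?_)
      calc n⁻¹ * g * m * c.t * (n⁻¹ * g * m)⁻¹ = n⁻¹ * (g * (m * c.t * m⁻¹) * g⁻¹) * n := by group
        _ = n⁻¹ * (n * c.t * n⁻¹) * n := by rw [f, e]
        _ = c.t := by group
    have := mul_mem (mul_mem hn (c.L_norm_E hcomm)) (inv_mem hm)
    simpa [mul_assoc] using this
  fix_four _ hv ho hvE := c.fix_four hv ho hvE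

end Loc

theorem nonempty_eData (h : Hyp G) : Nonempty (EData G) := by
  obtain ⟨t, y, ht, -, -⟩ := exists_two_seven h
  obtain ⟨c, -⟩ := exists_loc h ht
  exact ⟨c.eData⟩

end CfsgLib.ClassK.M23Nse
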