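import Cfsg.Agent.Lib.ClassK.M23Nse.Tools

/-!
An involution `t` and an element `x` of order three commuting with it: the four-group `V` of
`C(t) ⊓ C(x)` and the element of `C(x)` that permutes its three involutions cyclically.
-/

set_option autoImplicit false
set_option linter.unusedSectionVars false

namespace CfsgLib.ClassK.M23Nse

open Subgroup CfsgLib.StructB.OrderCount

universe u

variable {G : Type u} [Group G] [Finite G]

theorem ncom_eq (z : G) (n : ℕ) : ncom z n =
    Nat.card {g : centralizer ({z} : Set G) // orderOf g = n} :=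
  Nat.card_congr
    { toFun := fun g => ⟨⟨g.1, mem_centralizer_singleton_iff.2 g.2.2.symm.eq⟩,
        by rw [Subgroup.orderOf_mk]; exact g.2.1⟩
      invFun := fun g => ⟨g.1.1, by rw [Subgroup.orderOf_coe]; exact g.2,
        (mem_centralizer_singleton_iff.1 g.1.2).symm⟩
      left_inv := fun g => rfl
      right_inv := fun g => rfl }

theorem ncom_two (h : Hyp G) {t : G} (ht : orderOf t = 2) (q : ℕ) (hco : Nat.Coprime 2 q) :
    cnt G (2 * q) = 3795 * ncom t q := by
  classical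
  have := Fintype.ofFinite {g : G // orderOf g = 2}
  rw [cnt_mul_sum hco, Finset.sum_congr rfl (g := fun _ => ncom t q) fun z _ => ?_, Finset.sum_const,
    Finset.card_univ, ← Nat.card_eq_fintype_card, smul_eq_mul,
    show Nat.card {g : G // orderOf g = 2} = 3795 from h.cnt_two]
  obtain ⟨c, hc⟩ := isConj_iff.1 (isConj_two h ht z.2)
  rw [← hc, ncom_conj]

theorem card_inf_norm {K : Subgroup G} {x : G} (hx : x ∈ K) :
    Nat.card (normalizer (((zpowers x).subgroupOf K : Subgroup K) : Set K)) =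
      Nat.card (K ⊓ normalizer (zpowers x : Set G) : Subgroup G) := by
  rw [← subgroupOf_normalizer_eq (zpowers_le.2 hx), ← inf_subgroupOf_left,
    Nat.card_congr (subgroupOfEquivOfLe inf_le_left).toEquiv]

theorem card_orderOf_subgroup {K : Subgroup G} {p : ℕ} [hp : Fact p.Prime] {x : G} (hx : x ∈ K)
    (ho : orderOf x = p) (hd2 : ¬ p ^ 2 ∣ Nat.card K) :
    Nat.card {g : K // orderOf g = p} * Nat.card (K ⊓ normalizer (zpowers x : Set G) : Subgroup G) =
      (p - 1) * Nat.card K := by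
  have hd : p ∣ Nat.card K := ho ▸ Subgroup.orderOf_dvd_natCard _ hx
  obtain ⟨P, hP⟩ := exists_sylow_eq (G := K) hd hd2 (x := ⟨x, hx⟩)
    (by rw [Subgroup.orderOf_mk, ho])
  have hPc := CfsgLib.Transfer.card_sylow_eq_prime P hd hd2
  have hP' : (P : Subgroup K) = (zpowers x).subgroupOf K := by
    refine eq_of_le_of_card_ge (hP ▸ zpowers_le.2 (mem_subgroupOf.2 (mem_zpowers x))) ?_
    rw [hPc, Nat.card_congr (subgroupOfEquivOfLe (zpowers_le.2 hx)).toEquiv, Nat.card_zpowers, ho]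
  rw [CfsgLib.Transfer.card_orderOf_eq_prime P hPc, ← card_inf_norm hx, ← hP']
  have h1 := (normalizer ((P : Subgroup K) : Set K)).index_mul_card
  rw [← show Nat.card (Sylow p K) = (normalizer ((P : Subgroup K) : Set K)).index from
    P.card_eq_index_normalizer] at h1
  conv_rhs => rw [← h1]
  ring

/-- An involution and an element of order three commuting with it. -/
structure Loc (G : Type u) [Group G] [Finite G] where
  h : Hyp G
  t : G
  x : G
  ht : orderOf t = 2
  hx : orderOf x = 3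
  htx : t * x = x * t

theorem exists_loc (h : Hyp G) {t : G} (ht : orderOf t = 2) : ∃ c : Loc G, c.t = t := by
  have h1 : ncom t 3 ≠ 0 := by
    have := ncom_two h ht 3 (by norm_num)
    rw [show 2 * 3 = 6 from rfl, (table h).1] at this
    omega
  obtain ⟨⟨x, hx, hc⟩⟩ := (Nat.card_ne_zero.1 h1).1
  exact ⟨⟨h, t, x, ht, hx, hc.eq⟩, rfl⟩

namespace Loc

variable (c : Loc G)

/-- The centralizer of the involution. -/
def L : Subgroup G := centralizer ({c.t} : Set G)

theorem mem_L {g : G} : g ∈ c.L ↔ g * c.t = c.t * g := mem_centralizer_singleton_iff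

theorem card_L : Nat.card c.L = 2688 := cent_two c.h c.ht

theorem t_mem_L : c.t ∈ c.L := c.mem_L.2 rfl

theorem x_mem_L : c.x ∈ c.L := c.mem_L.2 c.htx.symm

/-- The common centralizer. -/
def D : Subgroup G := c.L ⊓ centralizer ({c.x} : Set G)

theorem mem_D {g : G} : g ∈ c.D ↔ g * c.t = c.t * g ∧ g * c.x = c.x * g := by
  rw [D, mem_inf, c.mem_L, mem_centralizer_singleton_iff]

theorem norm_three : Nat.card (c.L ⊓ normalizer (zpowers c.x : Set G) : Subgroup G) = 24 := by
  have : Fact (Nat.Prime 3) := ⟨Nat.prime_three⟩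
  have h1 := card_orderOf_subgroup (p := 3) c.x_mem_L c.hx (by rw [c.card_L]; norm_num)
  have h2 := ncom_two c.h c.ht 3 (by norm_num)
  rw [show 2 * 3 = 6 from rfl, (table c.h).1] at h2
  rw [show Nat.card {g : c.L // orderOf g = 3} = ncom c.t 3 from (ncom_eq c.t 3).symm,
    c.card_L] at h1
  have h3 : ncom c.t 3 = 224 := by omega
  rw [h3] at h1
  omega

theorem conj_x_cases {g : G} (hg : g ∈ normalizer (zpowers c.x : Set G)) :
    g * c.x * g⁻¹ = c.x ∨ g * c.x * g⁻¹ = c.x⁻¹ := by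
  classical
  have hm := (mem_normalizer_iff.1 hg c.x).1 (mem_zpowers _)
  obtain ⟨k, hk, hke⟩ := (isOfFinOrder_of_finite c.x).mem_zpowers_iff_mem_range_orderOf.1 hm
    |> Finset.mem_image.1
  rw [Finset.mem_range, c.hx] at hk
  interval_cases k
  · rw [pow_zero, eq_comm, conj_eq_one_iff] at hke
    have := c.hx
    rw [hke, orderOf_one] at this; norm_num at this
  · exact Or.inl (by rw [← hke, pow_one])
  · refine Or.inr ?_
    rw [← hke]
    refine eq_inv_of_mul_eq_one_left ?_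
    rw [← pow_succ, show 2 + 1 = orderOf c.x from c.hx.symm, pow_orderOf_eq_one]

theorem D_le : c.D ≤ c.L ⊓ normalizer (zpowers c.x : Set G) := by
  refine le_inf inf_le_left fun g hg => mem_normalizer_fintype fun s hs => ?_
  obtain ⟨k, rfl⟩ := mem_zpowers_iff.1 hs
  rw [← conj_zpow, (c.mem_D.1 hg).2, mul_inv_cancel_right]
  exact zpow_mem (mem_zpowers _) k

theorem card_D : Nat.card c.D = 12 := by
  have h24 : Nat.card c.D ∣ 24 := c.norm_three ▸ card_dvd_of_le c.D_le
  have h180 : Nat.card c.D ∣ 180 := cent_three c.h c.hx ▸ card_dvd_of_le inf_le_right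
  have h12 : Nat.card c.D ∣ 12 := by simpa using Nat.dvd_gcd h24 h180
  have hge : 24 ≤ 2 * Nat.card c.D := by
    set N := c.L ⊓ normalizer (zpowers c.x : Set G) with hN
    by_cases hex : ∃ g ∈ N, g * c.x * g⁻¹ = c.x⁻¹
    · obtain ⟨g₀, hg₀, he⟩ := hex
      have hsub : ((N : Subgroup G) : Set G) ⊆ (c.D : Set G) ∪ (g₀ * ·) '' (c.D : Set G) := by
        intro g hg
        rcases c.conj_x_cases (mem_inf.1 hg).2 with e | e
        · exact Or.inl (c.mem_D.2 ⟨c.mem_L.1 (mem_inf.1 hg).1, mul_inv_eq_iff_eq_mul.1 e⟩)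
        · refine Or.inr ⟨g₀⁻¹ * g, c.mem_D.2 ⟨?_, ?_⟩, mul_inv_cancel_left g₀ g⟩
          · exact c.mem_L.1 (mem_inf.1 (mul_mem (inv_mem hg₀) hg)).1
          · calc g₀⁻¹ * g * c.x = g₀⁻¹ * (g * c.x * g⁻¹) * g := by group
              _ = g₀⁻¹ * (g₀ * c.x * g₀⁻¹) * g := by rw [e, he]
              _ = c.x * (g₀⁻¹ * g) := by group
      rw [← c.norm_three, ← SetLike.coe_sort_coe, Nat.card_coe_set_eq]
      refine (Set.ncard_le_ncard hsub (Set.toFinite _)).trans ((Set.ncard_union_le _ _).trans ?_)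
      rw [two_mul]
      refine le_trans (Nat.add_le_add le_rfl (Set.ncard_image_le (Set.toFinite _))) ?_
      rw [← Nat.card_coe_set_eq, SetLike.coe_sort_coe]
    · push Not at hex
      have : N ≤ c.D := fun g hg => c.mem_D.2 ⟨c.mem_L.1 (mem_inf.1 hg).1,
        mul_inv_eq_iff_eq_mul.1 ((c.conj_x_cases (mem_inf.1 hg).2).resolve_right (hex g hg))⟩
      have := card_le_of_le this
      rw [c.norm_three] at this
      omega
  have := Nat.le_of_dvd (by norm_num) h12
  omega

theorem exists_V : ∃ H : Subgroup G, H ≤ c.D ∧ Nat.card H = 2 ^ 2 :=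
  exists_subgroup_two_pow (by rw [c.card_D]; norm_num)

/-- The four-group. -/
noncomputable def V : Subgroup G := c.exists_V.choose

theorem V_le : c.V ≤ c.D := c.exists_V.choose_spec.1

theorem card_V : Nat.card c.V = 4 := c.exists_V.choose_spec.2

theorem commute_V_x {g : G} (hg : g ∈ c.V) : g * c.x = c.x * g := (c.mem_D.1 (c.V_le hg)).2

theorem sq_V {g : G} (hg : g ∈ c.V) : g * g = 1 := by
  refine sq_of_cent_three c.h c.hx (show Commute c.x g from (c.commute_V_x hg).symm) (k := 2) ?_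
  rw [show 2 ^ 2 = 4 from rfl, ← c.card_V]
  exact Subgroup.orderOf_dvd_natCard _ hg

theorem V_comm {a b : G} (ha : a ∈ c.V) (hb : b ∈ c.V) : a * b = b * a := by
  calc a * b = (a * b)⁻¹ := eq_inv_of_mul_eq_one_left (c.sq_V (mul_mem ha hb))
    _ = b * a := by rw [mul_inv_rev, inv_eq_of_mul_eq_one_right (c.sq_V ha),
        inv_eq_of_mul_eq_one_right (c.sq_V hb)]

theorem inv_V {a : G} (ha : a ∈ c.V) : a⁻¹ = a := inv_eq_of_mul_eq_one_right (c.sq_V ha)

theorem x_mem_D : c.x ∈ c.D := c.mem_D.2 ⟨c.htx.symm, rfl⟩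

theorem D_norm_V : c.D ≤ normalizer (c.V : Set G) := by
  suffices h : c.D ⊓ normalizer (c.V : Set G) = c.D from h ▸ inf_le_right
  refine eq_of_le_of_card_ge inf_le_left ?_
  rw [c.card_D]
  refine Nat.le_of_dvd Nat.card_pos (Nat.Coprime.mul_dvd_of_dvd_of_dvd
    (show Nat.Coprime 4 3 by norm_num) ?_ ?_)
  · exact c.card_V ▸ card_dvd_of_le (le_inf c.V_le le_normalizer)
  · refine c.hx ▸ Subgroup.orderOf_dvd_natCard _ (mem_inf.2 ⟨c.x_mem_D,
      mem_normalizer_fintype fun s hs => ?_⟩)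
    rw [← c.commute_V_x hs, mul_inv_cancel_right]
    exact hs

theorem mem_V_of_two_pow {g : G} (hg : g ∈ c.D) {k : ℕ} (hk : orderOf g ∣ 2 ^ k) : g ∈ c.V := by
  refine mem_of_coprime_index c.D_norm_V hg (Nat.Coprime.coprime_dvd_left hk ?_)
  have h1 := (c.V.subgroupOf c.D).card_mul_index
  rw [Nat.card_congr (subgroupOfEquivOfLe c.V_le).toEquiv, c.card_V, c.card_D] at h1
  rw [show c.V.relIndex c.D = 3 from (show (c.V.subgroupOf c.D).index = 3 by omega)]
  exact Nat.Coprime.pow_left k (by norm_num)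

theorem mem_V {g : G} : g ∈ c.V ↔ g * c.t = c.t * g ∧ g * c.x = c.x * g ∧ g * g = 1 := by
  refine ⟨fun h => ⟨(c.mem_D.1 (c.V_le h)).1, c.commute_V_x h, c.sq_V h⟩, fun ⟨h1, h2, h3⟩ => ?_⟩
  exact c.mem_V_of_two_pow (c.mem_D.2 ⟨h1, h2⟩) (k := 1)
    (by rw [pow_one]; exact orderOf_dvd_of_pow_eq_one (by rwa [pow_two]))

theorem t_mem_V : c.t ∈ c.V := c.mem_V.2 ⟨rfl, c.htx, CfsgLib.Invol.invol_mul_self c.ht⟩

theorem t_ne_one : c.t ≠ 1 := fun e => by
  have := c.ht
  rw [e, orderOf_one] at this; norm_num at this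

theorem exists_s : ∃ s ∈ c.V, s ≠ 1 ∧ s ≠ c.t := by
  by_contra hne
  push Not at hne
  have hsub : (c.V : Set G) ⊆ {1, c.t} := fun g hg => by
    by_cases e : g = 1
    · exact Or.inl e
    · exact Or.inr (hne g hg e)
  have := (Set.ncard_le_ncard hsub (Set.toFinite _)).trans (Set.ncard_insert_le _ _)
  rw [Set.ncard_singleton, ← Nat.card_coe_set_eq, SetLike.coe_sort_coe, c.card_V] at this
  omega

/-- A second involution of the four-group. -/
noncomputable def s : G := c.exists_s.choose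

theorem s_mem : c.s ∈ c.V := c.exists_s.choose_spec.1

theorem s_ne_one : c.s ≠ 1 := c.exists_s.choose_spec.2.1

theorem s_ne_t : c.s ≠ c.t := c.exists_s.choose_spec.2.2

theorem ts_ne_one : c.t * c.s ≠ 1 := fun e =>
  c.s_ne_t (by rw [← inv_eq_of_mul_eq_one_right e, c.inv_V c.t_mem_V])

theorem ts_ne_t : c.t * c.s ≠ c.t := fun e => c.s_ne_one (mul_eq_left.1 e)

theorem ts_ne_s : c.t * c.s ≠ c.s := fun e => c.t_ne_one (mul_eq_right.1 e)

theorem V_cases {g : G} (hg : g ∈ c.V) : g = 1 ∨ g = c.t ∨ g = c.s ∨ g = c.t * c.s := by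
  classical
  have hsub : (↑({1, c.t, c.s, c.t * c.s} : Finset G) : Set G) ⊆ c.V := by
    intro a ha
    simp only [Finset.coe_insert, Finset.coe_singleton, Set.mem_insert_iff,
      Set.mem_singleton_iff] at ha
    rcases ha with rfl | rfl | rfl | rfl
    exacts [one_mem _, c.t_mem_V, c.s_mem, mul_mem c.t_mem_V c.s_mem]
  have h4 : ({1, c.t, c.s, c.t * c.s} : Finset G).card = 4 := by
    rw [Finset.card_insert_of_notMem, Finset.card_insert_of_notMem, Finset.card_insert_of_notMem,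
      Finset.card_singleton]
    · simp [c.ts_ne_s.symm]
    · simp [c.s_ne_t.symm, c.ts_ne_t.symm]
    · simp [c.t_ne_one.symm, c.s_ne_one.symm, c.ts_ne_one.symm]
  have heq := Set.eq_of_subset_of_ncard_le hsub
    (by rw [Set.ncard_coe_finset, h4, ← Nat.card_coe_set_eq, SetLike.coe_sort_coe, c.card_V])
    (Set.toFinite _)
  have : g ∈ (↑({1, c.t, c.s, c.t * c.s} : Finset G) : Set G) := heq ▸ hg
  simpa using this

/-- The configuration at another involution of the four-group. -/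
def atInv {v : G} (hv : orderOf v = 2) (hc : v * c.x = c.x * v) : Loc G :=
  ⟨c.h, v, c.x, hv, c.hx, hc⟩

theorem orderOf_V {v : G} (hv : v ∈ c.V) (h1 : v ≠ 1) : orderOf v = 2 :=
  orderOf_eq_prime (by rw [pow_two]; exact c.sq_V hv) h1

theorem V_atInv {v : G} (hv : v ∈ c.V) (h1 : v ≠ 1) :
    (c.atInv (c.orderOf_V hv h1) (c.commute_V_x hv)).V = c.V :=
  (eq_of_le_of_card_ge (fun g hg => (c.atInv _ _).mem_V.2
    ⟨c.V_comm hg hv, c.commute_V_x hg, c.sq_V hg⟩) (by rw [card_V, card_V])).symm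

theorem V_le_cent_of_fix {v g : G} (hv : v ∈ c.V) (h1 : v ≠ 1) (hgx : g * c.x = c.x * g)
    (hgv : g * v = v * g) : ∀ a ∈ c.V, g * a = a * g := by
  intro a ha
  set d := c.atInv (c.orderOf_V hv h1) (c.commute_V_x hv) with hd
  have hgD : g ∈ d.D := d.mem_D.2 ⟨hgv, hgx⟩
  have haD : a ∈ d.V := (c.V_atInv hv h1) ▸ ha
  -- `D` is generated by `x` and the abelian group `V`
  suffices h : d.D ≤ centralizer ({a} : Set G) from mem_centralizer_singleton_iff.1 (h hgD)
  suffices h : d.D ⊓ centralizer ({a} : Set G) = d.D from h ▸ inf_le_right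
  refine eq_of_le_of_card_ge inf_le_left ?_
  rw [d.card_D]
  refine Nat.le_of_dvd Nat.card_pos (Nat.Coprime.mul_dvd_of_dvd_of_dvd
    (show Nat.Coprime 4 3 by norm_num) ?_ ?_)
  · exact d.card_V ▸ card_dvd_of_le (le_inf d.V_le fun b hb =>
      mem_centralizer_singleton_iff.2 (d.V_comm hb haD))
  · exact d.hx ▸ Subgroup.orderOf_dvd_natCard _ (mem_inf.2 ⟨d.x_mem_D,
      mem_centralizer_singleton_iff.2 (c.commute_V_x ha).symm⟩)

theorem conj_mem_V_of {v v' k : G} (hv : v ∈ c.V) (h1 : v ≠ 1) (hv' : v' ∈ c.V) (h1' : v' ≠ 1)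
    (hk : k * c.x = c.x * k) (e : k * v' * k⁻¹ = v) : k ∈ normalizer (c.V : Set G) := by
  refine mem_normalizer_fintype fun a ha => ?_
  rw [SetLike.mem_coe, ← c.V_atInv hv h1]
  refine (c.atInv _ _).mem_V.2 ⟨?_, ?_, ?_⟩
  · show k * a * k⁻¹ * v = v * (k * a * k⁻¹)
    rw [← e]
    calc k * a * k⁻¹ * (k * v' * k⁻¹) = k * (a * v') * k⁻¹ := by group
      _ = k * (v' * a) * k⁻¹ := by rw [c.V_comm ha hv']
      _ = _ := by group
  · show k * a * k⁻¹ * c.x = c.x * (k * a * k⁻¹)
    have hki : k⁻¹ * c.x = c.x * k⁻¹ := (Commute.inv_left hk).eq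
    rw [mul_assoc, hki, ← mul_assoc, mul_assoc k a, c.commute_V_x ha, ← mul_assoc, hk]
    group
  · calc k * a * k⁻¹ * (k * a * k⁻¹) = k * (a * a) * k⁻¹ := by group
      _ = 1 := by rw [c.sq_V ha]; group

theorem exists_y : ∃ y : G, y * c.x = c.x * y ∧ y ∈ normalizer (c.V : Set G) ∧
    ∀ v ∈ c.V, v ≠ 1 → y * v * y⁻¹ ≠ v := by
  classical
  by_contra hne
  push Not at hne
  have hfix : ∀ k, k * c.x = c.x * k → k ∈ normalizer (c.V : Set G) → k ∈ c.D := by
    intro k hk hkn
    obtain ⟨v, hv, h1, e⟩ := hne k hk hkn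
    exact c.mem_D.2 ⟨c.V_le_cent_of_fix hv h1 hk (mul_inv_eq_iff_eq_mul.1 e) _ c.t_mem_V, hk⟩
  set C := centralizer ({c.x} : Set G) with hC
  have := Fintype.ofFinite C
  have := Fintype.ofFinite {g : G // orderOf g = 2 ∧ Commute c.x g}
  have := Fintype.ofFinite {v : c.V // v ≠ 1}
  let f : C × {v : c.V // v ≠ 1} → {g : G // orderOf g = 2 ∧ Commute c.x g} := fun p =>
    ⟨p.1.1 * p.2.1.1 * (p.1.1)⁻¹,
      by rw [CfsgLib.Invol.orderOf_conj_eq]
         exact c.orderOf_V p.2.1.2 fun e => p.2.2 (Subtype.ext e), by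
      have hk : Commute c.x p.1.1 := (mem_centralizer_singleton_iff.1 p.1.2).symm
      exact (hk.mul_right (show Commute c.x p.2.1.1 from (c.commute_V_x p.2.1.2).symm)).mul_right
        hk.inv_right⟩
  have hfib : ∀ u ∈ (Finset.univ : Finset (C × {v : c.V // v ≠ 1})).image f,
      (Finset.univ.filter fun p => f p = u).card ≤ 12 := by
    intro u hu
    obtain ⟨p₀, -, rfl⟩ := Finset.mem_image.1 hu
    obtain ⟨⟨g, hg⟩, ⟨⟨v, hv⟩, hv1⟩⟩ := p₀
    have := Fintype.ofFinite c.D
    refine le_trans ?_ (le_of_eq (show Fintype.card c.D = 12 by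
      rw [← Nat.card_eq_fintype_card, c.card_D]))
    rw [← Finset.card_univ]
    have key : ∀ p : C × {v : c.V // v ≠ 1}, f p = f (⟨g, hg⟩, ⟨⟨v, hv⟩, hv1⟩) →
        g⁻¹ * p.1.1 ∈ c.D ∧ p.2.1.1 = v := by
      rintro ⟨⟨g', hg'⟩, ⟨⟨v', hv'⟩, hv1'⟩⟩ hp
      have e : g' * v' * g'⁻¹ = g * v * g⁻¹ := congrArg Subtype.val hp
      have hk : g⁻¹ * g' * c.x = c.x * (g⁻¹ * g') := by
        have hm := mul_mem (inv_mem hg) hg'
        exact mem_centralizer_singleton_iff.1 hm
      have e2 : g⁻¹ * g' * v' * (g⁻¹ * g')⁻¹ = v := by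
        calc g⁻¹ * g' * v' * (g⁻¹ * g')⁻¹ = g⁻¹ * (g' * v' * g'⁻¹) * g := by group
          _ = v := by rw [e]; group
      have hd := hfix _ hk (c.conj_mem_V_of hv (fun e => hv1 (Subtype.ext e)) hv'
        (fun e => hv1' (Subtype.ext e)) hk e2)
      refine ⟨hd, ?_⟩
      have h2 := c.V_le_cent_of_fix c.t_mem_V c.t_ne_one hk (c.mem_D.1 hd).1 v' hv'
      rw [← e2, h2, mul_inv_cancel_right]
    refine Finset.card_le_card_of_injOn
      (fun p => if h : g⁻¹ * p.1.1 ∈ c.D then ⟨_, h⟩ else 1) (fun _ _ => Finset.mem_univ _) ?_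
    intro p hp q hq hpq
    simp only [Finset.coe_filter, Finset.mem_univ, true_and, Set.mem_ofPred_eq] at hp hq
    obtain ⟨h1, h2⟩ := key p hp
    obtain ⟨h3, h4⟩ := key q hq
    simp only [dif_pos h1, dif_pos h3, Subtype.mk.injEq, mul_right_inj] at hpq
    exact Prod.ext (Subtype.ext hpq) (Subtype.ext (Subtype.ext (h2.trans h4.symm)))
  have h1 := Finset.card_le_mul_card_image (Finset.univ : Finset (C × {v : c.V // v ≠ 1})) 12 hfib
  have h2 := Finset.card_le_univ ((Finset.univ : Finset (C × {v : c.V // v ≠ 1})).image f)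
  rw [← Nat.card_eq_fintype_card, show Nat.card {g : G // orderOf g = 2 ∧ Commute c.x g} = 15 from
    ncom_three_two c.h c.hx] at h2
  rw [Finset.card_univ, ← Nat.card_eq_fintype_card, Nat.card_prod, show Nat.card C = 180 from cent_three c.h c.hx] at h1
  have h3 : Nat.card {v : c.V // v ≠ 1} = 3 := by
    have := Fintype.ofFinite c.V
    rw [Nat.card_eq_fintype_card, Fintype.card_subtype_compl, Fintype.card_subtype_eq,
      ← Nat.card_eq_fintype_card, c.card_V]
  rw [h3] at h1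
  omega

/-- An element of `C(x)` permuting the involutions of the four-group. -/
noncomputable def y : G := c.exists_y.choose

theorem y_x : c.y * c.x = c.x * c.y := c.exists_y.choose_spec.1

theorem y_norm_V : c.y ∈ normalizer (c.V : Set G) := c.exists_y.choose_spec.2.1

theorem y_move {v : G} (hv : v ∈ c.V) (h1 : v ≠ 1) : c.y * v * c.y⁻¹ ≠ v :=
  c.exists_y.choose_spec.2.2 v hv h1

theorem y_conj_mem {v : G} (hv : v ∈ c.V) : c.y * v * c.y⁻¹ ∈ c.V :=
  (mem_normalizer_iff.1 c.y_norm_V v).1 hv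

theorem three_cycle {α : Type*} {a b d : α} (f : α → α) (hf : Function.Injective f)
    (hab : a ≠ b) (had : a ≠ d) (hbd : b ≠ d) (ha : f a = b ∨ f a = d) (hb : f b = a ∨ f b = d)
    (hd : f d = a ∨ f d = b) :
    f (f (f a)) = a ∧ f (f (f b)) = b ∧ f (f (f d)) = d := by
  rcases ha with ha | ha <;> rcases hb with hb | hb <;> rcases hd with hd | hd <;>
    first
      | exact absurd (hf (ha.trans hb.symm)) hab
      | exact absurd (hf (ha.trans hd.symm)) had
      | exact absurd (hf (hb.trans hd.symm)) hbd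
      | simp only [ha, hb, hd, and_self]

theorem y_cube {v : G} (hv : v ∈ c.V) : c.y ^ 3 * v * (c.y ^ 3)⁻¹ = v := by
  rcases eq_or_ne v 1 with rfl | h1
  · group
  let f : G → G := fun g => c.y * g * c.y⁻¹
  have hf : Function.Injective f := fun a b e => by simpa [f] using e
  have him : ∀ {g}, g ∈ c.V → g ≠ 1 → f g = c.t ∨ f g = c.s ∨ f g = c.t * c.s := by
    intro g hg hg1
    rcases c.V_cases (c.y_conj_mem hg) with e | e
    · exact absurd (conj_eq_one_iff.1 e) hg1
    · exact e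
  obtain ⟨k1, k2, k3⟩ := three_cycle f hf c.s_ne_t.symm c.ts_ne_t.symm c.ts_ne_s.symm
    ((him c.t_mem_V c.t_ne_one).resolve_left (c.y_move c.t_mem_V c.t_ne_one))
    (by rcases him c.s_mem c.s_ne_one with e | e | e
        exacts [Or.inl e, absurd e (c.y_move c.s_mem c.s_ne_one), Or.inr e])
    (by rcases him (mul_mem c.t_mem_V c.s_mem) c.ts_ne_one with e | e | e
        exacts [Or.inl e, Or.inr e, absurd e (c.y_move (mul_mem c.t_mem_V c.s_mem) c.ts_ne_one)])
  have hk : f (f (f v)) = v := by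
    rcases c.V_cases hv with e | e | e | e
    · exact absurd e h1
    all_goals (subst e; assumption)
  calc c.y ^ 3 * v * (c.y ^ 3)⁻¹ = f (f (f v)) := by simp only [f, pow_succ, pow_zero, one_mul, mul_inv_rev, mul_assoc]
    _ = v := hk

end Loc

end CfsgLib.ClassK.M23Nse
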