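import Cfsg.Agent.Lib.ClassK.M12Nse.Basic
import Cfsg.Agent.Lib.StructB.OrderCount

/-!
A group of order 10200960 whose numbers of elements of given orders take the values of M23: counts
for the primes and the sizes of the normalisers of the cyclic Sylow subgroups.
-/

set_option autoImplicit false
set_option linter.unusedSectionVars false

namespace CfsgLib.ClassK.M23Nse

open Subgroup CfsgLib.StructB.OrderCount

universe u

/-- The values. -/
def vals : Finset ℕ :=
  {1, 3795, 56672, 318780, 680064, 850080, 1457280, 1275120, 1854720, 1360128, 887040}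

/-- The hypotheses on the group. -/
structure Hyp (G : Type u) [Group G] : Prop where
  card : Nat.card G = 10200960
  val : ∀ n : ℕ, cnt G n ≠ 0 → cnt G n ∈ vals
  ach : ∀ c ∈ vals, ∃ n : ℕ, cnt G n = c

variable {G : Type u} [Group G] [Finite G]

theorem sum_cnt : ∑ d ∈ (Nat.card G).divisors, cnt G d = Nat.card G := by
  rw [← card_root_eq Nat.card_pos.ne']
  exact Nat.card_congr (Equiv.subtypeUnivEquiv fun x => pow_card_eq_one')

theorem cnt_prime_dvd {p : ℕ} (hp : p.Prime) (hd : p ∣ Nat.card G) : p ∣ cnt G p + 1 := by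
  have h := dvd_sum_cnt hd
  rwa [hp.divisors, Finset.sum_pair hp.ne_one.symm, cnt_one, add_comm] at h

theorem Hyp.cases (h : Hyp G) (n : ℕ) : cnt G n = 0 ∨ cnt G n = 1 ∨ cnt G n = 3795 ∨
    cnt G n = 56672 ∨ cnt G n = 318780 ∨ cnt G n = 680064 ∨ cnt G n = 850080 ∨
    cnt G n = 1457280 ∨ cnt G n = 1275120 ∨ cnt G n = 1854720 ∨ cnt G n = 1360128 ∨
    cnt G n = 887040 := by
  by_cases hn : cnt G n = 0
  · exact Or.inl hn
  · have := h.val n hn
    simp only [vals, Finset.mem_insert, Finset.mem_singleton] at this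
    tauto

theorem Hyp.le_max (h : Hyp G) (n : ℕ) : cnt G n ≤ 1854720 := by
  rcases h.cases n with e | e | e | e | e | e | e | e | e | e | e | e <;> omega

/-- An odd count occurs only for the orders one and two. -/
theorem Hyp.cnt_two (h : Hyp G) : cnt G 2 = 3795 := by
  obtain ⟨n, hn⟩ := h.ach 3795 (by decide)
  rcases n with _ | _ | _ | n
  · have : cnt G 0 = 0 := by
      by_contra e
      obtain ⟨⟨g, hg⟩⟩ := (Nat.card_ne_zero.1 e).1
      exact (orderOf_pos g).ne' hg
    omega
  · rw [show 0 + 1 = 1 from rfl, cnt_one] at hn; omega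
  · exact hn
  · have := (even_cnt (G := G) (m := n + 1 + 1 + 1) (by omega)).two_dvd
    omega

theorem Hyp.cnt_three (h : Hyp G) : cnt G 3 = 56672 := by
  have hd := cnt_prime_dvd (G := G) Nat.prime_three (h.card ▸ by norm_num)
  have h2 := totient_dvd_cnt (G := G) 3
  rw [Nat.totient_prime Nat.prime_three] at h2
  rcases h.cases 3 with e | e | e | e | e | e | e | e | e | e | e | e <;> rw [e] at hd h2 ⊢ <;> omega

theorem Hyp.cnt_five (h : Hyp G) : cnt G 5 = 680064 := by
  have hd := cnt_prime_dvd (G := G) (p := 5) (by norm_num) (h.card ▸ by norm_num)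
  have h2 := totient_dvd_cnt (G := G) 5
  rw [Nat.totient_prime (by norm_num : Nat.Prime 5)] at h2
  rcases h.cases 5 with e | e | e | e | e | e | e | e | e | e | e | e <;> rw [e] at hd h2 ⊢ <;> omega

theorem Hyp.cnt_seven (h : Hyp G) : cnt G 7 = 1457280 := by
  have hd := cnt_prime_dvd (G := G) (p := 7) (by norm_num) (h.card ▸ by norm_num)
  have h2 := totient_dvd_cnt (G := G) 7
  rw [Nat.totient_prime (by norm_num : Nat.Prime 7)] at h2
  rcases h.cases 7 with e | e | e | e | e | e | e | e | e | e | e | e <;> rw [e] at hd h2 ⊢ <;> omega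

theorem Hyp.cnt_eleven (h : Hyp G) : cnt G 11 = 1854720 := by
  have hd := cnt_prime_dvd (G := G) (p := 11) (by norm_num) (h.card ▸ by norm_num)
  have h2 := totient_dvd_cnt (G := G) 11
  rw [Nat.totient_prime (by norm_num : Nat.Prime 11)] at h2
  rcases h.cases 11 with e | e | e | e | e | e | e | e | e | e | e | e <;> rw [e] at hd h2 ⊢ <;> omega

theorem Hyp.cnt_twentythree (h : Hyp G) : cnt G 23 = 887040 := by
  have hd := cnt_prime_dvd (G := G) (p := 23) (by norm_num) (h.card ▸ by norm_num)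
  have h2 := totient_dvd_cnt (G := G) 23
  rw [Nat.totient_prime (by norm_num : Nat.Prime 23)] at h2
  rcases h.cases 23 with e | e | e | e | e | e | e | e | e | e | e | e <;> rw [e] at hd h2 ⊢ <;> omega

/-- The number of elements of order `n` commuting with `x`. -/
noncomputable def ncom (x : G) (n : ℕ) : ℕ := Nat.card {y : G // orderOf y = n ∧ Commute x y}

/-- An element of order `p * q` is a commuting pair. -/
theorem cnt_mul {p q : ℕ} (hco : p.Coprime q) :
    cnt G (p * q) =
      Nat.card (Σ x : {g : G // orderOf g = p}, {y : G // orderOf y = q ∧ Commute (x : G) y}) := by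
  obtain ⟨α, hα1, hα0⟩ := Nat.chineseRemainder hco 1 0
  obtain ⟨β, hβ0, hβ1⟩ := Nat.chineseRemainder hco 0 1
  have key : ∀ {x y : G}, orderOf x = p → orderOf y = q → Commute x y →
      (x * y) ^ α = x ∧ (x * y) ^ β = y := by
    intro x y hx hy hc
    constructor
    · rw [hc.mul_pow, pow_eq_pow_iff_modEq.2 (show α ≡ 1 [MOD orderOf x] by rw [hx]; exact hα1),
        pow_one, pow_eq_pow_iff_modEq.2 (show α ≡ 0 [MOD orderOf y] by rw [hy]; exact hα0), pow_zero,
        mul_one]
    · rw [hc.mul_pow, pow_eq_pow_iff_modEq.2 (show β ≡ 0 [MOD orderOf x] by rw [hx]; exact hβ0),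
        pow_zero, pow_eq_pow_iff_modEq.2 (show β ≡ 1 [MOD orderOf y] by rw [hy]; exact hβ1), pow_one,
        one_mul]
  have hsum : ∀ {g : G}, orderOf g = p * q → g ^ α * g ^ β = g := by
    intro g hg
    rw [← pow_add]
    nth_rewrite 2 [← pow_one g]
    rw [pow_eq_pow_iff_modEq, hg]
    refine (Nat.modEq_and_modEq_iff_modEq_mul hco).1 ⟨?_, ?_⟩
    · simpa using hα1.add hβ0
    · simpa using hα0.add hβ1
  have hord : ∀ {g : G}, orderOf g = p * q → orderOf (g ^ α) = p ∧ orderOf (g ^ β) = q := by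
    intro g hg
    have hgp : orderOf (g ^ α) ∣ p := orderOf_dvd_of_pow_eq_one (by
      rw [← pow_mul, ← orderOf_dvd_iff_pow_eq_one, hg, mul_comm α]
      exact Nat.mul_dvd_mul_left p (Nat.modEq_zero_iff_dvd.1 hα0))
    have hgq : orderOf (g ^ β) ∣ q := orderOf_dvd_of_pow_eq_one (by
      rw [← pow_mul, ← orderOf_dvd_iff_pow_eq_one, hg]
      exact Nat.mul_dvd_mul_right (Nat.modEq_zero_iff_dvd.1 hβ0) q)
    have h := congrArg orderOf (hsum hg)
    rw [(Commute.pow_pow_self g α β).orderOf_mul_eq_mul_orderOf_of_coprime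
      ((hco.coprime_dvd_left hgp).coprime_dvd_right hgq), hg] at h
    have hp0 : 0 < p * q := hg ▸ orderOf_pos g
    have hp : 0 < p := Nat.pos_of_mul_pos_right hp0
    have hq : 0 < q := Nat.pos_of_mul_pos_left hp0
    have l1 := Nat.le_of_dvd hp hgp
    have l2 := Nat.le_of_dvd hq hgq
    constructor <;> nlinarith
  refine Nat.card_congr
    { toFun := fun g => ⟨⟨g.1 ^ α, (hord g.2).1⟩,
        ⟨g.1 ^ β, (hord g.2).2, Commute.pow_pow_self g.1 α β⟩⟩
      invFun := fun a => ⟨a.1.1 * a.2.1, by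
        rw [a.2.2.2.orderOf_mul_eq_mul_orderOf_of_coprime (by rw [a.1.2, a.2.2.1]; exact hco), a.1.2,
          a.2.2.1]⟩
      left_inv := fun g => Subtype.ext (hsum g.2)
      right_inv := ?_ }
  rintro ⟨⟨x, hx⟩, y, hy, hc⟩
  obtain ⟨e1, e2⟩ := key hx hy hc
  refine Sigma.ext (Subtype.ext e1) ?_
  refine (Subtype.heq_iff_coe_eq ?_).2 e2
  intro u
  simp only [e1]

theorem cnt_mul_sum {p q : ℕ} (hco : p.Coprime q) [Fintype {g : G // orderOf g = p}] :
    cnt G (p * q) = ∑ x : {g : G // orderOf g = p}, ncom (x : G) q := by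
  rw [cnt_mul hco, Nat.card_sigma]
  rfl

theorem ncom_conj (c x : G) (n : ℕ) : ncom (c * x * c⁻¹) n = ncom x n := by
  refine Nat.card_congr ((MulAut.conj c).toEquiv.subtypeEquiv fun y => ?_).symm
  constructor
  · rintro ⟨ho, hc⟩
    exact ⟨by rw [← ho]; exact CfsgLib.Invol.orderOf_conj_eq c y,
      hc.map (MulAut.conj c).toMonoidHom⟩
  · rintro ⟨ho, hc⟩
    refine ⟨by rw [← ho]; exact (CfsgLib.Invol.orderOf_conj_eq c y).symm, ?_⟩
    have h2 := hc.map (MulAut.conj c⁻¹).toMonoidHom
    simpa [mul_assoc] using h2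

theorem ncom_congr {x y : G} (h : zpowers x = zpowers y) (n : ℕ) : ncom x n = ncom y n := by
  have key : ∀ {a b : G}, zpowers a = zpowers b → ∀ z, Commute a z → Commute b z := by
    intro a b hab z hz
    obtain ⟨k, hk⟩ := mem_zpowers_iff.1 (show b ∈ zpowers a from hab ▸ mem_zpowers b)
    exact hk ▸ hz.zpow_left k
  exact Nat.card_congr (Equiv.subtypeEquivRight fun z =>
    and_congr_right fun _ => ⟨key h z, key h.symm z⟩)

theorem exists_sylow_eq {p : ℕ} [hp : Fact p.Prime] (hd : p ∣ Nat.card G)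
    (hd2 : ¬ p ^ 2 ∣ Nat.card G) {x : G} (hx : orderOf x = p) :
    ∃ P : Sylow p G, (P : Subgroup G) = zpowers x := by
  obtain ⟨P, hP⟩ := (IsPGroup.of_card (G := zpowers x) (p := p) (n := 1)
    (by rw [Nat.card_zpowers, hx, pow_one])).exists_le_sylow
  exact ⟨P, (eq_of_le_of_card_ge hP
    (by rw [CfsgLib.Transfer.card_sylow_eq_prime P hd hd2, Nat.card_zpowers, hx])).symm⟩

/-- For a prime dividing the order once, all fibres are equally large. -/
theorem cnt_mul_prime {p q : ℕ} [hp : Fact p.Prime] (hd : p ∣ Nat.card G)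
    (hd2 : ¬ p ^ 2 ∣ Nat.card G) (hco : p.Coprime q) {x : G} (hx : orderOf x = p) :
    cnt G (p * q) = cnt G p * ncom x q := by
  classical
  have := Fintype.ofFinite {g : G // orderOf g = p}
  rw [cnt_mul_sum hco, Finset.sum_congr rfl (g := fun _ => ncom x q) fun z _ => ?_, Finset.sum_const,
    Finset.card_univ, ← Nat.card_eq_fintype_card, smul_eq_mul]
  · rfl
  obtain ⟨P, hP⟩ := exists_sylow_eq hd hd2 hx
  obtain ⟨Q, hQ⟩ := exists_sylow_eq hd hd2 z.2
  obtain ⟨c, rfl⟩ := MulAction.exists_smul_eq G P Q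
  rw [ncom_congr (y := c * x * c⁻¹) ?_, ncom_conj]
  rw [← hQ, Sylow.coe_subgroup_smul, hP]
  show (zpowers x).map (MulAut.conj c).toMonoidHom = _
  rw [MonoidHom.map_zpowers]
  rfl

theorem card_normalizer (h : Hyp G) {p k : ℕ} [hp : Fact p.Prime] (hd : p ∣ 10200960)
    (hd2 : ¬ p ^ 2 ∣ 10200960) (hk : cnt G p = k) {x : G} (hx : orderOf x = p) :
    k * Nat.card (normalizer (zpowers x : Set G)) = (p - 1) * 10200960 := by
  obtain ⟨P, hP⟩ := exists_sylow_eq (h.card ▸ hd) (h.card ▸ hd2) hx
  have hPc := CfsgLib.Transfer.card_sylow_eq_prime P (h.card ▸ hd) (h.card ▸ hd2)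
  rw [cnt, CfsgLib.Transfer.card_orderOf_eq_prime P hPc] at hk
  have h1 := (normalizer ((P : Subgroup G) : Set G)).index_mul_card
  rw [← show Nat.card (Sylow p G) = (normalizer ((P : Subgroup G) : Set G)).index from
    P.card_eq_index_normalizer, h.card, hP] at h1
  rw [← hk]
  calc _ = (p - 1) * (Nat.card (Sylow p G) * Nat.card (normalizer (zpowers x : Set G))) := by ring
    _ = (p - 1) * 10200960 := by rw [h1]

theorem norm_five (h : Hyp G) {x : G} (hx : orderOf x = 5) :
    Nat.card (normalizer (zpowers x : Set G)) = 60 := by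
  have : Fact (Nat.Prime 5) := ⟨by norm_num⟩
  have := card_normalizer h (by norm_num) (by norm_num) h.cnt_five hx
  omega

theorem norm_seven (h : Hyp G) {x : G} (hx : orderOf x = 7) :
    Nat.card (normalizer (zpowers x : Set G)) = 42 := by
  have : Fact (Nat.Prime 7) := ⟨by norm_num⟩
  have := card_normalizer h (by norm_num) (by norm_num) h.cnt_seven hx
  omega

theorem norm_eleven (h : Hyp G) {x : G} (hx : orderOf x = 11) :
    Nat.card (normalizer (zpowers x : Set G)) = 55 := by
  have : Fact (Nat.Prime 11) := ⟨by norm_num⟩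
  have := card_normalizer h (by norm_num) (by norm_num) h.cnt_eleven hx
  omega

theorem norm_twentythree (h : Hyp G) {x : G} (hx : orderOf x = 23) :
    Nat.card (normalizer (zpowers x : Set G)) = 253 := by
  have : Fact (Nat.Prime 23) := ⟨by norm_num⟩
  have := card_normalizer h (by norm_num) (by norm_num) h.cnt_twentythree hx
  omega

end CfsgLib.ClassK.M23Nse
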