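import Cfsg.Agent.Lib.ClassK.M23Nse.Sub

/-!
The centralizer in `C(t)` of the four-group has order 192, and `C(t)` has a normal elementary
abelian subgroup of order sixteen containing the four-group.
-/

set_option autoImplicit false
set_option linter.unusedSectionVars false

namespace CfsgLib.ClassK.M23Nse

open Subgroup CfsgLib.StructB.OrderCount

universe u

variable {G : Type u} [Group G] [Finite G]

theorem card_sylow_exact {H : Type u} [Group H] [Finite H] (Q : Sylow 2 H) {n : ℕ}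
    (h1 : 2 ^ n ∣ Nat.card H) (h2 : ¬ 2 ^ (n + 1) ∣ Nat.card H) :
    Nat.card (Q : Subgroup H) = 2 ^ n := by
  have : Fact (Nat.Prime 2) := ⟨Nat.prime_two⟩
  obtain ⟨j, hj⟩ := Q.2.exists_card_eq
  have hle : n ≤ j := (Nat.pow_dvd_pow_iff_le_right (by norm_num)).1
    (hj ▸ Q.pow_dvd_card_of_pow_dvd_card h1)
  have hge : j ≤ n := by
    by_contra hlt
    exact h2 ((pow_dvd_pow 2 (by omega : n + 1 ≤ j)).trans (hj ▸ card_subgroup_dvd_card _))
  rw [hj, le_antisymm hge hle]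

namespace Loc

variable (c : Loc G)

theorem exists_sylow_two {S : Subgroup G} {k : ℕ} (hS : S ≤ c.L) (hc : Nat.card S = 2 ^ k) :
    ∃ P : Subgroup G, S ≤ P ∧ P ≤ c.L ∧ Nat.card P = 128 := by
  have : Fact (Nat.Prime 2) := ⟨Nat.prime_two⟩
  obtain ⟨Q, hQ⟩ := (IsPGroup.of_card (G := S.subgroupOf c.L) (p := 2) (n := k)
    ((Nat.card_congr (subgroupOfEquivOfLe hS).toEquiv).trans hc)).exists_le_sylow
  refine ⟨(Q : Subgroup c.L).map c.L.subtype, fun g hg => ⟨⟨g, hS hg⟩, hQ hg, rfl⟩,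
    map_subtype_le _, ?_⟩
  rw [card_map_of_injective c.L.subtype_injective,
    card_sylow_exact Q (n := 7) (by rw [c.card_L]; norm_num) (by rw [c.card_L]; norm_num)]
  norm_num

theorem card_A_ne_twelve : Nat.card c.A ≠ 12 := by
  intro h12
  obtain ⟨P, hVP, hPL, hPc⟩ := c.exists_sylow_two (S := c.V) (k := 2)
    (c.V_le.trans inf_le_left) c.card_V
  have hC : Nat.card (centralizer ({(⟨c.s, hVP c.s_mem⟩ : P)} : Set P)) = 4 := by
    have he : Nat.card (centralizer ({(⟨c.s, hVP c.s_mem⟩ : P)} : Set P)) =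
        Nat.card (P ⊓ centralizer ({c.s} : Set G) : Subgroup G) :=
      Nat.card_congr
        { toFun := fun g => ⟨g.1.1, mem_inf.2 ⟨g.1.2, mem_centralizer_singleton_iff.2
            (congrArg Subtype.val (mem_centralizer_singleton_iff.1 g.2))⟩⟩
          invFun := fun g => ⟨⟨g.1, (mem_inf.1 g.2).1⟩, mem_centralizer_singleton_iff.2
            (Subtype.ext (mem_centralizer_singleton_iff.1 (mem_inf.1 g.2).2))⟩
          left_inv := fun g => rfl
          right_inv := fun g => rfl }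
    rw [he]
    have h1 : Nat.card (P ⊓ centralizer ({c.s} : Set G) : Subgroup G) ∣ 128 :=
      hPc ▸ card_dvd_of_le inf_le_left
    have h2 : Nat.card (P ⊓ centralizer ({c.s} : Set G) : Subgroup G) ∣ 12 :=
      h12 ▸ card_dvd_of_le (inf_le_inf hPL le_rfl)
    have h3 : 4 ∣ Nat.card (P ⊓ centralizer ({c.s} : Set G) : Subgroup G) :=
      c.card_V ▸ card_dvd_of_le (le_inf hVP (c.V_le_A.trans inf_le_right))
    exact Nat.dvd_antisymm (by simpa using Nat.dvd_gcd h1 h2) h3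
  obtain ⟨g, hg⟩ := exists_half_order 4 P (hPc.trans (by norm_num)) ⟨c.s, hVP c.s_mem⟩
    (Subtype.ext (c.sq_V c.s_mem)) hC
  rw [← Subgroup.orderOf_coe] at hg
  exact c.h.no_order (n := 2 ^ (4 + 2)) (by decide) hg

theorem mem_A_y {g : G} (hg : g ∈ c.A) : c.y * g * c.y⁻¹ ∈ c.A := by
  have key : ∀ v ∈ c.V, c.y * g * c.y⁻¹ * v = v * (c.y * g * c.y⁻¹) := by
    intro v hv
    have hv' : c.y⁻¹ * v * c.y ∈ c.V := by
      simpa using (mem_normalizer_iff.1 (inv_mem c.y_norm_V) v).1 hv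
    calc c.y * g * c.y⁻¹ * v = c.y * (g * (c.y⁻¹ * v * c.y)) * c.y⁻¹ := by group
      _ = c.y * ((c.y⁻¹ * v * c.y) * g) * c.y⁻¹ := by rw [c.A_comm hg hv']
      _ = v * (c.y * g * c.y⁻¹) := by group
  exact c.mem_A.2 ⟨key _ c.t_mem_V, key _ c.s_mem⟩

theorem mem_A_w {g : G} (hg : g ∈ c.A) : c.w * g * c.w⁻¹ ∈ c.A := by
  obtain ⟨h1, h2⟩ := c.mem_A.1 hg
  refine c.mem_A.2 ⟨c.mem_L.1 (mul_mem (mul_mem c.w_mem_L (c.mem_L.2 h1)) (inv_mem c.w_mem_L)), ?_⟩
  have hts : g * (c.t * c.s) = c.t * c.s * g := c.A_comm hg (mul_mem c.t_mem_V c.s_mem)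
  have e : c.w * (c.t * c.s) * c.w⁻¹ = c.s := by
    calc c.w * (c.t * c.s) * c.w⁻¹ = c.w * c.t * c.w⁻¹ * (c.w * c.s * c.w⁻¹) := by group
      _ = c.s := by rw [c.w_t, c.w_s, ← mul_assoc, CfsgLib.Invol.invol_mul_self c.ht, one_mul]
  calc c.w * g * c.w⁻¹ * c.s = c.w * (g * (c.t * c.s)) * c.w⁻¹ := by
        conv_lhs => rw [← e]
        group
    _ = c.s * (c.w * g * c.w⁻¹) := by
        rw [hts]
        conv_rhs => rw [← e]
        group

theorem exists_R (h48 : Nat.card c.A = 48) : ∃ R : Subgroup G, R ≤ c.A ∧ c.V ≤ R ∧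
    Nat.card R = 16 ∧ c.A ≤ normalizer (R : Set G) ∧
    (∀ g ∈ c.A, ∀ k : ℕ, orderOf g ∣ 2 ^ k → g ∈ R) ∧ ∀ a ∈ R, a * a = 1 := by
  classical
  have : Fact (Nat.Prime 2) := ⟨Nat.prime_two⟩
  have : Fact (Nat.Prime 3) := ⟨Nat.prime_three⟩
  obtain ⟨T, hT⟩ := (IsPGroup.of_card (G := c.V.subgroupOf c.A) (p := 2) (n := 2)
    ((Nat.card_congr (subgroupOfEquivOfLe c.V_le_A).toEquiv).trans c.card_V)).exists_le_sylow
  have hTc : Nat.card (T : Subgroup c.A) = 2 ^ 4 := card_sylow_exact T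
    (by rw [h48]; norm_num) (by rw [h48]; norm_num)
  have hTi : (T : Subgroup c.A).index = 3 := by
    have := (T : Subgroup c.A).card_mul_index
    rw [hTc, h48] at this
    omega
  have hVn : (c.V.subgroupOf c.A).Normal := ⟨fun a ha g => by
    refine mem_subgroupOf.2 ?_
    show g.1 * a.1 * g.1⁻¹ ∈ c.V
    rw [c.A_comm g.2 (mem_subgroupOf.1 ha), mul_inv_cancel_right]
    exact mem_subgroupOf.1 ha⟩
  set K := (T : Subgroup c.A).normalCore with hK
  have hVK : c.V.subgroupOf c.A ≤ K := normal_le_normalCore.2 hT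
  have hKi : K.index ∣ 6 := by
    rw [hK, normalCore_eq_ker, index_ker]
    refine (card_subgroup_dvd_card _).trans ?_
    rw [Nat.card_perm, ← index_eq_card, hTi]
    norm_num [Nat.factorial]
  set R := K.map c.A.subtype with hR
  have hRA : R ≤ c.A := map_subtype_le _
  have hnR : c.A ≤ normalizer (R : Set G) := by
    intro g hg
    refine mem_normalizer_fintype ?_
    rintro a ⟨a', ha', rfl⟩
    exact ⟨_, (normalCore_normal _).conj_mem a' ha' ⟨g, hg⟩, rfl⟩
  have hVR : c.V ≤ R := fun v hv => ⟨⟨v, c.V_le_A hv⟩, hVK hv, rfl⟩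
  have hRK : Nat.card R = Nat.card K := card_map_of_injective c.A.subtype_injective
  have hmul := K.card_mul_index
  rw [h48, ← hRK] at hmul
  have h3i : 3 ∣ K.index := hTi ▸ index_dvd_of_le (normalCore_le _)
  have hRc : Nat.card R = 16 := by
    have hcases : K.index = 3 ∨ K.index = 6 := by
      have : ∀ m ∈ Nat.divisors 6, 3 ∣ m → m = 3 ∨ m = 6 := by decide
      exact this _ (Nat.mem_divisors.2 ⟨hKi, by norm_num⟩) h3i
    rcases hcases with e | e <;> rw [e] at hmul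
    · omega
    · exfalso
      have h8 : Nat.card R = 8 := by omega
      have heq : R ⊓ centralizer ({c.x} : Set G) = c.V :=
        le_antisymm (c.inf_cent_x_le (hRA.trans inf_le_left) (k := 3) (h8.trans (by norm_num)))
          (le_inf hVR fun v hv => mem_centralizer_singleton_iff.2 (c.commute_V_x hv))
      have := card_modEq_fixed (p := 3) c.hx (hnR c.x_mem_A)
      rw [heq, h8, c.card_V] at this
      norm_num at this
  have hrel : R.relIndex c.A = 3 := by
    have h1 := (R.subgroupOf c.A).card_mul_index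
    rw [Nat.card_congr (subgroupOfEquivOfLe hRA).toEquiv, hRc, h48] at h1
    show (R.subgroupOf c.A).index = 3
    omega
  have hmem : ∀ g ∈ c.A, ∀ k : ℕ, orderOf g ∣ 2 ^ k → g ∈ R := fun g hg k hk =>
    mem_of_coprime_index hnR hg
      (Nat.Coprime.coprime_dvd_left hk (by rw [hrel]; exact Nat.Coprime.pow_left k (by norm_num)))
  refine ⟨R, hRA, hVR, hRc, hnR, hmem, ?_⟩
  have hxV : ∀ r ∈ R, r * c.x = c.x * r → r ∈ c.V := fun r hr e =>
    c.inf_cent_x_le (hRA.trans inf_le_left) (k := 4) (hRc.trans (by norm_num))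
      (mem_inf.2 ⟨hr, mem_centralizer_singleton_iff.2 e⟩)
  -- an element outside `V` with square in `V`
  obtain ⟨a, haR, haV, ha2⟩ : ∃ a ∈ R, a ∉ c.V ∧ a * a ∈ c.V := by
    obtain ⟨r, hr, hrV⟩ : ∃ r ∈ R, r ∉ c.V := by
      by_contra hh
      push Not at hh
      have := card_le_of_le hh
      rw [hRc, c.card_V] at this
      omega
    by_cases h2 : r * r ∈ c.V
    · exact ⟨r, hr, hrV, h2⟩
    · refine ⟨r * r, mul_mem hr hr, h2, ?_⟩
      have : (c.V.subgroupOf R).Normal := ⟨fun a ha g => by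
        refine mem_subgroupOf.2 ?_
        show g.1 * a.1 * g.1⁻¹ ∈ c.V
        rw [c.A_comm (hRA g.2) (mem_subgroupOf.1 ha), mul_inv_cancel_right]
        exact mem_subgroupOf.1 ha⟩
      have hi : (c.V.subgroupOf R).index = 4 := by
        have h1 := (c.V.subgroupOf R).card_mul_index
        rw [Nat.card_congr (subgroupOfEquivOfLe hVR).toEquiv, c.card_V, hRc] at h1
        omega
      have := mem_subgroupOf.1 ((c.V.subgroupOf R).pow_index_mem ⟨r, hr⟩)
      rw [hi] at this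
      convert this using 1
      show r * r * (r * r) = r ^ 4
      simp [pow_succ, mul_assoc]
  set d := a * a with hd
  set S : Set G := {r | r ∈ R ∧ r * r = d} with hS
  set a₁ := c.x * a * c.x⁻¹ with ha₁
  set a₂ := c.x * a₁ * c.x⁻¹ with ha₂
  have hconjR : ∀ r ∈ R, c.x * r * c.x⁻¹ ∈ R := fun r hr =>
    (mem_normalizer_iff.1 (hnR c.x_mem_A) r).1 hr
  have ha1R : a₁ ∈ R := hconjR _ haR
  have ha2R : a₂ ∈ R := hconjR _ ha1R
  have hsqx : ∀ r, r * r = d → (c.x * r * c.x⁻¹) * (c.x * r * c.x⁻¹) = d := fun r e => by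
    calc c.x * r * c.x⁻¹ * (c.x * r * c.x⁻¹) = c.x * (r * r) * c.x⁻¹ := by group
      _ = d := by rw [e, ← c.commute_V_x ha2, mul_inv_cancel_right]
  have hsqv : ∀ r ∈ R, r * r = d → ∀ v ∈ c.V, r * v * (r * v) = d := fun r hr e v hv => by
    calc r * v * (r * v) = r * (v * r) * v := by group
      _ = r * (r * v) * v := by rw [c.A_comm (hRA hr) hv]
      _ = r * r * (v * v) := by group
      _ = d := by rw [e, c.sq_V hv, mul_one]
  have hno : ∀ r ∈ R, r ∉ c.V → ∀ v ∈ c.V, c.x * r * c.x⁻¹ ≠ r * v := by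
    intro r hr hrV v hv e
    refine hrV (hxV r hr ?_)
    have hx3 : c.x * c.x * c.x = 1 := by
      rw [← pow_two, ← pow_succ, show 2 + 1 = orderOf c.x from c.hx.symm, pow_orderOf_eq_one]
    have e2 : c.x * (c.x * r * c.x⁻¹) * c.x⁻¹ = r := by
      calc c.x * (c.x * r * c.x⁻¹) * c.x⁻¹ = c.x * (r * v) * c.x⁻¹ := by rw [e]
        _ = c.x * r * c.x⁻¹ * (c.x * v * c.x⁻¹) := by group
        _ = r * (v * v) := by rw [e, ← c.commute_V_x hv, mul_inv_cancel_right]; group
        _ = r := by rw [c.sq_V hv, mul_one]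
    refine mul_inv_eq_iff_eq_mul.1 (Eq.symm ?_) |>.symm
    calc r = (c.x * c.x * c.x) * r * (c.x * c.x * c.x)⁻¹ := by rw [hx3]; group
      _ = c.x * (c.x * (c.x * r * c.x⁻¹) * c.x⁻¹) * c.x⁻¹ := by group
      _ = c.x * r * c.x⁻¹ := by rw [e2]
  have hnotV : ∀ r ∈ R, r ∉ c.V → c.x * r * c.x⁻¹ ∉ c.V := fun r hr hrV h => hrV (by
    have h' : c.x⁻¹ * (c.x * r * c.x⁻¹) * c.x = c.x * r * c.x⁻¹ := by
      rw [mul_assoc, c.commute_V_x h, ← mul_assoc, inv_mul_cancel, one_mul]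
    rw [show c.x⁻¹ * (c.x * r * c.x⁻¹) * c.x = r by group] at h'
    rwa [← h'] at h)
  let f : Fin 3 × c.V → G := fun p => ![a, a₁, a₂] p.1 * (p.2 : G)
  have hfi : Function.Injective f := by
    have hsep : ∀ b b', (∀ v ∈ c.V, b' ≠ b * v) → ∀ v v' : c.V, b * v ≠ b' * v' := by
      intro b b' hb v v' e
      refine hb ((v : G) * (v' : G)⁻¹) (mul_mem v.2 (inv_mem v'.2)) ?_
      rw [← mul_assoc, e, mul_inv_cancel_right]
    have h01 : ∀ v ∈ c.V, a₁ ≠ a * v := hno a haR haV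
    have h12 : ∀ v ∈ c.V, a₂ ≠ a₁ * v := hno a₁ ha1R (hnotV a haR haV)
    have h20 : ∀ v ∈ c.V, a ≠ a₂ * v := by
      intro v hv e
      refine hno a₂ ha2R (hnotV a₁ ha1R (hnotV a haR haV)) v hv ?_
      rw [← e, ha₂, ha₁]
      have hx3 : c.x ^ 3 = 1 := c.hx ▸ pow_orderOf_eq_one c.x
      calc c.x * (c.x * (c.x * a * c.x⁻¹) * c.x⁻¹) * c.x⁻¹ = c.x ^ 3 * a * (c.x ^ 3)⁻¹ := by
            simp only [pow_succ, pow_zero, one_mul, mul_inv_rev, mul_assoc]
        _ = a := by rw [hx3]; group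
    rintro ⟨i, v⟩ ⟨j, v'⟩ e
    fin_cases i <;> fin_cases j <;> simp [f] at e ⊢ <;>
      first
        | exact e
        | exact absurd e (hsep _ _ h01 v v')
        | exact absurd e.symm (hsep _ _ h01 v' v)
        | exact absurd e (hsep _ _ h12 v v')
        | exact absurd e.symm (hsep _ _ h12 v' v)
        | exact absurd e (hsep _ _ h20 v v')
        | exact absurd e.symm (hsep _ _ h20 v' v)
  have hfS : ∀ p, f p ∈ S ∧ f p ∉ c.V := by
    rintro ⟨i, v⟩
    have hb : ∀ b ∈ R, b * b = d → b ∉ c.V → b * v ∈ S ∧ b * (v : G) ∉ c.V := fun b hb e hbV =>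
      ⟨⟨mul_mem hb (hVR v.2), hsqv b hb e v v.2⟩, fun h => hbV ((mul_mem_cancel_right v.2).1 h)⟩
    fin_cases i <;> simp [f]
    · exact hb a haR rfl haV
    · exact hb a₁ ha1R (hsqx a rfl) (hnotV a haR haV)
    · exact hb a₂ ha2R (hsqx a₁ (hsqx a rfl)) (hnotV a₁ ha1R (hnotV a haR haV))
  have hcov : ∀ r ∈ R, r ∉ c.V → r * r = d := by
    intro r hr hrV
    have hsub : Set.range f ⊆ (R : Set G) \ c.V := by
      rintro _ ⟨p, rfl⟩
      exact ⟨(hfS p).1.1, (hfS p).2⟩
    have heq := Set.eq_of_subset_of_ncard_le hsub (by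
      rw [Set.ncard_range_of_injective hfi, Set.ncard_sdiff hVR (Set.toFinite _),
        ← Nat.card_coe_set_eq, ← Nat.card_coe_set_eq, SetLike.coe_sort_coe, SetLike.coe_sort_coe,
        hRc, c.card_V, Nat.card_prod, Nat.card_fin, c.card_V]) (Set.toFinite _)
    obtain ⟨p, hp⟩ : r ∈ Set.range f := heq ▸ (show r ∈ (R : Set G) \ c.V from ⟨hr, hrV⟩)
    exact hp ▸ (hfS p).1.2
  have hd1 : d = 1 := by
    by_contra hne
    refine c.y_move ha2 hne ?_
    have hb : c.y * a * c.y⁻¹ ∈ R := hmem _ (c.mem_A_y (hRA haR)) 4 (by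
      rw [CfsgLib.Invol.orderOf_conj_eq, show (2 : ℕ) ^ 4 = Nat.card R by rw [hRc]; norm_num]
      exact Subgroup.orderOf_dvd_natCard _ haR)
    have hbV : c.y * a * c.y⁻¹ ∉ c.V := fun h => haV ((mem_normalizer_iff.1 c.y_norm_V a).2 h)
    have := hcov _ hb hbV
    rw [show c.y * a * c.y⁻¹ * (c.y * a * c.y⁻¹) = c.y * (a * a) * c.y⁻¹ by group] at this
    exact this
  intro r hr
  by_cases hrV : r ∈ c.V
  · exact c.sq_V hrV
  · rw [hcov r hr hrV, hd1]

theorem card_A_ne_48 : Nat.card c.A ≠ 48 := by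
  intro h48
  classical
  have : Fact (Nat.Prime 2) := ⟨Nat.prime_two⟩
  have : Fact (Nat.Prime 3) := ⟨Nat.prime_three⟩
  obtain ⟨R, hRA, hVR, hRc, hnR, hmem, hsq⟩ := c.exists_R h48
  have hRL : R ≤ c.L := hRA.trans inf_le_left
  set H := c.L ⊓ normalizer (R : Set G) with hH
  have hAH : c.A ≤ H := le_inf inf_le_left hnR
  have hwH : c.w ∈ H := mem_inf.2 ⟨c.w_mem_L, mem_normalizer_fintype fun r hr =>
    hmem _ (c.mem_A_w (hRA hr)) 4 (by
      rw [CfsgLib.Invol.orderOf_conj_eq, show (2 : ℕ) ^ 4 = Nat.card R by rw [hRc]; norm_num]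
      exact Subgroup.orderOf_dvd_natCard _ hr)⟩
  have hHd : Nat.card H ∣ 2688 := c.card_L ▸ card_dvd_of_le inf_le_left
  have hnocore : ∀ K : Subgroup G, K ≤ c.L → c.L ≤ normalizer (K : Set G) → c.t ∈ K →
      2 < Nat.card K → K ≠ c.L → False := by
    intro K hK hn ht hk hne
    obtain ⟨h1, h2, -⟩ := c.normal_sub hK hn ht hk hne
    have := c.card_A_of_normal h1 h2 hn
    omega
  have hsmall : Nat.card H < 384 := by
    by_contra hge
    push Not at hge
    rcases Nat.lt_or_ge (Nat.card H) 2688 with hlt | htop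
    · obtain ⟨K, h1, h2, h3, h4, h5⟩ := c.exists_normal_of_index (H := H) inf_le_left
        (hAH (c.V_le_A c.t_mem_V)) hlt (by omega)
      exact hnocore K h1 h2 h3 h4 h5
    · have hHL : H = c.L := eq_of_le_of_card_ge inf_le_left (c.card_L ▸ htop)
      refine hnocore R hRL (hHL ▸ inf_le_right) (hVR c.t_mem_V) (by omega) fun e => ?_
      rw [e, c.card_L] at hRc
      norm_num at hRc
  have hnorm : H ⊓ normalizer (zpowers c.x : Set G) = c.L ⊓ normalizer (zpowers c.x : Set G) := by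
    refine le_antisymm (inf_le_inf inf_le_left le_rfl) (le_inf (fun g hg => ?_) inf_le_right)
    by_cases hgD : g ∈ c.D
    · exact hAH (c.D_le_A hgD)
    · rcases c.conj_x_cases (mem_inf.1 hg).2 with e | e
      · exact absurd (c.mem_D.2 ⟨c.mem_L.1 (mem_inf.1 hg).1, mul_inv_eq_iff_eq_mul.1 e⟩) hgD
      · have hd : c.w⁻¹ * g ∈ c.D := by
          refine c.mem_D.2 ⟨c.mem_L.1 (mul_mem (inv_mem c.w_mem_L) (mem_inf.1 hg).1), ?_⟩
          refine mul_inv_eq_iff_eq_mul.1 ?_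
          calc c.w⁻¹ * g * c.x * (c.w⁻¹ * g)⁻¹ = c.w⁻¹ * (g * c.x * g⁻¹) * c.w := by group
            _ = c.x := by rw [e, ← c.w_x]; group
        have := mul_mem hwH (hAH (c.D_le_A hd))
        rwa [mul_inv_cancel_left] at this
  have h96 : Nat.card H = 96 := by
    obtain ⟨m, hm, hmul⟩ := exists_sylow_count (hAH c.x_mem_A) c.hx
      (fun h => by have := h.trans hHd; norm_num at this)
    rw [hnorm, c.norm_three] at hmul
    have h48d : 48 ∣ Nat.card H := h48 ▸ card_dvd_of_le hAH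
    have key : ∀ a ∈ Nat.divisors 2688, a < 384 → 48 ∣ a → 24 ∣ a → (a / 24) % 3 = 1 → a = 96 := by
      decide +kernel
    exact key _ (Nat.mem_divisors.2 ⟨hHd, by norm_num⟩) hsmall h48d ⟨m, by omega⟩
      (by rw [← hmul, Nat.mul_div_cancel _ (by norm_num)]; exact hm)
  -- a subgroup of order 32 of `H` contains `R`
  obtain ⟨T, hTH, hTc⟩ := exists_subgroup_two_pow (k := 5) (K := H) (by rw [h96]; norm_num)
  have hRT : R ≤ T := by
    have hp : IsPGroup 2 (R ⊔ T : Subgroup G) := IsPGroup.to_sup_of_normal_left'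
      (IsPGroup.of_card (n := 4) hRc) (IsPGroup.of_card hTc) (hTH.trans inf_le_right)
    obtain ⟨j, hj⟩ := hp.exists_card_eq
    have hd : Nat.card (R ⊔ T : Subgroup G) ∣ 96 :=
      h96 ▸ card_dvd_of_le (sup_le (le_inf hRL le_normalizer) hTH)
    rw [hj] at hd
    have hj5 : j ≤ 5 := by
      by_contra hlt
      have := (pow_dvd_pow 2 (show 6 ≤ j by omega)).trans hd
      norm_num at this
    have := eq_of_le_of_card_ge (le_sup_right : T ≤ R ⊔ T)
      (by rw [hTc, hj]; exact Nat.pow_le_pow_right (by norm_num) hj5)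
    exact this ▸ le_sup_left
  obtain ⟨P, hTP, hPL, hPc⟩ := c.exists_sylow_two (hTH.trans inf_le_left) hTc
  obtain ⟨g, hgP, hgT, hgn⟩ := exists_mem_normalizer (T := T) (k := 7) (hPc.trans (by norm_num)) hTP
    (fun e => by rw [← e, hTc] at hPc; norm_num at hPc)
  -- `g` does not normalise `R`
  have hgR : g ∉ normalizer (R : Set G) := by
    intro hg
    have hle : T ≤ P ⊓ H := le_inf hTP hTH
    have : T = P ⊓ H := eq_of_le_of_card_ge hle (by
      have h1 : Nat.card (P ⊓ H : Subgroup G) ∣ 128 := hPc ▸ card_dvd_of_le inf_le_left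
      have h2 : Nat.card (P ⊓ H : Subgroup G) ∣ 96 := h96 ▸ card_dvd_of_le inf_le_right
      rw [hTc]
      exact Nat.le_of_dvd (by norm_num) (by simpa using Nat.dvd_gcd h1 h2))
    exact hgT (this ▸ mem_inf.2 ⟨hgP, mem_inf.2 ⟨hPL hgP, hg⟩⟩)
  obtain ⟨r₀, hr₀, hr₀'⟩ : ∃ r ∈ R, g * r * g⁻¹ ∉ R := by
    by_contra hh
    push Not at hh
    exact hgR (mem_normalizer_fintype hh)
  set b := g * r₀ * g⁻¹ with hb
  have hbT : b ∈ T := (mem_normalizer_iff.1 hgn r₀).1 (hRT hr₀)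
  have hbH : b ∈ H := hTH hbT
  set R' := R.map (MulAut.conj g).toMonoidHom with hR'
  have hR'T : R' ≤ T := by
    rintro _ ⟨r, hr, rfl⟩
    exact (mem_normalizer_iff.1 hgn r).1 (hRT hr)
  have hR'comm : ∀ a ∈ R', ∀ a' ∈ R', a * a' = a' * a := by
    have hsq' : ∀ a ∈ R', a * a = 1 := by
      rintro _ ⟨r, hr, rfl⟩
      rw [← map_mul, hsq r hr, map_one]
    intro a ha a' ha'
    calc a * a' = (a * a')⁻¹ := eq_inv_of_mul_eq_one_left (hsq' _ (mul_mem ha ha'))
      _ = a' * a := by rw [mul_inv_rev, inv_eq_of_mul_eq_one_right (hsq' a ha),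
          inv_eq_of_mul_eq_one_right (hsq' a' ha')]
  -- the fixed points of `b` on `R`
  set C := R ⊓ centralizer ({b} : Set G) with hC
  have hC8 : 8 ≤ Nat.card C := by
    have hle : R ⊓ R' ≤ C := fun a ha => mem_inf.2 ⟨(mem_inf.1 ha).1,
      mem_centralizer_singleton_iff.2 (hR'comm a (mem_inf.1 ha).2 b ⟨r₀, hr₀, rfl⟩)⟩
    refine le_trans ?_ (card_le_of_le hle)
    have hrel := relIndex_inf_le (H := R) (K := R') (L := T)
    have hmul : ∀ {K : Subgroup G}, K ≤ T → Nat.card K * K.relIndex T = 32 := by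
      intro K hK
      rw [← Nat.card_congr (subgroupOfEquivOfLe hK).toEquiv, show (32 : ℕ) = 2 ^ 5 from rfl, ← hTc]
      exact (K.subgroupOf T).card_mul_index
    have e1 := hmul hRT
    have e2 := hmul hR'T
    have e3 := hmul (inf_le_left.trans hRT : R ⊓ R' ≤ T)
    rw [hRc] at e1
    rw [hR', card_map_of_injective (MulAut.conj g).injective, hRc] at e2
    rw [← hR'] at e2
    rw [show R.relIndex T = 2 by omega, show R'.relIndex T = 2 by omega] at hrel
    nlinarith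
  -- two conjugate fixed-point groups meet in a group centralised by `x`
  set C' := C.map (MulAut.conj c.x).toMonoidHom with hC'
  have hC'R : C' ≤ R := by
    rintro _ ⟨r, hr, rfl⟩
    exact (mem_normalizer_iff.1 (hnR c.x_mem_A) r).1 (mem_inf.1 hr).1
  have hCR : C ≤ R := inf_le_left
  have h4 : 4 ≤ Nat.card (C ⊓ C' : Subgroup G) := by
    have hrel := relIndex_inf_le (H := C) (K := C') (L := R)
    have hmul : ∀ {K : Subgroup G}, K ≤ R → Nat.card K * K.relIndex R = 16 := by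
      intro K hK
      rw [← Nat.card_congr (subgroupOfEquivOfLe hK).toEquiv, ← hRc]
      exact (K.subgroupOf R).card_mul_index
    have e1 := hmul hCR
    have e2 := hmul hC'R
    have e3 := hmul (inf_le_left.trans hCR : C ⊓ C' ≤ R)
    rw [hC', card_map_of_injective (MulAut.conj c.x).injective] at e2
    rw [← hC'] at e2
    have hi1 : C.relIndex R ≤ 2 := by nlinarith
    have hi2 : C'.relIndex R ≤ 2 := by nlinarith
    have : (C ⊓ C').relIndex R ≤ 4 := hrel.trans (Nat.mul_le_mul hi1 hi2)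
    nlinarith
  have hbA : b ∉ c.A := fun h => hr₀' (hmem b h 5 (by
    rw [← hTc]; exact Subgroup.orderOf_dvd_natCard _ hbT))
  -- `b = w * (x^i * r)`
  obtain ⟨r, hr, hu⟩ : ∃ r ∈ R, b⁻¹ * c.x * b * c.x⁻¹ = r * c.x := by
    have hAi : (c.A.subgroupOf H).index = 2 := by
      have := (c.A.subgroupOf H).card_mul_index
      rw [Nat.card_congr (subgroupOfEquivOfLe hAH).toEquiv, h48, h96] at this
      omega
    have ha : c.w⁻¹ * b ∈ c.A := by
      have := (Subgroup.mul_mem_iff_of_index_two hAi (a := (⟨c.w, hwH⟩ : H)⁻¹) (b := ⟨b, hbH⟩))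
      simp only [mem_subgroupOf, Subgroup.coe_mul, InvMemClass.coe_inv] at this
      exact this.2 (iff_of_false (fun h => c.w_not_mem_A (inv_mem_iff.1 h)) hbA)
    obtain ⟨a, ha, e⟩ : ∃ a ∈ c.A, b = c.w * a := ⟨_, ha, (mul_inv_cancel_left c.w b).symm⟩
    -- `a⁻¹ x⁻¹ a x ∈ R`
    have hkey : a⁻¹ * c.x⁻¹ * a * c.x ∈ R := by
      have hgen : c.A ≤ R ⊔ zpowers c.x := by
        suffices h : R ⊔ zpowers c.x = c.A from h.ge
        refine eq_of_le_of_card_ge (sup_le hRA (zpowers_le.2 c.x_mem_A)) ?_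
        rw [h48]
        refine Nat.le_of_dvd Nat.card_pos (Nat.Coprime.mul_dvd_of_dvd_of_dvd
          (show Nat.Coprime 16 3 by norm_num) (hRc ▸ card_dvd_of_le le_sup_left) ?_)
        exact c.hx ▸ Subgroup.orderOf_dvd_natCard _ (mem_sup_right (mem_zpowers c.x))
      have := hgen ha
      have hnorm' : zpowers c.x ≤ normalizer (R : Set G) := zpowers_le.2 (hnR c.x_mem_A)
      rw [← SetLike.mem_coe, coe_mul_of_right_le_normalizer_left _ _ ?_] at this
      obtain ⟨r, hr, x', hx', rfl⟩ := this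
      obtain ⟨k, rfl⟩ := mem_zpowers_iff.1 hx'
      · simp only [mul_inv_rev]
        have hm : (c.x ^ k)⁻¹ * (r⁻¹ * (c.x⁻¹ * r * c.x)) * c.x ^ k ∈ R := by
          have h1 : r⁻¹ * (c.x⁻¹ * r * c.x) ∈ R := mul_mem (inv_mem hr) (by
            simpa using (mem_normalizer_iff.1 (inv_mem (hnR c.x_mem_A)) r).1 hr)
          simpa using (mem_normalizer_iff.1 (inv_mem (hnorm' (mem_zpowers_iff.2 ⟨k, rfl⟩))) _).1 h1
        convert hm using 1
        group
      · exact hnorm'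
    refine ⟨b⁻¹ * c.x * b * c.x⁻¹ * c.x⁻¹, ?_, by group⟩
    have e' : b⁻¹ * c.x * b * c.x⁻¹ * c.x⁻¹ = (a⁻¹ * c.x⁻¹ * a * c.x) * c.x ^ (-3 : ℤ) := by
      have hwx : c.w⁻¹ * c.x * c.w = c.x⁻¹ := by
        calc c.w⁻¹ * c.x * c.w = c.w⁻¹ * (c.w * c.x⁻¹ * c.w⁻¹) * c.w := by
              rw [← conj_inv, c.w_x, inv_inv]
          _ = c.x⁻¹ := by group
      rw [e]
      calc (c.w * a)⁻¹ * c.x * (c.w * a) * c.x⁻¹ * c.x⁻¹
          = a⁻¹ * (c.w⁻¹ * c.x * c.w) * a * c.x⁻¹ * c.x⁻¹ := by group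
        _ = _ := by rw [hwx]; group
    rw [e', show c.x ^ (-3 : ℤ) = (c.x ^ orderOf c.x)⁻¹ by rw [c.hx]; group, pow_orderOf_eq_one,
      inv_one, mul_one]
    exact hkey
  have hRcomm : ∀ a ∈ R, ∀ a' ∈ R, a * a' = a' * a := fun a ha a' ha' => by
    calc a * a' = (a * a')⁻¹ := eq_inv_of_mul_eq_one_left (hsq _ (mul_mem ha ha'))
      _ = a' * a := by rw [mul_inv_rev, inv_eq_of_mul_eq_one_right (hsq a ha),
          inv_eq_of_mul_eq_one_right (hsq a' ha')]
  have hle : C ⊓ C' ≤ c.V := by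
    intro i hi
    obtain ⟨h1, h2⟩ := mem_inf.1 hi
    obtain ⟨hiR, hib⟩ := mem_inf.1 h1
    refine c.inf_cent_x_le hRL (k := 4) (hRc.trans (by norm_num))
      (mem_inf.2 ⟨hiR, mem_centralizer_singleton_iff.2 ?_⟩)
    obtain ⟨j, hj, rfl⟩ := h2
    have hjb : Commute b j := (mem_centralizer_singleton_iff.1 (mem_inf.1 hj).2).symm
    have hib' : Commute b ((MulAut.conj c.x).toMonoidHom j) :=
      (mem_centralizer_singleton_iff.1 hib).symm
    have hj' := hjb.map (MulAut.conj c.x).toMonoidHom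
    have hxb : Commute ((MulAut.conj c.x).toMonoidHom b) ((MulAut.conj c.x).toMonoidHom j) := hj'
    have hall := hib'.inv_left.mul_left hxb
    rw [show b⁻¹ * (MulAut.conj c.x).toMonoidHom b = r * c.x from by
      rw [← hu]; show b⁻¹ * (c.x * b * c.x⁻¹) = _; group] at hall
    have hrc : Commute r⁻¹ ((MulAut.conj c.x).toMonoidHom j) :=
      (show Commute r _ from hRcomm r hr _ hiR).inv_left
    have := hrc.mul_left hall
    rw [inv_mul_cancel_left] at this
    exact this.eq.symm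
  have heq := eq_of_le_of_card_ge hle (by rw [c.card_V]; exact h4)
  have hs : c.s ∈ C := (mem_inf.1 (heq ▸ c.s_mem : c.s ∈ C ⊓ C')).1
  exact hbA (c.mem_A.2 ⟨c.mem_L.1 (mem_inf.1 hbH).1,
    (mem_centralizer_singleton_iff.1 (mem_inf.1 hs).2).symm⟩)

theorem card_A : Nat.card c.A = 192 :=
  (c.card_A_cases.resolve_left c.card_A_ne_twelve).resolve_left c.card_A_ne_48

theorem exists_E : ∃ E : Subgroup G, E ≤ c.L ∧ c.L ≤ normalizer (E : Set G) ∧ Nat.card E = 16 ∧
    c.V ≤ E ∧ ∀ a ∈ E, a * a = 1 := by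
  set H := c.L ⊓ normalizer (c.V : Set G) with hH
  have hAH : c.A ≤ H := le_inf inf_le_left fun g hg => mem_normalizer_fintype fun v hv => by
    rw [c.A_comm hg hv, mul_inv_cancel_right]; exact hv
  have hwH : c.w ∈ H := mem_inf.2 ⟨c.w_mem_L, mem_normalizer_fintype fun v hv => c.w_conj_mem hv⟩
  have hd : Nat.card H ∣ 2688 := c.card_L ▸ card_dvd_of_le inf_le_left
  have hd' : 192 ∣ Nat.card H := c.card_A ▸ card_dvd_of_le hAH
  have hne : Nat.card H ≠ 192 := fun e => c.w_not_mem_A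
    ((eq_of_le_of_card_ge hAH (by rw [e, c.card_A])).ge hwH)
  have hge : 384 ≤ Nat.card H := by
    obtain ⟨m, hm⟩ := hd'
    rcases Nat.lt_or_ge m 2 with h | h
    · interval_cases m
      · exact absurd hm Nat.card_pos.ne'
      · exact absurd hm hne
    · omega
  rcases Nat.lt_or_ge (Nat.card H) 2688 with hlt | htop
  · obtain ⟨K, h1, h2, h3, h4, h5⟩ := c.exists_normal_of_index (H := H) inf_le_left
      (hAH (c.V_le_A c.t_mem_V)) hlt (by omega)
    obtain ⟨k1, k2, k3⟩ := c.normal_sub h1 h2 h3 h4 h5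
    exact ⟨K, h1, h2, k1, k2, k3⟩
  · exfalso
    have hHL : H = c.L := eq_of_le_of_card_ge inf_le_left (c.card_L ▸ htop)
    have hn : c.L ≤ normalizer (c.V : Set G) := hHL ▸ inf_le_right
    have hVL : c.V ≤ c.L := c.V_le.trans inf_le_left
    obtain ⟨h16, -, -⟩ := c.normal_sub hVL hn c.t_mem_V (by rw [c.card_V]; norm_num) fun e => by
      have := c.card_V
      rw [e, c.card_L] at this
      norm_num at this
    rw [c.card_V] at h16
    norm_num at h16

end Loc

end CfsgLib.ClassK.M23Nse
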