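import Cfsg.Agent.Lib.ClassK.M23Nse.Swap

/-!
The centralizer in `C(t)` of the four-group, and the normal subgroups of `C(t)` properly
containing `t`: they are elementary abelian of order sixteen or the whole of `C(t)`.
-/

set_option autoImplicit false
set_option linter.unusedSectionVars false

namespace CfsgLib.ClassK.M23Nse

open Subgroup CfsgLib.StructB.OrderCount

universe u

variable {G : Type u} [Group G] [Finite G]

theorem exists_sylow_count {K : Subgroup G} {p : ℕ} [hp : Fact p.Prime] {x : G} (hx : x ∈ K)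
    (ho : orderOf x = p) (hd2 : ¬ p ^ 2 ∣ Nat.card K) :
    ∃ m, m % p = 1 ∧ m * Nat.card (K ⊓ normalizer (zpowers x : Set G) : Subgroup G) = Nat.card K := by
  have hd : p ∣ Nat.card K := ho ▸ Subgroup.orderOf_dvd_natCard _ hx
  obtain ⟨P, hP⟩ := exists_sylow_eq (G := K) hd hd2 (x := ⟨x, hx⟩) (by rw [Subgroup.orderOf_mk, ho])
  have hP' : (P : Subgroup K) = (zpowers x).subgroupOf K := by
    refine eq_of_le_of_card_ge (hP ▸ zpowers_le.2 (mem_subgroupOf.2 (mem_zpowers x))) ?_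
    rw [CfsgLib.Transfer.card_sylow_eq_prime P hd hd2,
      Nat.card_congr (subgroupOfEquivOfLe (zpowers_le.2 hx)).toEquiv, Nat.card_zpowers, ho]
  refine ⟨Nat.card (Sylow p K), Eq.trans (card_sylow_modEq_one p K) (Nat.mod_eq_of_lt hp.out.one_lt), ?_⟩
  rw [← card_inf_norm hx, ← hP', P.card_eq_index_normalizer]
  exact (normalizer ((P : Subgroup K) : Set K)).index_mul_card

theorem orbit_count {K : Subgroup G} {a : G} (ha : a ∈ K) :
    {b : G | ∃ g ∈ K, g * a * g⁻¹ = b}.ncard * Nat.card (K ⊓ centralizer ({a} : Set G) : Subgroup G) =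
      Nat.card K := by
  have h := M12Nse.ncard_cl_mul (⟨a, ha⟩ : K)
  have hc : Nat.card (centralizer ({(⟨a, ha⟩ : K)} : Set K)) =
      Nat.card (K ⊓ centralizer ({a} : Set G) : Subgroup G) :=
    Nat.card_congr
      { toFun := fun g => ⟨g.1.1, mem_inf.2 ⟨g.1.2, mem_centralizer_singleton_iff.2
          (congrArg Subtype.val (mem_centralizer_singleton_iff.1 g.2))⟩⟩
        invFun := fun g => ⟨⟨g.1, (mem_inf.1 g.2).1⟩, mem_centralizer_singleton_iff.2
          (Subtype.ext (mem_centralizer_singleton_iff.1 (mem_inf.1 g.2).2))⟩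
        left_inv := fun g => rfl
        right_inv := fun g => rfl }
  have hi : {b : G | ∃ g ∈ K, g * a * g⁻¹ = b} = Subtype.val '' M12Nse.cl (⟨a, ha⟩ : K) := by
    ext b
    constructor
    · rintro ⟨g, hg, rfl⟩
      exact ⟨⟨g, hg⟩ * ⟨a, ha⟩ * (⟨g, hg⟩ : K)⁻¹, isConj_iff.2 ⟨⟨g, hg⟩, rfl⟩, rfl⟩
    · rintro ⟨b', hb, rfl⟩
      obtain ⟨g, rfl⟩ := isConj_iff.1 (show IsConj (⟨a, ha⟩ : K) b' from hb)
      exact ⟨g.1, g.2, rfl⟩
  rw [hi, Set.ncard_image_of_injective _ Subtype.val_injective, ← hc]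
  exact h

theorem exists_mem_normalizer {P T : Subgroup G} {k : ℕ} (hP : Nat.card P = 2 ^ k) (hT : T ≤ P)
    (hne : T ≠ P) : ∃ g ∈ P, g ∉ T ∧ g ∈ normalizer (T : Set G) := by
  have : Fact (Nat.Prime 2) := ⟨Nat.prime_two⟩
  have : Group.IsNilpotent P := (IsPGroup.of_card hP).isNilpotent
  have hlt : T.subgroupOf P < ⊤ :=
    lt_top_iff_ne_top.2 fun e => hne (le_antisymm hT (subgroupOf_eq_top.1 e))
  obtain ⟨g, hg, hgT⟩ := SetLike.exists_of_lt (Group.normalizerCondition_of_isNilpotent _ hlt)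
  refine ⟨g.1, g.2, hgT, ?_⟩
  rw [← subgroupOf_normalizer_eq hT] at hg
  exact hg

namespace Loc

variable (c : Loc G)

/-- The centralizer of the four-group. -/
def A : Subgroup G := c.L ⊓ centralizer ({c.s} : Set G)

theorem mem_A {g : G} : g ∈ c.A ↔ g * c.t = c.t * g ∧ g * c.s = c.s * g := by
  rw [A, mem_inf, c.mem_L, mem_centralizer_singleton_iff]

theorem A_comm {g v : G} (hg : g ∈ c.A) (hv : v ∈ c.V) : g * v = v * g := by
  obtain ⟨h1, h2⟩ := c.mem_A.1 hg
  rcases c.V_cases hv with rfl | rfl | rfl | rfl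
  · simp
  · exact h1
  · exact h2
  · exact ((show Commute g c.t from h1).mul_right (show Commute g c.s from h2)).eq

theorem V_le_A : c.V ≤ c.A := fun _ hg => c.mem_A.2 ⟨(c.mem_V.1 hg).1, c.V_comm hg c.s_mem⟩

theorem x_mem_A : c.x ∈ c.A := c.mem_A.2 ⟨c.htx.symm, (c.commute_V_x c.s_mem).symm⟩

theorem D_le_A : c.D ≤ c.A := by
  suffices h : c.D ⊓ c.A = c.D from h ▸ inf_le_right
  refine eq_of_le_of_card_ge inf_le_left ?_
  rw [c.card_D]
  refine Nat.le_of_dvd Nat.card_pos (Nat.Coprime.mul_dvd_of_dvd_of_dvd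
    (show Nat.Coprime 4 3 by norm_num) ?_ ?_)
  · exact c.card_V ▸ card_dvd_of_le (le_inf c.V_le c.V_le_A)
  · exact c.hx ▸ Subgroup.orderOf_dvd_natCard _ (mem_inf.2 ⟨c.x_mem_D, c.x_mem_A⟩)

theorem w_not_mem_A : c.w ∉ c.A := fun h =>
  c.ts_ne_s (c.w_s.symm.trans (by rw [(c.mem_A.1 h).2, mul_inv_cancel_right]))

theorem A_norm_X : c.A ⊓ normalizer (zpowers c.x : Set G) = c.D := by
  refine le_antisymm (fun g hg => ?_) (le_inf c.D_le_A (c.D_le.trans inf_le_right))
  obtain ⟨hA, hN⟩ := mem_inf.1 hg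
  rcases c.conj_x_cases hN with e | e
  · exact c.mem_D.2 ⟨(c.mem_A.1 hA).1, mul_inv_eq_iff_eq_mul.1 e⟩
  · exfalso
    have hd : c.w⁻¹ * g ∈ c.D := by
      refine c.mem_D.2 ⟨c.mem_L.1 (mul_mem (inv_mem c.w_mem_L) (mem_inf.1 hA).1), ?_⟩
      refine mul_inv_eq_iff_eq_mul.1 ?_
      calc c.w⁻¹ * g * c.x * (c.w⁻¹ * g)⁻¹ = c.w⁻¹ * (g * c.x * g⁻¹) * c.w := by group
        _ = c.x := by rw [e, ← c.w_x]; group
    have := mul_mem hA (inv_mem (c.D_le_A hd))
    rw [mul_inv_rev, inv_inv, mul_inv_cancel_left] at this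
    exact c.w_not_mem_A this

theorem exists_seven : ∃ z : G, z ∈ c.L ∧ orderOf z = 7 := by
  have : Fact (Nat.Prime 7) := ⟨by norm_num⟩
  obtain ⟨⟨z, hz⟩, hzo⟩ := exists_prime_orderOf_dvd_card' (G := c.L) 7 (by rw [c.card_L]; norm_num)
  exact ⟨z, hz, by rwa [Subgroup.orderOf_mk] at hzo⟩

theorem eq_t_of_comm_seven {z u : G} (hz : z ∈ c.L) (hzo : orderOf z = 7) (hu : orderOf u = 2)
    (hc : Commute z u) : u = c.t := by
  have h1 := (Nat.card_eq_one_iff_unique.1 (ncom_seven_two c.h hzo)).1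
  exact congrArg Subtype.val (h1.elim ⟨u, hu, hc⟩ ⟨c.t, c.ht, c.mem_L.1 hz⟩)

theorem norm_seven_le {z : G} (hz : z ∈ c.L) (hzo : orderOf z = 7) :
    normalizer (zpowers z : Set G) ≤ c.L := by
  intro n hn
  refine c.mem_L.2 (mul_inv_eq_iff_eq_mul.1 ?_)
  refine c.eq_t_of_comm_seven hz hzo ((CfsgLib.Invol.orderOf_conj_eq n c.t).trans c.ht) ?_
  obtain ⟨k, hk⟩ := mem_zpowers_iff.1 (show n⁻¹ * z * n ∈ zpowers z by
    simpa using (mem_normalizer_iff.1 (inv_mem hn) z).1 (mem_zpowers z))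
  have h2 : Commute (n⁻¹ * z * n) c.t := hk ▸ (show Commute z c.t from c.mem_L.1 hz).zpow_left k
  have h3 := h2.map (MulAut.conj n).toMonoidHom
  simp only [MulEquiv.coe_toMonoidHom, MulAut.conj_apply] at h3
  rwa [show n * (n⁻¹ * z * n) * n⁻¹ = z by group] at h3

theorem card_A_cases : Nat.card c.A = 12 ∨ Nat.card c.A = 48 ∨ Nat.card c.A = 192 := by
  have : Fact (Nat.Prime 3) := ⟨Nat.prime_three⟩
  have : Fact (Nat.Prime 7) := ⟨by norm_num⟩
  have hd : Nat.card c.A ∣ 2688 := c.card_L ▸ card_dvd_of_le inf_le_left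
  have h7 : ¬ 7 ∣ Nat.card c.A := by
    intro h
    obtain ⟨⟨z, hz⟩, hzo⟩ := exists_prime_orderOf_dvd_card' (G := c.A) 7 h
    rw [Subgroup.orderOf_mk] at hzo
    exact c.s_ne_t (c.eq_t_of_comm_seven (mem_inf.1 hz).1 hzo
      (c.orderOf_V c.s_mem c.s_ne_one) (c.mem_A.1 hz).2)
  obtain ⟨m, hm, hmul⟩ := exists_sylow_count c.x_mem_A c.hx
    (fun h => by have := h.trans hd; norm_num at this)
  rw [c.A_norm_X, c.card_D] at hmul
  have key : ∀ a ∈ Nat.divisors 2688, ¬ 7 ∣ a → 12 ∣ a → (a / 12) % 3 = 1 →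
      a = 12 ∨ a = 48 ∨ a = 192 ∨ a = 768 := by decide +kernel
  rcases key _ (Nat.mem_divisors.2 ⟨hd, by norm_num⟩) h7 ⟨m, by omega⟩
    (by rw [← hmul, Nat.mul_div_cancel _ (by norm_num)]; exact hm) with h | h | h | h
  · exact Or.inl h
  · exact Or.inr (Or.inl h)
  · exact Or.inr (Or.inr h)
  · exfalso
    rw [h] at hd
    norm_num at hd

/-- The elements of 2-power order of a subgroup commuting with `x` lie in the four-group. -/
theorem inf_cent_x_le {K : Subgroup G} {k : ℕ} (hK : K ≤ c.L) (hc : Nat.card K = 2 ^ k) :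
    K ⊓ centralizer ({c.x} : Set G) ≤ c.V := fun g hg => by
  obtain ⟨h1, h2⟩ := mem_inf.1 hg
  refine c.mem_V_of_two_pow (mem_inf.2 ⟨hK h1, h2⟩) (k := k) ?_
  rw [← hc]
  exact Subgroup.orderOf_dvd_natCard _ h1

theorem not_128 {Q : Subgroup G} (hQ : Q ≤ c.L) (hn : c.L ≤ normalizer (Q : Set G))
    (hc : Nat.card Q = 128) : False := by
  have : Fact (Nat.Prime 3) := ⟨Nat.prime_three⟩
  have hrel : Q.relIndex c.L = 21 := by
    have h1 := (Q.subgroupOf c.L).card_mul_index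
    rw [Nat.card_congr (subgroupOfEquivOfLe hQ).toEquiv, hc, c.card_L] at h1
    show (Q.subgroupOf c.L).index = 21
    omega
  have hV : c.V ≤ Q := fun v hv => by
    refine mem_of_coprime_index hn (mem_inf.1 (c.V_le_A hv)).1 ?_
    rw [hrel]
    refine Nat.Coprime.coprime_dvd_left (orderOf_dvd_of_pow_eq_one (n := 2) ?_) (by norm_num)
    rw [pow_two, c.sq_V hv]
  have heq : Q ⊓ centralizer ({c.x} : Set G) = c.V :=
    le_antisymm (c.inf_cent_x_le hQ (k := 7) hc)
      (le_inf hV fun v hv => mem_centralizer_singleton_iff.2 (c.commute_V_x hv))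
  have := card_modEq_fixed (p := 3) c.hx (hn c.x_mem_L)
  rw [heq, hc, c.card_V] at this
  norm_num at this

theorem seven_not_dvd {K : Subgroup G} (hK : K ≤ c.L) (hn : c.L ≤ normalizer (K : Set G))
    (ht : c.t ∈ K) (hne : K ≠ c.L) : ¬ 7 ∣ Nat.card K := by
  intro h7
  classical
  have : Fact (Nat.Prime 7) := ⟨by norm_num⟩
  have : Fact (Nat.Prime 2) := ⟨Nat.prime_two⟩
  obtain ⟨⟨z, hz⟩, hzo⟩ := exists_prime_orderOf_dvd_card' (G := K) 7 h7
  rw [Subgroup.orderOf_mk] at hzo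
  have h49 : ¬ 7 ^ 2 ∣ Nat.card c.L := by rw [c.card_L]; norm_num
  obtain ⟨d, h1, h2⟩ := dvd_mul_norm hK hn hz hzo h49
  rw [inf_eq_right.2 (c.norm_seven_le (hK hz) hzo), norm_seven c.h hzo] at h1
  rw [c.card_L] at h2
  have h14 : 14 ∣ Nat.card (K ⊓ normalizer (zpowers z : Set G) : Subgroup G) := by
    have htz : c.t * z = z * c.t := (c.mem_L.1 (hK hz)).symm
    have ho : orderOf (c.t * z) = 14 := by
      rw [(show Commute c.t z from htz).orderOf_mul_eq_mul_orderOf_of_coprime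
        (by rw [c.ht, hzo]; norm_num), c.ht, hzo]
    refine ho ▸ Subgroup.orderOf_dvd_natCard _ (mem_inf.2 ⟨mul_mem ht hz, mul_mem ?_ (le_normalizer (mem_zpowers z))⟩)
    refine mem_normalizer_fintype fun a ha => ?_
    obtain ⟨k, rfl⟩ := mem_zpowers_iff.1 ha
    rw [((show Commute c.t z from htz).zpow_right k).eq, mul_inv_cancel_right]
    exact zpow_mem (mem_zpowers z) k
  obtain ⟨j, hj⟩ := h14
  have hdj : d * j = 3 := by
    rw [hj] at h1; nlinarith
  have hd : d = 3 := by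
    rcases (Nat.dvd_prime Nat.prime_three).1 ⟨j, hdj.symm⟩ with e | e
    · exfalso
      refine hne (eq_of_le_of_card_ge hK ?_)
      rw [c.card_L, ← h2, e, one_mul]
    · exact e
  subst hd
  have hj1 : j = 1 := by omega
  rw [hj1] at hj
  have hKc : Nat.card K = 896 := by omega
  -- count the elements whose order is divisible by seven
  have h384 := card_orderOf_subgroup (p := 7) hz hzo (by rw [hKc]; norm_num)
  rw [hKc, hj] at h384
  obtain ⟨Q, hQK, hQc⟩ := exists_subgroup_two_pow (k := 7) (K := K) (by rw [hKc]; norm_num)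
  set T : Set G := {g | g ∈ K ∧ g ^ 128 = 1} with hT
  set S : Set G := {g | g ∈ K ∧ orderOf g = 7} with hS
  have hScard : S.ncard = 384 := by
    rw [← Nat.card_coe_set_eq]
    have : Nat.card {g : K // orderOf g = 7} = 384 := by omega
    rw [← this]
    exact Nat.card_congr
      { toFun := fun g => ⟨⟨g.1, g.2.1⟩, by rw [Subgroup.orderOf_mk]; exact g.2.2⟩
        invFun := fun g => ⟨g.1.1, g.1.2, by rw [Subgroup.orderOf_coe]; exact g.2⟩
        left_inv := fun g => rfl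
        right_inv := fun g => rfl }
  have hQT : (Q : Set G) ⊆ T := fun g hg => ⟨hQK hg, by
    rw [show 128 = 2 ^ 7 from rfl, ← hQc]
    exact orderOf_dvd_iff_pow_eq_one.1 (Subgroup.orderOf_dvd_natCard _ hg)⟩
  have ht2 : ∀ g ∈ S, Commute c.t g := fun g hg => (c.mem_L.1 (hK hg.1)).symm
  have ho14 : ∀ g ∈ S, orderOf (c.t * g) = 14 := fun g hg => by
    rw [(ht2 g hg).orderOf_mul_eq_mul_orderOf_of_coprime (by rw [c.ht, hg.2]; norm_num), c.ht, hg.2]
  have hd1 : Disjoint S ((c.t * ·) '' S) := Set.disjoint_left.2 fun g hg ⟨a, ha, e⟩ => by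
    have := ho14 a ha
    simp only at e
    rw [e, hg.2] at this
    norm_num at this
  have hd2 : Disjoint T (S ∪ (c.t * ·) '' S) := Set.disjoint_left.2 fun g hg hg' => by
    have h128 := orderOf_dvd_of_pow_eq_one hg.2
    rcases hg' with h | ⟨a, ha, rfl⟩
    · rw [h.2] at h128; norm_num at h128
    · simp only at h128
      rw [ho14 a ha] at h128; norm_num at h128
  have hsub : T ∪ (S ∪ (c.t * ·) '' S) ⊆ (K : Set G) := by
    rintro g (h | h | ⟨a, ha, rfl⟩)
    exacts [h.1, h.1, mul_mem ht ha.1]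
  have hle := Set.ncard_le_ncard hsub (Set.toFinite _)
  rw [Set.ncard_union_eq hd2, Set.ncard_union_eq hd1,
    Set.ncard_image_of_injective _ (mul_right_injective c.t), hScard, ← Nat.card_coe_set_eq (K : Set G),
    SetLike.coe_sort_coe, hKc] at hle
  have hQT' : (Q : Set G) = T := Set.eq_of_subset_of_ncard_le hQT
    (by rw [← Nat.card_coe_set_eq (Q : Set G), SetLike.coe_sort_coe, hQc]; omega) (Set.toFinite _)
  refine c.not_128 (hQK.trans hK) (fun g hg => mem_normalizer_fintype fun a ha => ?_) hQc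
  rw [hQT'] at ha ⊢
  exact ⟨(mem_normalizer_iff.1 (hn hg) a).1 ha.1, by rw [conj_pow, ha.2]; group⟩

theorem three_not_dvd {K : Subgroup G} (hK : K ≤ c.L) (hn : c.L ≤ normalizer (K : Set G))
    (ht : c.t ∈ K) (hne : K ≠ c.L) : ¬ 3 ∣ Nat.card K := by
  intro h3
  have : Fact (Nat.Prime 3) := ⟨Nat.prime_three⟩
  obtain ⟨⟨z, hz⟩, hzo⟩ := exists_prime_orderOf_dvd_card' (G := K) 3 h3
  rw [Subgroup.orderOf_mk] at hzo
  obtain ⟨d, h1, h2⟩ := dvd_mul_norm hK hn hz hzo (by rw [c.card_L]; norm_num)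
  let c' : Loc G := ⟨c.h, c.t, z, c.ht, hzo, (c.mem_L.1 (hK hz)).symm⟩
  rw [show (c.L ⊓ normalizer (zpowers z : Set G) : Subgroup G) = c'.L ⊓ normalizer (zpowers c'.x : Set G)
    from rfl, c'.norm_three] at h1
  rw [c.card_L] at h2
  refine c.seven_not_dvd hK hn ht hne ?_
  have hd : (Nat.card K).gcd 7 = 7 := by
    have hco : Nat.Coprime 7 d := Nat.Coprime.coprime_dvd_right (Dvd.intro _ h1) (by norm_num)
    exact Nat.gcd_eq_right (hco.dvd_of_dvd_mul_left (h2 ▸ by norm_num))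
  exact hd ▸ Nat.gcd_dvd_left _ _

/-- A normal subgroup of `C(t)` properly between `⟨t⟩` and `C(t)`. -/
theorem normal_sub {K : Subgroup G} (hK : K ≤ c.L) (hn : c.L ≤ normalizer (K : Set G))
    (ht : c.t ∈ K) (hk : 2 < Nat.card K) (hne : K ≠ c.L) :
    Nat.card K = 16 ∧ c.V ≤ K ∧ ∀ a ∈ K, a * a = 1 := by
  classical
  have : Fact (Nat.Prime 3) := ⟨Nat.prime_three⟩
  have : Fact (Nat.Prime 7) := ⟨by norm_num⟩
  have hd : Nat.card K ∣ 2 ^ 7 := by
    have h1 : Nat.card K ∣ 2 ^ 7 * (3 * 7) := by norm_num; exact c.card_L ▸ card_dvd_of_le hK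
    refine Nat.Coprime.dvd_of_dvd_mul_right (Nat.Coprime.mul_right ?_ ?_) h1
    · exact ((Nat.Prime.coprime_iff_not_dvd Nat.prime_three).2 (c.three_not_dvd hK hn ht hne)).symm
    · exact ((Nat.Prime.coprime_iff_not_dvd (by norm_num)).2 (c.seven_not_dvd hK hn ht hne)).symm
  obtain ⟨k, hk7, hkc⟩ := (Nat.dvd_prime_pow Nat.prime_two).1 hd
  obtain ⟨z, hzL, hzo⟩ := c.exists_seven
  have hfix : ((K ⊓ centralizer ({z} : Set G) : Subgroup G) : Set G) = {1, c.t} := by
    refine Set.Subset.antisymm (fun g hg => ?_) ?_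
    · obtain ⟨hgK, hgz⟩ := mem_inf.1 hg
      have hd1 : orderOf g ∣ 14 := cent_seven c.h hzo ▸ Subgroup.orderOf_dvd_natCard _ hgz
      have hd2 : orderOf g ∣ 2 ^ k := hkc ▸ Subgroup.orderOf_dvd_natCard _ hgK
      have hd3 : orderOf g ∣ 2 := by
        have h := Nat.dvd_gcd hd1 (hd2.trans (pow_dvd_pow 2 hk7))
        simpa using h
      rcases (Nat.dvd_prime Nat.prime_two).1 hd3 with e | e
      · exact Or.inl (orderOf_eq_one_iff.1 e)
      · exact Or.inr (c.eq_t_of_comm_seven hzL hzo e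
          (mem_centralizer_singleton_iff.1 hgz).symm)
    · rintro g (rfl | rfl)
      exacts [one_mem _, mem_inf.2 ⟨ht, mem_centralizer_singleton_iff.2 (c.mem_L.1 hzL).symm⟩]
  have hm := card_modEq_fixed (p := 7) hzo (hn hzL)
  rw [← SetLike.coe_sort_coe (K ⊓ centralizer ({z} : Set G)), Nat.card_coe_set_eq, hfix,
    Set.ncard_pair c.t_ne_one.symm, hkc] at hm
  rw [hkc] at hk
  have hk4 : k = 4 := by
    interval_cases k <;> first | rfl | (revert hm hk; norm_num; done) | exact (c.not_128 hK hn hkc).elim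
  subst hk4
  have hle := c.inf_cent_x_le hK hkc
  have hm3 := card_modEq_fixed (p := 3) c.hx (hn c.x_mem_L)
  rw [hkc] at hm3
  have hd4 := card_dvd_of_le hle
  rw [c.card_V] at hd4
  have h2 : c.t ∈ K ⊓ centralizer ({c.x} : Set G) :=
    mem_inf.2 ⟨ht, mem_centralizer_singleton_iff.2 c.htx⟩
  have h2' := Subgroup.orderOf_dvd_natCard _ h2
  rw [c.ht] at h2'
  have hF : Nat.card (K ⊓ centralizer ({c.x} : Set G) : Subgroup G) = 4 := by
    rcases (Nat.dvd_prime_pow Nat.prime_two).1 (show _ ∣ 2 ^ 2 from hd4) with ⟨i, hi, e⟩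
    rw [e] at hm3 h2' ⊢
    interval_cases i <;> first | rfl | (revert hm3 h2'; norm_num)
  have hV : c.V ≤ K := by
    have := eq_of_le_of_card_ge hle (by rw [hF, c.card_V])
    exact this ▸ inf_le_left
  refine ⟨hkc.trans (by norm_num), hV, ?_⟩
  -- fourteen conjugates of `s` and of `t * s`
  let f : Fin 7 × Bool → G := fun p => z ^ (p.1 : ℕ) * (if p.2 then c.s else c.t * c.s) * (z ^ (p.1 : ℕ))⁻¹
  have hzt : ∀ j : ℕ, z ^ j * c.t = c.t * z ^ j := fun j =>
    ((show Commute z c.t from c.mem_L.1 hzL).pow_left j).eq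
  have hs2 : ∀ j : ℕ, ¬ 7 ∣ j → z ^ j * c.s * (z ^ j)⁻¹ ≠ c.s ∧ z ^ j * c.s * (z ^ j)⁻¹ ≠ c.t * c.s := by
    intro j hj
    have key : ∀ i : ℕ, ¬ 7 ∣ i → z ^ i * c.s * (z ^ i)⁻¹ ≠ c.s := fun i hi e => by
      refine c.s_ne_t (c.eq_t_of_comm_seven (z := z ^ i) (pow_mem hzL i) ?_
        (c.orderOf_V c.s_mem c.s_ne_one) (mul_inv_eq_iff_eq_mul.1 e))
      rw [Nat.Coprime.orderOf_pow (hzo ▸ ((Nat.Prime.coprime_iff_not_dvd (by norm_num)).2 hi)), hzo]
    refine ⟨key j hj, fun e => key (j + j) (fun h => hj (by omega)) ?_⟩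
    calc z ^ (j + j) * c.s * (z ^ (j + j))⁻¹ = z ^ j * (z ^ j * c.s * (z ^ j)⁻¹) * (z ^ j)⁻¹ := by
          rw [pow_add]; group
      _ = (z ^ j * c.t) * c.s * (z ^ j)⁻¹ := by rw [e]; group
      _ = c.t * (z ^ j * c.s * (z ^ j)⁻¹) := by rw [hzt]; group
      _ = c.s := by rw [e, ← mul_assoc, CfsgLib.Invol.invol_mul_self c.ht, one_mul]
  have hfi : Function.Injective f := by
    have main : ∀ a b : Fin 7, ∀ p q : Bool, (a : ℕ) ≤ b → f (a, p) = f (b, q) → a = b ∧ p = q := by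
      intro a b p q hab e
      obtain ⟨j, hj⟩ : ∃ j, (b : ℕ) = a + j := ⟨b - a, by omega⟩
      have e' : (if p then c.s else c.t * c.s) =
          z ^ j * (if q then c.s else c.t * c.s) * (z ^ j)⁻¹ := by
        simp only [f, hj, pow_add] at e
        have e2 := congrArg (fun g => (z ^ (a : ℕ))⁻¹ * g * z ^ (a : ℕ)) e
        refine Eq.trans ?_ (e2.trans ?_) <;> group
      by_cases hj0 : j = 0
      · subst hj0
        refine ⟨Fin.ext (by omega), ?_⟩
        rcases p <;> rcases q <;> simp [c.ts_ne_s, c.ts_ne_s.symm] at e' ⊢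
      · exfalso
        have := b.isLt
        obtain ⟨n1, n2⟩ := hs2 j (fun h => by have := Nat.le_of_dvd (by omega) h; omega)
        have hts : z ^ j * (c.t * c.s) * (z ^ j)⁻¹ = c.t * (z ^ j * c.s * (z ^ j)⁻¹) := by
          rw [← mul_assoc, hzt]; group
        have htt : c.t * (c.t * c.s) = c.s := by
          rw [← mul_assoc, CfsgLib.Invol.invol_mul_self c.ht, one_mul]
        rcases p <;> rcases q <;> simp only [↓reduceIte, Bool.false_eq_true] at e'
        · rw [hts] at e'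
          exact n1 (mul_left_cancel e').symm
        · exact n2 e'.symm
        · rw [hts] at e'
          refine n2 ?_
          conv_rhs => rw [e', ← mul_assoc, CfsgLib.Invol.invol_mul_self c.ht, one_mul]
        · exact n1 e'.symm
    rintro ⟨a, p⟩ ⟨b, q⟩ e
    rcases le_total (a : ℕ) b with h | h
    · obtain ⟨rfl, rfl⟩ := main a b p q h e; rfl
    · obtain ⟨rfl, rfl⟩ := main b a q p h e.symm; rfl
  set I : Set G := {a | a ∈ K ∧ a * a = 1} with hI
  have hsub : Set.range f ∪ {1, c.t} ⊆ I := by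
    rintro g (⟨⟨i, p⟩, rfl⟩ | rfl | rfl)
    · have hm : (if p then c.s else c.t * c.s) ∈ c.V := by
        rcases p
        · exact mul_mem c.t_mem_V c.s_mem
        · exact c.s_mem
      refine ⟨(mem_normalizer_iff.1 (hn (pow_mem hzL _)) _).1 (hV hm), ?_⟩
      calc f (i, p) * f (i, p) = z ^ (i : ℕ) * ((if p then c.s else c.t * c.s) *
            (if p then c.s else c.t * c.s)) * (z ^ (i : ℕ))⁻¹ := by simp only [f]; group
        _ = 1 := by rw [c.sq_V hm]; group
    · exact ⟨one_mem _, one_mul 1⟩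
    · exact ⟨ht, CfsgLib.Invol.invol_mul_self c.ht⟩
  have hdis : Disjoint (Set.range f) {1, c.t} := by
    rw [Set.disjoint_left]
    rintro g ⟨⟨i, p⟩, rfl⟩ h
    have e1 : ∀ a, z ^ (i : ℕ) * a * (z ^ (i : ℕ))⁻¹ = c.t → a = c.t := fun a e =>
      mul_left_cancel (mul_right_cancel (e.trans (mul_inv_eq_iff_eq_mul.2 (hzt i)).symm))
    rcases h with h | h <;> simp only [f, Set.mem_singleton_iff] at h
    · rw [conj_eq_one_iff] at h
      rcases p <;> simp [c.s_ne_one, c.ts_ne_one] at h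
    · have := e1 _ h
      rcases p <;> simp [c.s_ne_t, c.s_ne_one] at this
  intro a ha
  have heq : Set.range f ∪ {1, c.t} = (K : Set G) := by
    refine Set.eq_of_subset_of_ncard_le (hsub.trans fun g hg => hg.1) ?_ (Set.toFinite _)
    rw [Set.ncard_union_eq hdis, Set.ncard_range_of_injective hfi, Set.ncard_pair c.t_ne_one.symm,
      ← Nat.card_coe_set_eq, SetLike.coe_sort_coe, hkc]
    simp
  exact (hsub (heq ▸ ha : a ∈ Set.range f ∪ {1, c.t})).2

theorem exists_normal_of_index {H : Subgroup G} (hH : H ≤ c.L) (ht : c.t ∈ H)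
    (hlt : Nat.card H < 2688) (hbig : 2688 ≤ 7 * Nat.card H) :
    ∃ K : Subgroup G, K ≤ c.L ∧ c.L ≤ normalizer (K : Set G) ∧ c.t ∈ K ∧ 2 < Nat.card K ∧ K ≠ c.L := by
  set H' := H.subgroupOf c.L with hH'
  have hmul := H'.card_mul_index
  rw [Nat.card_congr (subgroupOfEquivOfLe hH).toEquiv, c.card_L] at hmul
  have hi : H'.index ≤ 7 := by
    by_contra hgt
    have : Nat.card H * 8 ≤ Nat.card H * H'.index := Nat.mul_le_mul_left _ (by omega)
    have := (Nat.card_pos : 0 < Nat.card H)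
    omega
  have hcore : H'.normalCore.index ∣ 5040 := by
    rw [normalCore_eq_ker, index_ker]
    refine (card_subgroup_dvd_card _).trans ?_
    rw [Nat.card_perm, ← index_eq_card, show 5040 = Nat.factorial 7 from rfl]
    exact Nat.factorial_dvd_factorial hi
  refine ⟨H'.normalCore.map c.L.subtype, map_subtype_le _, fun g hg => mem_normalizer_fintype ?_,
    ⟨⟨c.t, c.t_mem_L⟩, ?_, rfl⟩, ?_, fun e => ?_⟩
  · rintro a ⟨a', ha', rfl⟩
    exact ⟨_, (normalCore_normal H').conj_mem a' ha' ⟨g, hg⟩, rfl⟩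
  · intro b
    have hb : b.1 * c.t * b.1⁻¹ = c.t := mul_inv_eq_iff_eq_mul.2 (c.mem_L.1 b.2)
    refine mem_subgroupOf.2 ?_
    show b.1 * c.t * b.1⁻¹ ∈ H
    rw [hb]; exact ht
  · rw [card_map_of_injective c.L.subtype_injective]
    have h1 := H'.normalCore.card_mul_index
    rw [c.card_L] at h1
    have h2 := mul_dvd_mul_left (Nat.card H'.normalCore) hcore
    rw [h1] at h2
    by_contra hle
    have h3 : 2688 ≤ 2 * 5040 := by norm_num
    generalize hm : Nat.card H'.normalCore = m at h2 hle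
    have hpos : 0 < m := hm ▸ Nat.card_pos
    interval_cases m <;> norm_num at h2
  · have h1 : Nat.card H'.normalCore = 2688 := by
      rw [← card_map_of_injective c.L.subtype_injective, e, c.card_L]
    have h2 := card_le_of_le H'.normalCore_le
    rw [Nat.card_congr (subgroupOfEquivOfLe hH).toEquiv] at h2
    omega

theorem card_A_of_normal {K : Subgroup G} (hc : Nat.card K = 16)
    (hV : c.V ≤ K) (hn : c.L ≤ normalizer (K : Set G)) : 192 ≤ Nat.card c.A := by
  have h := orbit_count (K := c.L) (a := c.s) (mem_inf.1 (c.V_le_A c.s_mem)).1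
  rw [c.card_L] at h
  have hsub : {b : G | ∃ g ∈ c.L, g * c.s * g⁻¹ = b} ⊆ (K : Set G) \ {1, c.t} := by
    rintro _ ⟨g, hg, rfl⟩
    refine ⟨(mem_normalizer_iff.1 (hn hg) c.s).1 (hV c.s_mem), ?_⟩
    rintro (e | e)
    · exact c.s_ne_one (conj_eq_one_iff.1 e)
    · refine c.s_ne_t (mul_left_cancel (mul_right_cancel ((Set.mem_singleton_iff.1 e).trans ?_)))
      exact (mul_inv_eq_iff_eq_mul.2 (c.mem_L.1 hg)).symm
  have hle := Set.ncard_le_ncard hsub (Set.toFinite _)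
  rw [Set.ncard_sdiff (show ({1, c.t} : Set G) ⊆ (K : Set G) by
      rintro g (rfl | rfl)
      exacts [one_mem _, hV c.t_mem_V]) (Set.toFinite _),
    Set.ncard_pair c.t_ne_one.symm, ← Nat.card_coe_set_eq (K : Set G), SetLike.coe_sort_coe, hc] at hle
  by_contra hlt
  push Not at hlt
  have := Nat.mul_le_mul hle (show Nat.card c.A ≤ 191 by omega)
  have h' : {b : G | ∃ g ∈ c.L, g * c.s * g⁻¹ = b}.ncard * Nat.card c.A = 2688 := h
  omega

end Loc

end CfsgLib.ClassK.M23Nse
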