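import Cfsg.Agent.Lib.ClassK.M23Nse.Loc

/-!
An element of `C(t)` inverting `x` interchanges the two other involutions of the four-group: this
is read off from the action of the four-group on the six Sylow 5-subgroups of `C(x)`.
-/

set_option autoImplicit false
set_option linter.unusedSectionVars false

namespace CfsgLib.ClassK.M23Nse

open Subgroup CfsgLib.StructB.OrderCount
open scoped Pointwise

universe u

variable {G : Type u} [Group G] [Finite G]

namespace Loc

variable (c : Loc G)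

/-- The subgroups of order five of `C(x)`. -/
def five : Set (Subgroup G) := {Q | Q ≤ centralizer ({c.x} : Set G) ∧ Nat.card Q = 5}

theorem exists_five_elt : ∃ q : G, orderOf q = 5 ∧ Commute c.x q := by
  have : Fact (Nat.Prime 5) := ⟨by norm_num⟩
  obtain ⟨⟨q, hq⟩, hqo⟩ := exists_prime_orderOf_dvd_card' (G := centralizer ({c.x} : Set G)) 5
    (by rw [cent_three c.h c.hx]; norm_num)
  rw [Subgroup.orderOf_mk] at hqo
  exact ⟨q, hqo, (mem_centralizer_singleton_iff.1 hq).symm⟩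

theorem five_eq {Q : Subgroup G} (hQ : Q ∈ c.five) :
    ∃ q : G, orderOf q = 5 ∧ Commute c.x q ∧ Q = zpowers q := by
  have : Fact (Nat.Prime 5) := ⟨by norm_num⟩
  obtain ⟨⟨q, hq⟩, hqo⟩ := exists_prime_orderOf_dvd_card' (G := Q) 5 (by rw [hQ.2])
  rw [Subgroup.orderOf_mk] at hqo
  exact ⟨q, hqo, (mem_centralizer_singleton_iff.1 (hQ.1 hq)).symm,
    (eq_of_le_of_card_ge (zpowers_le.2 hq) (by rw [hQ.2, Nat.card_zpowers, hqo])).symm⟩

theorem zpowers_mem_five {q : G} (hq : orderOf q = 5) (hc : Commute c.x q) :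
    zpowers q ∈ c.five :=
  ⟨zpowers_le.2 (mem_centralizer_singleton_iff.2 hc.symm.eq), by rw [Nat.card_zpowers, hq]⟩

theorem cent_five_le {q : G} (hq : orderOf q = 5) (hc : Commute c.x q) :
    centralizer ({q} : Set G) ≤ centralizer ({c.x} : Set G) := fun _ hz =>
  mem_centralizer_singleton_iff.2 (commute_cent_five (h := c.h) c.hx hq hc hz).symm.eq

theorem five_data {q : G} (hq : orderOf q = 5) (hc : Commute c.x q) :
    Nat.card (centralizer ({c.x} : Set G) ⊓ normalizer (zpowers q : Set G) : Subgroup G) = 30 ∧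
      c.five.ncard = 6 := by
  have : Fact (Nat.Prime 5) := ⟨by norm_num⟩
  set C := centralizer ({c.x} : Set G) with hC
  have hCc : Nat.card C = 180 := cent_three c.h c.hx
  have hqC : q ∈ C := mem_centralizer_singleton_iff.2 hc.symm.eq
  set M := C ⊓ normalizer (zpowers q : Set G) with hM
  have h15 : 15 ∣ Nat.card M := by
    rw [← cent_five c.h hq]
    refine card_dvd_of_le (le_inf (c.cent_five_le hq hc) fun g hg => mem_normalizer_fintype fun s hs => ?_)
    obtain ⟨k, rfl⟩ := mem_zpowers_iff.1 hs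
    rw [← conj_zpow, mem_centralizer_singleton_iff.1 hg, mul_inv_cancel_right]
    exact zpow_mem (mem_zpowers _) k
  have h60 : Nat.card M ∣ 60 := norm_five c.h hq ▸ card_dvd_of_le inf_le_right
  obtain ⟨P, hP⟩ := exists_sylow_eq (G := C) (p := 5) (by rw [hCc]; norm_num) (by rw [hCc]; norm_num)
    (x := ⟨q, hqC⟩) (by rw [Subgroup.orderOf_mk, hq])
  have hP' : (P : Subgroup C) = (zpowers q).subgroupOf C := by
    refine eq_of_le_of_card_ge (hP ▸ zpowers_le.2 (mem_subgroupOf.2 (mem_zpowers q))) ?_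
    rw [CfsgLib.Transfer.card_sylow_eq_prime P (by rw [hCc]; norm_num) (by rw [hCc]; norm_num),
      Nat.card_congr (subgroupOfEquivOfLe (zpowers_le.2 hqC)).toEquiv, Nat.card_zpowers, hq]
  have h1 : Nat.card (Sylow 5 C) * Nat.card M = 180 := by
    rw [hM, ← card_inf_norm hqC, ← hP', P.card_eq_index_normalizer]
    exact (normalizer ((P : Subgroup C) : Set C)).index_mul_card.trans hCc
  have h2 : Nat.card (Sylow 5 C) % 5 = 1 := card_sylow_modEq_one 5 C
  have hM30 : Nat.card M = 30 := by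
    have hdec : ∀ m ∈ Nat.divisors 60, 15 ∣ m → (180 / m) % 5 = 1 → m = 30 := by decide
    refine hdec _ (Nat.mem_divisors.2 ⟨h60, by norm_num⟩) h15 ?_
    rw [← h1, Nat.mul_div_cancel _ Nat.card_pos]
    exact h2
  refine ⟨hM30, ?_⟩
  rw [hM30] at h1
  rw [← Nat.card_coe_set_eq]
  have hQ5 : ∀ Q : Sylow 5 C, Nat.card (Q : Subgroup C) = 5 := fun Q =>
    CfsgLib.Transfer.card_sylow_eq_prime Q (by rw [hCc]; norm_num) (by rw [hCc]; norm_num)
  rw [← Nat.card_congr (Equiv.ofBijective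
    (fun Q : Sylow 5 C => (⟨(Q : Subgroup C).map C.subtype, map_subtype_le _,
      (card_map_of_injective C.subtype_injective).trans (hQ5 Q)⟩ : c.five)) ⟨?_, ?_⟩)]
  · omega
  · intro Q Q' e
    exact Sylow.ext (map_injective C.subtype_injective (congrArg Subtype.val e))
  · rintro ⟨R, hR, hR5⟩
    have hc5 : Nat.card (R.subgroupOf C) = 5 :=
      (Nat.card_congr (subgroupOfEquivOfLe hR).toEquiv).trans hR5
    obtain ⟨Q, hQ⟩ := (IsPGroup.of_card (G := R.subgroupOf C) (p := 5) (n := 1)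
      (by rw [hc5, pow_one])).exists_le_sylow
    refine ⟨Q, Subtype.ext ?_⟩
    show (Q : Subgroup C).map C.subtype = R
    rw [← eq_of_le_of_card_ge hQ (by rw [hc5, hQ5 Q]), subgroupOf_map_subtype, inf_eq_left.2 hR]

/-- The subgroups of order five fixed by `v`. -/
def fix (v : G) : Set (Subgroup G) := {Q | Q ∈ c.five ∧ v ∈ normalizer (Q : Set G)}

theorem conj_five {g : G} (hg : ∀ a, a * c.x = c.x * a → g * a * g⁻¹ * c.x = c.x * (g * a * g⁻¹))
    {Q : Subgroup G} (hQ : Q ∈ c.five) : MulAut.conj g • Q ∈ c.five := by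
  refine ⟨?_, by rw [← hQ.2]; exact (Nat.card_congr (Subgroup.equivSMul _ Q).toEquiv).symm⟩
  rintro _ ⟨a, ha, rfl⟩
  exact mem_centralizer_singleton_iff.2 (hg a (mem_centralizer_singleton_iff.1 (hQ.1 ha)))

theorem mem_smul_norm {g v : G} {Q : Subgroup G} (h : v ∈ normalizer (Q : Set G)) :
    g * v * g⁻¹ ∈ normalizer ((MulAut.conj g • Q : Subgroup G) : Set G) := by
  refine mem_normalizer_fintype ?_
  rintro _ ⟨a, ha, rfl⟩
  refine ⟨v * a * v⁻¹, (mem_normalizer_iff.1 h a).1 ha, ?_⟩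
  show g * (v * a * v⁻¹) * g⁻¹ = g * v * g⁻¹ * (g * a * g⁻¹) * (g * v * g⁻¹)⁻¹
  group

theorem smul_eq_iff {g : G} {Q : Subgroup G} : MulAut.conj g • Q = Q ↔ g ∈ normalizer (Q : Set G) := by
  constructor
  · intro h
    refine mem_normalizer_fintype fun a ha => ?_
    have : MulAut.conj g • a ∈ MulAut.conj g • Q := smul_mem_pointwise_smul a _ Q ha
    rwa [h] at this
  · intro h
    refine eq_of_le_of_card_ge ?_ (Nat.card_congr (Subgroup.equivSMul _ Q).toEquiv).le
    rintro _ ⟨a, ha, rfl⟩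
    exact (mem_normalizer_iff.1 h a).1 ha

theorem conj_x_of_comm {g : G} (hg : g * c.x = c.x * g) (a : G) (ha : a * c.x = c.x * a) :
    g * a * g⁻¹ * c.x = c.x * (g * a * g⁻¹) :=
  ((((show Commute g c.x from hg).mul_left ha).mul_left (show Commute g c.x from hg).inv_left)).eq

theorem stab_V {Q : Subgroup G} (hQ : Q ∈ c.five) {v v' : G} (hv : v ∈ c.V) (hv1 : v ≠ 1)
    (hv' : v' ∈ c.V) (hv1' : v' ≠ 1) (h : v ∈ normalizer (Q : Set G))
    (h' : v' ∈ normalizer (Q : Set G)) : v = v' := by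
  classical
  by_contra hne
  obtain ⟨q, hq, hc, rfl⟩ := c.five_eq hQ
  set M := centralizer ({c.x} : Set G) ⊓ normalizer (zpowers q : Set G) with hM
  have h4 : Nat.card (c.V ⊓ M : Subgroup G) ∣ 4 := c.card_V ▸ card_dvd_of_le inf_le_left
  have h30 : Nat.card (c.V ⊓ M : Subgroup G) ∣ 30 := (c.five_data hq hc).1 ▸ card_dvd_of_le inf_le_right
  have hle := Nat.le_of_dvd (by norm_num) (Nat.dvd_gcd h4 h30)
  have hm : ∀ a, a ∈ c.V → a ∈ normalizer (zpowers q : Set G) → a ∈ c.V ⊓ M := fun a ha hn =>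
    mem_inf.2 ⟨ha, mem_inf.2 ⟨mem_centralizer_singleton_iff.2 (c.commute_V_x ha), hn⟩⟩
  have hsub : (↑({1, v, v'} : Finset G) : Set G) ⊆ (c.V ⊓ M : Subgroup G) := by
    intro a ha
    simp only [Finset.coe_insert, Finset.coe_singleton, Set.mem_insert_iff,
      Set.mem_singleton_iff] at ha
    rcases ha with rfl | rfl | rfl
    exacts [one_mem _, hm _ hv h, hm _ hv' h']
  have := Set.ncard_le_ncard hsub (Set.toFinite _)
  rw [Set.ncard_coe_finset, ← Nat.card_coe_set_eq,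
    Finset.card_insert_of_notMem (by simp [hv1.symm, hv1'.symm]),
    Finset.card_insert_of_notMem (by simp [hne]), Finset.card_singleton] at this
  change _ ≤ Nat.card (c.V ⊓ M : Subgroup G) at this
  rw [show Nat.gcd 4 30 = 2 from rfl] at hle
  omega

theorem exists_fix : ∃ v ∈ c.V, v ≠ 1 ∧ (c.fix v).Nonempty := by
  classical
  by_contra hne
  push Not at hne
  obtain ⟨q, hq, hc⟩ := c.exists_five_elt
  have h6 := (c.five_data hq hc).2
  have := Fintype.ofFinite c.V
  have hinj : ∀ {Q : Subgroup G}, Q ∈ c.five →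
      Function.Injective fun v : c.V => MulAut.conj (v : G) • Q := by
    intro Q hQ a b e
    have h1 : MulAut.conj ((b : G)⁻¹ * a) • Q = Q := by
      rw [map_mul, mul_smul]
      simp only at e
      rw [e, ← mul_smul, ← map_mul, inv_mul_cancel, map_one, one_smul]
    by_contra hab
    have hm : (b : G)⁻¹ * a ∈ c.V := mul_mem (inv_mem b.2) a.2
    have hx : Q ∈ c.fix ((b : G)⁻¹ * a) := ⟨hQ, smul_eq_iff.1 h1⟩
    exact (hne _ hm fun e => hab (Subtype.ext (inv_mul_eq_one.1 e).symm)).subset hx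
  have horb : ∀ {Q : Subgroup G}, Q ∈ c.five →
      (Set.range fun v : c.V => MulAut.conj (v : G) • Q) ⊆ c.five ∧
      (Set.range fun v : c.V => MulAut.conj (v : G) • Q).ncard = 4 := by
    intro Q hQ
    refine ⟨?_, by rw [Set.ncard_range_of_injective (hinj hQ), c.card_V]⟩
    rintro _ ⟨v, rfl⟩
    exact c.conj_five (c.conj_x_of_comm (c.commute_V_x v.2)) hQ
  have hQ := c.zpowers_mem_five hq hc
  obtain ⟨hs1, hc1⟩ := horb hQ
  set O := Set.range fun v : c.V => MulAut.conj (v : G) • zpowers q with hO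
  obtain ⟨R, hR, hRO⟩ : ∃ R ∈ c.five, R ∉ O := by
    by_contra hh
    push Not at hh
    have := Set.ncard_le_ncard (show c.five ⊆ O from hh) (Set.toFinite _)
    omega
  obtain ⟨hs2, hc2⟩ := horb hR
  have hdis : Disjoint O (Set.range fun v : c.V => MulAut.conj (v : G) • R) := by
    rw [Set.disjoint_left]
    rintro _ ⟨a, rfl⟩ ⟨b, e⟩
    refine hRO ⟨b⁻¹ * a, ?_⟩
    simp only at e ⊢
    rw [Subgroup.coe_mul, InvMemClass.coe_inv, map_mul, mul_smul, ← e, ← mul_smul, ← map_mul,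
      inv_mul_cancel, map_one, one_smul]
  have := Set.ncard_le_ncard (Set.union_subset hs1 hs2) (Set.toFinite _)
  rw [Set.ncard_union_eq hdis] at this
  omega

theorem ncard_fix_y {v : G} (hv : v ∈ c.V) : (c.fix v).ncard ≤ (c.fix (c.y * v * c.y⁻¹)).ncard := by
  refine Set.ncard_le_ncard_of_injOn (fun Q => MulAut.conj c.y • Q) ?_ ?_ (Set.toFinite _)
  · rintro Q ⟨hQ, hn⟩
    exact ⟨c.conj_five (c.conj_x_of_comm c.y_x) hQ, mem_smul_norm hn⟩
  · intro a _ b _ e
    exact MulAction.injective _ e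

theorem ncard_fix_eq {v : G} (hv : v ∈ c.V) :
    (c.fix (c.y * v * c.y⁻¹)).ncard = (c.fix v).ncard := by
  refine le_antisymm ?_ (c.ncard_fix_y hv)
  have h2 := (c.ncard_fix_y (c.y_conj_mem hv)).trans (c.ncard_fix_y (c.y_conj_mem (c.y_conj_mem hv)))
  have e : c.y * (c.y * (c.y * v * c.y⁻¹) * c.y⁻¹) * c.y⁻¹ = v := by
    refine Eq.trans ?_ (c.y_cube hv)
    simp only [pow_succ, pow_zero, one_mul, mul_inv_rev, mul_assoc]
  rwa [e] at h2

/-- Each involution of the four-group fixes two subgroups of order five. -/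
theorem ncard_fix {v : G} (hv : v ∈ c.V) (h1 : v ≠ 1) : (c.fix v).ncard = 2 := by
  classical
  obtain ⟨v₀, hv₀, h0, hne⟩ := c.exists_fix
  set f := (c.fix v₀).ncard with hf
  have hf1 : 1 ≤ f := (Set.ncard_pos (Set.toFinite _)).2 hne
  set v₁ := c.y * v₀ * c.y⁻¹ with hv₁
  set v₂ := c.y * v₁ * c.y⁻¹ with hv₂
  have m1 : v₁ ∈ c.V := c.y_conj_mem hv₀
  have m2 : v₂ ∈ c.V := c.y_conj_mem m1
  have n1 : v₁ ≠ 1 := fun e => h0 (conj_eq_one_iff.1 e)
  have n2 : v₂ ≠ 1 := fun e => n1 (conj_eq_one_iff.1 e)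
  have d01 : v₀ ≠ v₁ := (c.y_move hv₀ h0).symm
  have d12 : v₁ ≠ v₂ := (c.y_move m1 n1).symm
  have d02 : v₀ ≠ v₂ := fun e => c.y_move m2 n2 (by
    have h := c.y_cube hv₀
    have e' : c.y * v₂ * c.y⁻¹ = v₀ := by
      refine Eq.trans ?_ h
      simp only [hv₂, hv₁, pow_succ, pow_zero, one_mul, mul_inv_rev, mul_assoc]
    rw [e', e])
  have f1 : (c.fix v₁).ncard = f := c.ncard_fix_eq hv₀
  have f2 : (c.fix v₂).ncard = f := (c.ncard_fix_eq m1).trans f1
  have hdis : ∀ {a b}, a ∈ c.V → a ≠ 1 → b ∈ c.V → b ≠ 1 → a ≠ b →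
      Disjoint (c.fix a) (c.fix b) := fun ha ha1 hb hb1 hab => Set.disjoint_left.2 fun Q hQa hQb =>
    hab (c.stab_V hQa.1 ha ha1 hb hb1 hQa.2 hQb.2)
  obtain ⟨q, hq, hcq⟩ := c.exists_five_elt
  have h3f : f + f + f ≤ 6 := by
    rw [← (c.five_data hq hcq).2]
    refine le_trans (le_of_eq ?_) (Set.ncard_le_ncard
      (show (c.fix v₀ ∪ c.fix v₁) ∪ c.fix v₂ ⊆ c.five by
        rintro Q ((h | h) | h) <;> exact h.1) (Set.toFinite _))
    rw [Set.ncard_union_eq (Set.disjoint_union_left.2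
      ⟨hdis hv₀ h0 m2 n2 d02, hdis m1 n1 m2 n2 d12⟩), Set.ncard_union_eq (hdis hv₀ h0 m1 n1 d01),
      f1, f2]
  have hf2 : 2 ≤ f := by
    obtain ⟨Q, hQ⟩ := hne
    have hR : MulAut.conj v₁ • Q ∈ c.fix v₀ := ⟨c.conj_five (c.conj_x_of_comm (c.commute_V_x m1)) hQ.1, by
      have := mem_smul_norm (g := v₁) hQ.2
      rwa [c.V_comm m1 hv₀, mul_inv_cancel_right] at this⟩
    have hne' : MulAut.conj v₁ • Q ≠ Q := fun e =>
      d01 (c.stab_V hQ.1 hv₀ h0 m1 n1 hQ.2 (smul_eq_iff.1 e))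
    rw [hf, show 2 = 1 + 1 from rfl, Nat.succ_le_iff, Set.one_lt_ncard (Set.toFinite _)]
    exact ⟨_, hR, _, hQ, hne'⟩
  have hv3 : v = v₀ ∨ v = v₁ ∨ v = v₂ := by
    by_contra hh
    push Not at hh
    have hsub : (↑({1, v, v₀, v₁, v₂} : Finset G) : Set G) ⊆ c.V := by
      intro a ha
      simp only [Finset.coe_insert, Finset.coe_singleton, Set.mem_insert_iff,
        Set.mem_singleton_iff] at ha
      rcases ha with rfl | rfl | rfl | rfl | rfl
      exacts [one_mem _, hv, hv₀, m1, m2]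
    have := Set.ncard_le_ncard hsub (Set.toFinite _)
    rw [Set.ncard_coe_finset, ← Nat.card_coe_set_eq, SetLike.coe_sort_coe, c.card_V,
      Finset.card_insert_of_notMem (by simp [h1.symm, h0.symm, n1.symm, n2.symm]),
      Finset.card_insert_of_notMem (by simp [hh.1, hh.2.1, hh.2.2]),
      Finset.card_insert_of_notMem (by simp [d01, d02]),
      Finset.card_insert_of_notMem (by simp [d12]), Finset.card_singleton] at this
    omega
  rcases hv3 with rfl | rfl | rfl <;> omega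

theorem exists_w : ∃ w : G, w ∈ c.L ∧ orderOf w ∣ 8 ∧ w * c.x * w⁻¹ = c.x⁻¹ := by
  obtain ⟨g, hg, hgD⟩ : ∃ g ∈ c.L ⊓ normalizer (zpowers c.x : Set G), g ∉ c.D := by
    by_contra hh
    push Not at hh
    have := card_le_of_le hh
    rw [c.norm_three, c.card_D] at this
    omega
  have hinv : g * c.x * g⁻¹ = c.x⁻¹ := (c.conj_x_cases (mem_inf.1 hg).2).resolve_left fun e =>
    hgD (c.mem_D.2 ⟨c.mem_L.1 (mem_inf.1 hg).1, mul_inv_eq_iff_eq_mul.1 e⟩)
  refine ⟨g ^ 3, pow_mem (mem_inf.1 hg).1 3, orderOf_dvd_of_pow_eq_one ?_, ?_⟩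
  · rw [← pow_mul, show 3 * 8 = 24 from rfl]
    refine orderOf_dvd_iff_pow_eq_one.1 ?_
    have := Subgroup.orderOf_dvd_natCard _ hg
    rwa [c.norm_three] at this
  · have hinv2 : g * c.x⁻¹ * g⁻¹ = c.x := by
      rw [← conj_inv, hinv, inv_inv]
    calc g ^ 3 * c.x * (g ^ 3)⁻¹ = g * (g * (g * c.x * g⁻¹) * g⁻¹) * g⁻¹ := by
          simp only [pow_succ, pow_zero, one_mul, mul_inv_rev, mul_assoc]
      _ = c.x⁻¹ := by rw [hinv, hinv2, hinv]

/-- An element of `C(t)` inverting `x`. -/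
noncomputable def w : G := c.exists_w.choose

theorem w_mem_L : c.w ∈ c.L := c.exists_w.choose_spec.1

theorem w_order : orderOf c.w ∣ 8 := c.exists_w.choose_spec.2.1

theorem w_x : c.w * c.x * c.w⁻¹ = c.x⁻¹ := c.exists_w.choose_spec.2.2

theorem w_t : c.w * c.t * c.w⁻¹ = c.t := mul_inv_eq_iff_eq_mul.2 (c.mem_L.1 c.w_mem_L)

theorem w_conj_comm (a : G) (ha : a * c.x = c.x * a) :
    c.w * a * c.w⁻¹ * c.x = c.x * (c.w * a * c.w⁻¹) := by
  have h := (show Commute a c.x from ha).map (MulAut.conj c.w).toMonoidHom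
  simp only [MulEquiv.coe_toMonoidHom, MulAut.conj_apply, c.w_x] at h
  exact (Commute.inv_right_iff.1 h).eq

theorem w_conj_mem {a : G} (ha : a ∈ c.V) : c.w * a * c.w⁻¹ ∈ c.V := by
  refine c.mem_V.2 ⟨?_, c.w_conj_comm a (c.commute_V_x ha), ?_⟩
  · have h := (show Commute a c.t from (c.mem_V.1 ha).1).map (MulAut.conj c.w).toMonoidHom
    simp only [MulEquiv.coe_toMonoidHom, MulAut.conj_apply, c.w_t] at h
    exact h.eq
  · calc c.w * a * c.w⁻¹ * (c.w * a * c.w⁻¹) = c.w * (a * a) * c.w⁻¹ := by group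
      _ = 1 := by rw [c.sq_V ha]; group

theorem w_sq_eq {v : G} (hv : v ∈ c.V) (h1 : v ≠ 1) (hw : ∀ a ∈ c.V, c.w * a = a * c.w) :
    c.w * c.w = v := by
  classical
  have h2 := c.ncard_fix hv h1
  obtain ⟨Q, hQ, hQn⟩ : (c.fix v).Nonempty :=
    Set.nonempty_of_ncard_ne_zero (by omega)
  -- an involution of `V` other than `v`
  obtain ⟨u, hu, hu1, huv⟩ : ∃ u ∈ c.V, u ≠ 1 ∧ u ≠ v :=
    ⟨c.y * v * c.y⁻¹, c.y_conj_mem hv, fun e => h1 (conj_eq_one_iff.1 e), c.y_move hv h1⟩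
  have huQ : MulAut.conj u • Q ∈ c.fix v :=
    ⟨c.conj_five (c.conj_x_of_comm (c.commute_V_x hu)) hQ, by
      have := mem_smul_norm (g := u) hQn
      rwa [c.V_comm hu hv, mul_inv_cancel_right] at this⟩
  have hne : MulAut.conj u • Q ≠ Q := fun e =>
    huv (c.stab_V hQ hu hu1 hv h1 (smul_eq_iff.1 e) hQn)
  have hfix : c.fix v = {Q, MulAut.conj u • Q} := by
    refine (Set.eq_of_subset_of_ncard_le ?_ ?_ (Set.toFinite _)).symm
    · rintro R (rfl | rfl)
      exacts [⟨hQ, hQn⟩, huQ]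
    · rw [h2, Set.ncard_pair hne.symm]
  have hwQ : MulAut.conj c.w • Q ∈ c.fix v := ⟨c.conj_five c.w_conj_comm hQ, by
    have := mem_smul_norm (g := c.w) hQn
    rwa [hw v hv, mul_inv_cancel_right] at this⟩
  obtain ⟨z, hzfix, hzz, hzx, hzv⟩ : ∃ z, z ∈ normalizer (Q : Set G) ∧ z * z = c.w * c.w ∧
      z * c.x * z⁻¹ = c.x⁻¹ ∧ z * v = v * z := by
    rw [hfix] at hwQ
    rcases hwQ with e | e
    · exact ⟨c.w, smul_eq_iff.1 e, rfl, c.w_x, hw v hv⟩
    · refine ⟨u * c.w, smul_eq_iff.1 ?_, ?_, ?_, ?_⟩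
      · rw [map_mul, mul_smul, e, ← mul_smul, ← map_mul, c.sq_V hu, map_one, one_smul]
      · calc u * c.w * (u * c.w) = u * (c.w * u) * c.w := by group
          _ = u * u * (c.w * c.w) := by rw [hw u hu]; group
          _ = c.w * c.w := by rw [c.sq_V hu, one_mul]
      · calc u * c.w * c.x * (u * c.w)⁻¹ = u * (c.w * c.x * c.w⁻¹) * u⁻¹ := by group
          _ = c.x⁻¹ := by
            rw [c.w_x, (show Commute u c.x from c.commute_V_x hu).inv_right.eq, mul_inv_cancel_right]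
      · exact ((show Commute u v from c.V_comm hu hv).mul_left (show Commute c.w v from hw v hv)).eq
  obtain ⟨q, hq, hcq, rfl⟩ := c.five_eq hQ
  -- `v` inverts `q` and `z` acts on it with order four
  have hpow : ∀ g ∈ normalizer (zpowers q : Set G), ∃ k < 5, g * q * g⁻¹ = q ^ k := by
    intro g hg
    have hm := (mem_normalizer_iff.1 hg q).1 (mem_zpowers _)
    obtain ⟨k, hk, hke⟩ := (isOfFinOrder_of_finite q).mem_zpowers_iff_mem_range_orderOf.1 hm
      |> Finset.mem_image.1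
    exact ⟨k, hq ▸ Finset.mem_range.1 hk, hke.symm⟩
  have hnc : ∀ g, g * c.x * g⁻¹ = c.x⁻¹ → g * q * g⁻¹ ≠ q := by
    intro g hg e
    have hm := c.cent_five_le hq hcq (mem_centralizer_singleton_iff.2 (mul_inv_eq_iff_eq_mul.1 e))
    rw [mem_centralizer_singleton_iff] at hm
    rw [hm, mul_inv_cancel_right] at hg
    have := orderOf_dvd_of_pow_eq_one (show c.x ^ 2 = 1 by rw [pow_two]; exact mul_eq_one_iff_eq_inv.2 hg)
    rw [c.hx] at this
    norm_num at this
  have hvq : ¬ v * q * v⁻¹ = q := by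
    intro e
    have hm : v ∈ centralizer ({q} : Set G) := mem_centralizer_singleton_iff.2 (mul_inv_eq_iff_eq_mul.1 e)
    have := Subgroup.orderOf_dvd_natCard _ hm
    rw [cent_five c.h hq, c.orderOf_V hv h1] at this
    norm_num at this
  obtain ⟨k, hk, hzk⟩ := hpow z hzfix
  obtain ⟨j, hj, hvj⟩ := hpow v hQn
  have hit : ∀ g k, g * q * g⁻¹ = q ^ k → g * g * q * (g * g)⁻¹ = q ^ (k * k) := by
    intro g k e
    calc g * g * q * (g * g)⁻¹ = g * (g * q * g⁻¹) * g⁻¹ := by group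
      _ = q ^ (k * k) := by rw [e, ← conj_pow, e, pow_mul]
  have hq5 : ∀ m, q ^ m = q → m % 5 = 1 := by
    intro m e
    have : q ^ m = q ^ 1 := by rw [e, pow_one]
    rw [pow_inj_mod, hq] at this
    exact this
  have hj4 : j = 4 := by
    have := hit v j hvj
    rw [c.sq_V hv, one_mul, inv_one, mul_one] at this
    have h55 := hq5 _ this.symm
    have : j ≠ 1 := fun e => hvq (by rw [hvj, e, pow_one])
    interval_cases j <;> omega
  -- the square of `z` does not centralise `q`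
  have hzz1 : z * z * q * (z * z)⁻¹ ≠ q := by
    intro e
    rw [hit z k hzk] at e
    have h55 := hq5 _ e
    have hk1 : k ≠ 1 := fun e => hnc z hzx (by rw [hzk, e, pow_one])
    have hk4 : k = 4 := by interval_cases k <;> omega
    refine hnc (v * z) ?_ ?_
    · calc v * z * c.x * (v * z)⁻¹ = v * (z * c.x * z⁻¹) * v⁻¹ := by group
        _ = c.x⁻¹ := by
          rw [hzx, (show Commute v c.x from c.commute_V_x hv).inv_right.eq, mul_inv_cancel_right]
    · calc v * z * q * (v * z)⁻¹ = v * (z * q * z⁻¹) * v⁻¹ := by group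
        _ = q ^ (4 * 4) := by rw [hzk, hk4, ← conj_pow, hvj, hj4, pow_mul]
        _ = q := by
          conv_rhs => rw [← pow_one q]
          rw [pow_inj_mod, hq]
  rw [hzz] at hzz1
  have hwV : c.w * c.w ∈ c.V := by
    refine c.mem_V_of_two_pow (c.mem_D.2 ⟨c.mem_L.1 (mul_mem c.w_mem_L c.w_mem_L), ?_⟩) (k := 3) ?_
    · refine mul_inv_eq_iff_eq_mul.1 ?_
      calc c.w * c.w * c.x * (c.w * c.w)⁻¹ = c.w * (c.w * c.x * c.w⁻¹) * c.w⁻¹ := by group
        _ = c.x := by rw [c.w_x, ← conj_inv, c.w_x, inv_inv]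
    · rw [← pow_two]
      exact (orderOf_pow_dvd 2).trans c.w_order
  have hw1 : c.w * c.w ≠ 1 := fun e => hzz1 (by rw [e]; group)
  refine c.stab_V hQ hwV hw1 hv h1 ?_ hQn
  rw [← hzz]
  exact mul_mem hzfix hzfix

theorem w_s : c.w * c.s * c.w⁻¹ = c.t * c.s := by
  rcases c.V_cases (c.w_conj_mem c.s_mem) with e | e | e | e
  · exact absurd (conj_eq_one_iff.1 e) c.s_ne_one
  · exact absurd (mul_left_cancel (mul_right_cancel (e.trans c.w_t.symm))) c.s_ne_t
  · exfalso
    have hs : c.w * c.s = c.s * c.w := mul_inv_eq_iff_eq_mul.1 e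
    have ht : c.w * c.t = c.t * c.w := c.mem_L.1 c.w_mem_L
    have hw : ∀ a ∈ c.V, c.w * a = a * c.w := by
      intro a ha
      rcases c.V_cases ha with rfl | rfl | rfl | rfl
      · simp
      · exact ht
      · exact hs
      · exact ((show Commute c.w c.t from ht).mul_right (show Commute c.w c.s from hs)).eq
    exact c.s_ne_t ((c.w_sq_eq c.s_mem c.s_ne_one hw).symm.trans
      (c.w_sq_eq c.t_mem_V c.t_ne_one hw))
  · exact e

end Loc

end CfsgLib.ClassK.M23Nse
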