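import Cfsg.Agent.Lib.ClassK.M23Nse.Orders
import Mathlib.GroupTheory.SpecificGroups.Cyclic

/-!
The orders of the elements and the number of elements of each order.
-/

set_option autoImplicit false
set_option linter.unusedSectionVars false

namespace CfsgLib.ClassK.M23Nse

open Subgroup CfsgLib.StructB.OrderCount

universe u

variable {G : Type u} [Group G] [Finite G]

theorem commute_of_coprime {p : ℕ} [hp : Fact p.Prime] {x z : G} (hx : orderOf x = p)
    (hz : z ∈ normalizer (zpowers x : Set G)) (hco : (orderOf z).Coprime (p - 1)) : Commute x z := by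
  let f := (zpowers x).normalizerMonoidHom
  have h1 : orderOf (f ⟨z, hz⟩) ∣ orderOf z := by
    have := orderOf_map_dvd f ⟨z, hz⟩
    rwa [Subgroup.orderOf_mk] at this
  have h2 : orderOf (f ⟨z, hz⟩) ∣ p - 1 := by
    have := orderOf_dvd_natCard (f ⟨z, hz⟩)
    rwa [IsCyclic.card_mulAut, Nat.card_zpowers, hx, Nat.totient_prime hp.out] at this
  have h3 : (⟨z, hz⟩ : normalizer (zpowers x : Set G)) ∈ f.ker :=
    MonoidHom.mem_ker.2 (orderOf_eq_one_iff.1 (Nat.eq_one_of_dvd_coprimes hco h1 h2))
  rw [normalizerMonoidHom_ker, mem_subgroupOf, mem_centralizer_iff] at h3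
  exact h3 x (mem_zpowers x)

theorem ncom_ge {q : ℕ} [hq : Fact q.Prime] {x : G}
    (hd : q ∣ Nat.card (centralizer ({x} : Set G))) : q - 1 ≤ ncom x q := by
  obtain ⟨⟨y, hy⟩, hyo⟩ := exists_prime_orderOf_dvd_card' (G := centralizer ({x} : Set G)) q hd
  rw [Subgroup.orderOf_mk] at hyo
  have hc : Commute x y := (mem_centralizer_singleton_iff.1 hy).symm
  refine le_of_eq_of_le (Nat.card_fin (q - 1)).symm
    (Nat.card_le_card_of_injective (fun i : Fin (q - 1) => ⟨y ^ (i.1 + 1), ?_, hc.pow_right _⟩) ?_)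
  · have := i.isLt
    rw [orderOf_pow' _ (by omega), hyo, ((Nat.Prime.coprime_iff_not_dvd hq.out).2
      (Nat.not_dvd_of_pos_of_lt (by omega) (by omega))).gcd_eq_one, Nat.div_one]
  · intro i j e
    have e3 := pow_inj_mod.1 (congrArg (fun z : {y : G // orderOf y = q ∧ Commute x y} => (z : G)) e)
    have := i.isLt
    have := j.isLt
    rw [hyo, Nat.mod_eq_of_lt (show i.1 + 1 < q by omega),
      Nat.mod_eq_of_lt (show j.1 + 1 < q by omega)] at e3
    exact Fin.ext (by omega)

theorem card_cent_dvd_norm (x : G) :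
    Nat.card (centralizer ({x} : Set G)) ∣ Nat.card (normalizer (zpowers x : Set G)) :=
  card_dvd_of_le (M12Nse.centralizer_le_normalizer_zpowers x)

theorem dvd_cent_self (x : G) : orderOf x ∣ Nat.card (centralizer ({x} : Set G)) :=
  Subgroup.orderOf_dvd_natCard _ (mem_centralizer_singleton_iff.2 rfl)

theorem three_dvd_cent_five (h : Hyp G) {x : G} (hx : orderOf x = 5) :
    3 ∣ Nat.card (centralizer ({x} : Set G)) := by
  have : Fact (Nat.Prime 5) := ⟨by norm_num⟩
  have : Fact (Nat.Prime 3) := ⟨by norm_num⟩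
  obtain ⟨⟨z, hz⟩, hzo⟩ := exists_prime_orderOf_dvd_card' (G := normalizer (zpowers x : Set G)) 3
    (by rw [norm_five h hx]; norm_num)
  rw [Subgroup.orderOf_mk] at hzo
  have := commute_of_coprime hx hz (by rw [hzo]; decide)
  exact hzo ▸ Subgroup.orderOf_dvd_natCard _ (mem_centralizer_singleton_iff.2 this.symm.eq)

theorem cnt_fifteen (h : Hyp G) : cnt G 15 = 1360128 := by
  have : Fact (Nat.Prime 5) := ⟨by norm_num⟩
  have : Fact (Nat.Prime 3) := ⟨by norm_num⟩
  obtain ⟨x, hx⟩ := exists_prime_orderOf_dvd_card' (G := G) 5 (by rw [h.card]; norm_num)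
  have h1 := cnt_mul_prime (q := 3) (h.card ▸ by norm_num) (h.card ▸ by norm_num) (by norm_num) hx
  rw [h.cnt_five, show 5 * 3 = 15 from rfl] at h1
  have := ncom_ge (three_dvd_cent_five h hx)
  have := h.le_max 15
  omega

theorem cent_eleven (h : Hyp G) {x : G} (hx : orderOf x = 11) :
    Nat.card (centralizer ({x} : Set G)) = 11 := by
  have : Fact (Nat.Prime 11) := ⟨by norm_num⟩
  have : Fact (Nat.Prime 5) := ⟨by norm_num⟩
  have hd := card_cent_dvd_norm x
  rw [norm_eleven h hx] at hd
  have h11 := dvd_cent_self x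
  rw [hx] at h11
  have h5 : ¬ 5 ∣ Nat.card (centralizer ({x} : Set G)) := fun h5 => by
    have h1 := cnt_mul_prime (q := 5) (h.card ▸ by norm_num) (h.card ▸ by norm_num) (by norm_num) hx
    rw [h.cnt_eleven] at h1
    have := ncom_ge h5
    have := h.le_max (11 * 5)
    omega
  have hcases : ∀ m ∈ Nat.divisors 55, 11 ∣ m → ¬ 5 ∣ m → m = 11 := by decide +kernel
  exact hcases _ (Nat.mem_divisors.2 ⟨hd, by norm_num⟩) h11 h5

theorem cent_twentythree (h : Hyp G) {x : G} (hx : orderOf x = 23) :
    Nat.card (centralizer ({x} : Set G)) = 23 := by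
  have : Fact (Nat.Prime 23) := ⟨by norm_num⟩
  have : Fact (Nat.Prime 11) := ⟨by norm_num⟩
  have hd := card_cent_dvd_norm x
  rw [norm_twentythree h hx] at hd
  have h23 := dvd_cent_self x
  rw [hx] at h23
  have h11 : ¬ 11 ∣ Nat.card (centralizer ({x} : Set G)) := fun h11 => by
    have h1 := cnt_mul_prime (q := 11) (h.card ▸ by norm_num) (h.card ▸ by norm_num) (by norm_num) hx
    rw [h.cnt_twentythree] at h1
    have := ncom_ge h11
    have := h.le_max (23 * 11)
    omega
  have hcases : ∀ m ∈ Nat.divisors 253, 23 ∣ m → ¬ 11 ∣ m → m = 23 := by decide +kernel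
  exact hcases _ (Nat.mem_divisors.2 ⟨hd, by norm_num⟩) h23 h11

theorem cent_seven_dvd (h : Hyp G) {x : G} (hx : orderOf x = 7) :
    Nat.card (centralizer ({x} : Set G)) ∣ 14 := by
  have : Fact (Nat.Prime 7) := ⟨by norm_num⟩
  have : Fact (Nat.Prime 3) := ⟨by norm_num⟩
  have hd := card_cent_dvd_norm x
  rw [norm_seven h hx] at hd
  have h3 : ¬ 3 ∣ Nat.card (centralizer ({x} : Set G)) := fun h3 => by
    have h1 := cnt_mul_prime (q := 3) (h.card ▸ by norm_num) (h.card ▸ by norm_num) (by norm_num) hx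
    rw [h.cnt_seven] at h1
    have := ncom_ge h3
    have := h.le_max (7 * 3)
    omega
  exact ((Nat.prime_three.coprime_iff_not_dvd.2 h3).symm).dvd_of_dvd_mul_left
    (show _ ∣ 3 * 14 from hd)

/-- The orders with known counts. -/
def known : Finset ℕ := {1, 2, 3, 5, 7, 11, 15, 23}

/-- The values that occur more than the known ones, and what they can sum to below the last. -/
def sums : List ℕ := [0, 56672, 113344, 170016, 226688, 283360, 318780, 340032, 375452, 396704,
  432124, 453376, 488796, 510048, 545468, 566720, 602140, 623392, 637560, 658812, 680064, 694232,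
  715484, 736736, 750904, 772156, 793408, 807576, 828828, 850080, 864248, 885500, 887040, 906752,
  920920, 942172, 943712, 956340, 963424, 977592, 998844, 1000384, 1013012, 1020096, 1034264,
  1055516, 1057056, 1069684, 1076768, 1090936, 1112188, 1113728, 1126356, 1133440, 1147608, 1168860,
  1170400, 1183028, 1190112, 1204280, 1205820, 1225532, 1227072, 1239700, 1246784, 1260952, 1262492,
  1275120, 1282204, 1283744, 1296372, 1303456, 1317624, 1319164, 1331792, 1338876, 1340416, 1353044,
  1360128, 1374296, 1375836, 1388464, 1395548, 1397088, 1409716, 1416800, 1430968, 1432508, 1445136,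
  1452220, 1453760, 1457280]

/-- The even values. -/
def evenVals : List ℕ :=
  [56672, 318780, 680064, 850080, 887040, 1275120, 1360128, 1457280, 1854720]

theorem sums_closed : (evenVals.all fun v => sums.all fun r =>
    (decide (1457280 < r + v)) || sums.contains (r + v)) = true := by decide +kernel

theorem sums_top : ∀ v ∈ evenVals, v ≤ 1457280 → (1457280 - v) ∈ sums → v = 1457280 := by
  decide +kernel

theorem sum_mem_sums {ι : Type*} (s : Finset ι) (f : ι → ℕ)
    (hf : ∀ i ∈ s, f i = 0 ∨ f i ∈ evenVals) (hle : ∑ i ∈ s, f i ≤ 1457280) :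
    ∑ i ∈ s, f i ∈ sums := by
  classical
  induction s using Finset.induction_on with
  | empty => rw [Finset.sum_empty]; decide
  | @insert a s ha ih =>
    rw [Finset.sum_insert ha] at hle ⊢
    have hs := ih (fun i hi => hf i (Finset.mem_insert_of_mem hi)) (by omega)
    rcases hf a (Finset.mem_insert_self a s) with e | e
    · rwa [e, zero_add]
    · have := List.all_eq_true.1 (List.all_eq_true.1 sums_closed _ e) _ hs
      rw [Bool.or_eq_true, decide_eq_true_eq, List.contains_iff_mem, add_comm] at this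
      exact this.resolve_left (by omega)

theorem Hyp.known_sum (h : Hyp G) : ∑ n ∈ known, cnt G n = 6299700 := by
  rw [known]
  simp only [Finset.sum_insert, Finset.sum_singleton, Finset.mem_insert, Finset.mem_singleton,
    Nat.reduceEqDiff, or_self, not_false_eq_true, cnt_one, h.cnt_two, h.cnt_three, h.cnt_five,
    h.cnt_seven, h.cnt_eleven, cnt_fifteen h, h.cnt_twentythree, Nat.reduceAdd]

theorem Hyp.known_ne (h : Hyp G) {n c : ℕ} (hn : n ∈ known) (e : cnt G n = c) :
    c ≠ 318780 ∧ c ≠ 850080 ∧ c ≠ 1275120 := by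
  simp only [known, Finset.mem_insert, Finset.mem_singleton] at hn
  have := cnt_one (G := G); have := h.cnt_two; have := h.cnt_three; have := h.cnt_five
  have := h.cnt_seven; have := h.cnt_eleven; have := cnt_fifteen h; have := h.cnt_twentythree
  rcases hn with rfl | rfl | rfl | rfl | rfl | rfl | rfl | rfl <;> omega

/-- The remaining orders: four values, each once. -/
theorem Hyp.rest (h : Hyp G) : ∃ a b c : ℕ, cnt G a = 318780 ∧ cnt G b = 850080 ∧
    cnt G c = 1275120 ∧
    (∀ n, n ∉ known → cnt G n ≠ 0 → n = a ∨ n = b ∨ n = c ∨ cnt G n = 1457280) ∧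
    ∀ n m, n ∉ known → m ∉ known → cnt G n = 1457280 → cnt G m = 1457280 → n ≠ a → n ≠ b →
      n ≠ c → m ≠ a → m ≠ b → m ≠ c → n = m := by
  classical
  obtain ⟨a, ha⟩ := h.ach 318780 (by decide)
  obtain ⟨b, hb⟩ := h.ach 850080 (by decide)
  obtain ⟨c, hc⟩ := h.ach 1275120 (by decide)
  have hak : a ∉ known := fun hk => (h.known_ne hk ha).1 rfl
  have hbk : b ∉ known := fun hk => (h.known_ne hk hb).2.1 rfl
  have hck : c ∉ known := fun hk => (h.known_ne hk hc).2.2 rfl
  have hab : a ≠ b := fun e => by rw [e, hb] at ha; omega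
  have hac : a ≠ c := fun e => by rw [e, hc] at ha; omega
  have hbc : b ≠ c := fun e => by rw [e, hc] at hb; omega
  set S : Finset ℕ := known ∪ {a, b, c} with hS
  have hsub : S ⊆ (Nat.card G).divisors := by
    intro n hn
    refine Nat.mem_divisors.2 ⟨?_, Nat.card_pos.ne'⟩
    simp only [hS, known, Finset.mem_union, Finset.mem_insert, Finset.mem_singleton] at hn
    rcases hn with (rfl | rfl | rfl | rfl | rfl | rfl | rfl | rfl) | rfl | rfl | rfl
    iterate 8 (rw [h.card]; norm_num)
    all_goals exact dvd_card_of_cnt (by omega)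
  have hsumS : ∑ n ∈ S, cnt G n = 8743680 := by
    rw [hS, Finset.sum_union (by simp [Finset.disjoint_right, hak, hbk, hck]), h.known_sum,
      Finset.sum_insert (by simp [hab, hac]), Finset.sum_pair hbc, ha, hb, hc]; all_goals norm_num
  set R := (Nat.card G).divisors \ S with hR
  have hsumR : ∑ n ∈ R, cnt G n = 1457280 := by
    have := Finset.sum_sdiff (f := fun n => cnt G n) hsub
    rw [← hR, sum_cnt, h.card, hsumS] at this
    omega
  have hev : ∀ n ∈ R, cnt G n = 0 ∨ cnt G n ∈ evenVals := by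
    intro n hn
    simp only [hR, hS, known, Finset.mem_sdiff, Finset.mem_union, Finset.mem_insert,
      Finset.mem_singleton, not_or] at hn
    rcases Nat.lt_or_ge n 3 with h3 | h3
    · have := Nat.pos_of_mem_divisors hn.1
      omega
    have := (even_cnt (G := G) h3).two_dvd
    rcases h.cases n with e | e | e | e | e | e | e | e | e | e | e | e <;>
      first
        | exact Or.inl e
        | (rw [e]; exact Or.inr (by decide))
        | (rw [e] at this; omega)
  have hval : ∀ n ∈ R, cnt G n ≠ 0 → cnt G n = 1457280 := by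
    intro n hn h0
    rw [← Finset.add_sum_erase R _ hn] at hsumR
    have hm := sum_mem_sums (R.erase n) (fun i => cnt G i)
      (fun i hi => hev i (Finset.mem_of_mem_erase hi)) (by omega)
    rw [show ∑ i ∈ R.erase n, cnt G i = 1457280 - cnt G n by omega] at hm
    exact sums_top _ ((hev n hn).resolve_left h0) (by omega) hm
  have hmem : ∀ n, n ∉ known → n ≠ a → n ≠ b → n ≠ c → cnt G n ≠ 0 → n ∈ R := by
    intro n hn h1 h2 h3 h0
    simp [hR, hS, hn, h1, h2, h3, dvd_card_of_cnt h0, Nat.card_pos.ne']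
  refine ⟨a, b, c, ha, hb, hc, fun n hn h0 => ?_, fun n m hn hm en em n1 n2 n3 m1 m2 m3 => ?_⟩
  · by_cases h1 : n = a
    · exact Or.inl h1
    by_cases h2 : n = b
    · exact Or.inr (Or.inl h2)
    by_cases h3 : n = c
    · exact Or.inr (Or.inr (Or.inl h3))
    exact Or.inr (Or.inr (Or.inr (hval n (hmem n hn h1 h2 h3 h0) h0)))
  · by_contra hne
    have hnR := hmem n hn n1 n2 n3 (by omega)
    have hmR : m ∈ R.erase n := Finset.mem_erase.2 ⟨Ne.symm hne, hmem m hm m1 m2 m3 (by omega)⟩
    rw [← Finset.add_sum_erase R _ hnR, ← Finset.add_sum_erase _ _ hmR, en, em] at hsumR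
    omega

theorem Hyp.other (h : Hyp G) {n : ℕ} (hn : n ∉ known) :
    cnt G n = 0 ∨ cnt G n = 318780 ∨ cnt G n = 850080 ∨ cnt G n = 1275120 ∨ cnt G n = 1457280 := by
  obtain ⟨a, b, c, ha, hb, hc, hr, -⟩ := h.rest
  by_cases h0 : cnt G n = 0
  · exact Or.inl h0
  rcases hr n hn h0 with rfl | rfl | rfl | e <;> omega

theorem Hyp.inj (h : Hyp G) {n m : ℕ} (hn : n ∉ known) (hm : m ∉ known) (h0 : cnt G n ≠ 0)
    (he : cnt G n = cnt G m) : n = m := by
  obtain ⟨a, b, c, ha, hb, hc, hr, hu⟩ := h.rest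
  rcases hr n hn h0 with rfl | rfl | rfl | e <;> rcases hr m hm (by omega) with rfl | rfl | rfl | e' <;>
    first
      | rfl
      | (exfalso; omega)
      | exact hu n m hn hm e e' (fun x => by subst x; omega) (fun x => by subst x; omega)
          (fun x => by subst x; omega) (fun x => by subst x; omega) (fun x => by subst x; omega)
          (fun x => by subst x; omega)

theorem Hyp.not_five (h : Hyp G) {S : Finset ℕ} (hk : ∀ n ∈ S, n ∉ known)
    (h0 : ∀ n ∈ S, cnt G n ≠ 0) : S.card ≤ 4 := by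
  refine le_trans (Finset.card_le_card_of_injOn (fun n => cnt G n)
    (t := {318780, 850080, 1275120, 1457280}) (fun n hn => ?_) ?_) (by decide)
  · have := h.other (hk n hn)
    have := h0 n hn
    simp only [Finset.coe_insert, Finset.coe_singleton, Set.mem_insert_iff, Set.mem_singleton_iff]
    omega
  · intro n hn m hm e
    exact h.inj (hk n hn) (hk m hm) (h0 n hn) e

theorem ne_zero_of_dvd {m k : ℕ} (hd : m ∣ k) (hk : cnt G k ≠ 0) : cnt G m ≠ 0 :=
  fun h0 => hk (cnt_zero_of_dvd hd h0)

theorem cnt_fourteen (h : Hyp G) : cnt G 14 = 1457280 := by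
  have : Fact (Nat.Prime 7) := ⟨by norm_num⟩
  have hne : cnt G 14 ≠ 0 := fun e => by
    have := dvd_sum_cnt (G := G) (n := 14) (by rw [h.card]; norm_num)
    rw [show (14 : ℕ).divisors = {1, 2, 7, 14} by decide] at this
    simp only [Finset.sum_insert, Finset.sum_singleton, Finset.mem_insert, Finset.mem_singleton,
      Nat.reduceEqDiff, or_self, not_false_eq_true, cnt_one, h.cnt_two, h.cnt_seven, e] at this
    omega
  obtain ⟨x, hx⟩ := exists_prime_orderOf_dvd_card' (G := G) 7 (by rw [h.card]; norm_num)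
  have h1 := cnt_mul_prime (q := 2) (h.card ▸ by norm_num) (h.card ▸ by norm_num) (by norm_num) hx
  rw [h.cnt_seven, show 7 * 2 = 14 from rfl] at h1
  have := h.other (n := 14) (by decide)
  omega

theorem cnt_ten (h : Hyp G) : cnt G 10 = 0 := by
  have : Fact (Nat.Prime 5) := ⟨by norm_num⟩
  obtain ⟨x, hx⟩ := exists_prime_orderOf_dvd_card' (G := G) 5 (by rw [h.card]; norm_num)
  have h1 := cnt_mul_prime (q := 2) (h.card ▸ by norm_num) (h.card ▸ by norm_num) (by norm_num) hx
  rw [h.cnt_five, show 5 * 2 = 10 from rfl] at h1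
  have := h.other (n := 10) (by decide)
  omega

theorem cent_five (h : Hyp G) {x : G} (hx : orderOf x = 5) :
    Nat.card (centralizer ({x} : Set G)) = 15 := by
  have : Fact (Nat.Prime 5) := ⟨by norm_num⟩
  have : Fact (Nat.Prime 2) := ⟨by norm_num⟩
  have hd := card_cent_dvd_norm x
  rw [norm_five h hx] at hd
  have h5 := dvd_cent_self x
  rw [hx] at h5
  have h2 : ¬ 2 ∣ Nat.card (centralizer ({x} : Set G)) := fun h2 => by
    have h1 := cnt_mul_prime (q := 2) (h.card ▸ by norm_num) (h.card ▸ by norm_num) (by norm_num) hx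
    rw [h.cnt_five, show 5 * 2 = 10 from rfl, cnt_ten h] at h1
    have := ncom_ge h2
    omega
  have hcases : ∀ m ∈ Nat.divisors 60, 5 ∣ m → 3 ∣ m → ¬ 2 ∣ m → m = 15 := by decide +kernel
  exact hcases _ (Nat.mem_divisors.2 ⟨hd, by norm_num⟩) h5 (three_dvd_cent_five h hx) h2

theorem cent_seven (h : Hyp G) {x : G} (hx : orderOf x = 7) :
    Nat.card (centralizer ({x} : Set G)) = 14 := by
  have : Fact (Nat.Prime 7) := ⟨by norm_num⟩
  have h7 := dvd_cent_self x
  rw [hx] at h7
  have h1 := cnt_mul_prime (q := 2) (h.card ▸ by norm_num) (h.card ▸ by norm_num) (by norm_num) hx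
  rw [h.cnt_seven, show 7 * 2 = 14 from rfl, cnt_fourteen h] at h1
  have : 0 < ncom x 2 := by omega
  obtain ⟨⟨y, hy, hc⟩⟩ := (Nat.card_ne_zero.1 this.ne').1
  have h2 : 2 ∣ Nat.card (centralizer ({x} : Set G)) :=
    hy ▸ Subgroup.orderOf_dvd_natCard _ (mem_centralizer_singleton_iff.2 hc.symm.eq)
  have hcases : ∀ m ∈ Nat.divisors 14, 7 ∣ m → 2 ∣ m → m = 14 := by decide +kernel
  exact hcases _ (Nat.mem_divisors.2 ⟨cent_seven_dvd h hx, by norm_num⟩) h7 h2

/-- An element of prime order 5, 7, 11 or 23 in a centraliser. -/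
theorem cnt_dvd (h : Hyp G) {n : ℕ} (hn : cnt G n ≠ 0) :
    n = 5 ∨ n = 7 ∨ n = 11 ∨ n = 14 ∨ n = 15 ∨ n = 23 ∨ n ∣ 1152 := by
  obtain ⟨⟨g, rfl⟩⟩ := (Nat.card_ne_zero.1 hn).1
  have hd : orderOf g ∣ 10200960 := h.card ▸ orderOf_dvd_natCard g
  have key : ∀ p : ℕ, p ∣ orderOf g →
      ∃ x : G, orderOf x = p ∧ orderOf g ∣ Nat.card (centralizer ({x} : Set G)) := fun p hp =>
    ⟨g ^ (orderOf g / p), orderOf_pow_orderOf_div (orderOf_pos g).ne' hp,
      Subgroup.orderOf_dvd_natCard _ (mem_centralizer_singleton_iff.2 (Commute.self_pow g _).eq)⟩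
  by_cases p5 : 5 ∣ orderOf g
  · obtain ⟨x, hx, hc⟩ := key 5 p5
    rw [cent_five h hx] at hc
    have : ∀ m ∈ Nat.divisors 15, 5 ∣ m → m = 5 ∨ m = 15 := by decide +kernel
    rcases this _ (Nat.mem_divisors.2 ⟨hc, by norm_num⟩) p5 with e | e <;> simp [e]
  by_cases p7 : 7 ∣ orderOf g
  · obtain ⟨x, hx, hc⟩ := key 7 p7
    rw [cent_seven h hx] at hc
    have : ∀ m ∈ Nat.divisors 14, 7 ∣ m → m = 7 ∨ m = 14 := by decide +kernel
    rcases this _ (Nat.mem_divisors.2 ⟨hc, by norm_num⟩) p7 with e | e <;> simp [e]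
  by_cases p11 : 11 ∣ orderOf g
  · obtain ⟨x, hx, hc⟩ := key 11 p11
    rw [cent_eleven h hx] at hc
    simp [Nat.dvd_antisymm hc p11]
  by_cases p23 : 23 ∣ orderOf g
  · obtain ⟨x, hx, hc⟩ := key 23 p23
    rw [cent_twentythree h hx] at hc
    simp [Nat.dvd_antisymm hc p23]
  have hco : (orderOf g).Coprime (5 * 7 * 11 * 23) := by
    have P : ∀ {p : ℕ}, p.Prime → ¬ p ∣ orderOf g → (orderOf g).Coprime p := fun hp hn =>
      (hp.coprime_iff_not_dvd.2 hn).symm
    exact (((P (by norm_num) p5).mul_right (P (by norm_num) p7)).mul_right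
      (P (by norm_num) p11)).mul_right (P (by norm_num) p23)
  right; right; right; right; right; right
  exact hco.dvd_of_dvd_mul_right (show orderOf g ∣ 1152 * (5 * 7 * 11 * 23) from hd)

/-- The orders occurring and the count of elements of order six. -/
theorem table (h : Hyp G) : cnt G 6 = 850080 ∧ cnt G 4 ≠ 0 ∧ cnt G 8 ≠ 0 ∧
    ∀ n, cnt G n ≠ 0 → n ∈ ([1, 2, 3, 4, 5, 6, 7, 8, 11, 14, 15, 23] : List ℕ) := by
  classical
  have h14 : cnt G 14 ≠ 0 := by rw [cnt_fourteen h]; norm_num
  have o : ∀ n, n ∉ known → n ≠ 14 → cnt G n = 0 ∨ cnt G n = 318780 ∨ cnt G n = 850080 ∨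
      cnt G n = 1275120 := by
    intro n hn hne
    rcases h.other hn with e | e | e | e | e
    iterate 4 simp [e]
    exact absurd (h.inj hn (by decide) (by omega) (e.trans (cnt_fourteen h).symm)) hne
  have five : ∀ {p q r s : ℕ}, p ∉ known → q ∉ known → r ∉ known → s ∉ known →
      ({14, p, q, r, s} : Finset ℕ).card = 5 → cnt G p ≠ 0 → cnt G q ≠ 0 → cnt G r ≠ 0 →
        cnt G s = 0 := by
    intro p q r s kp kq kr ks hc np nq nr
    by_contra ns
    have := h.not_five (S := {14, p, q, r, s}) (fun n hn => by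
        simp only [Finset.mem_insert, Finset.mem_singleton] at hn
        rcases hn with rfl | rfl | rfl | rfl | rfl <;> first | assumption | decide)
      (fun n hn => by
        simp only [Finset.mem_insert, Finset.mem_singleton] at hn
        rcases hn with rfl | rfl | rfl | rfl | rfl <;> assumption)
    omega
  have c128 : 128 ∣ 3796 + cnt G 4 + cnt G 8 + cnt G 16 + cnt G 32 + cnt G 64 + cnt G 128 := by
    have := dvd_sum_cnt (G := G) (n := 128) (by rw [h.card]; norm_num)
    rw [show (128 : ℕ).divisors = {1, 2, 4, 8, 16, 32, 64, 128} by decide +kernel] at this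
    simp only [Finset.sum_insert, Finset.sum_singleton, Finset.mem_insert, Finset.mem_singleton,
      Nat.reduceEqDiff, or_self, not_false_eq_true, cnt_one, h.cnt_two] at this
    omega
  have c9 : 9 ∣ 56673 + cnt G 9 := by
    have := dvd_sum_cnt (G := G) (n := 9) (by rw [h.card]; norm_num)
    rw [show (9 : ℕ).divisors = {1, 3, 9} by decide] at this
    simp only [Finset.sum_insert, Finset.sum_singleton, Finset.mem_insert, Finset.mem_singleton,
      Nat.reduceEqDiff, or_self, not_false_eq_true, cnt_one, h.cnt_three] at this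
    omega
  have c18 : 18 ∣ 60468 + cnt G 6 + cnt G 9 + cnt G 18 := by
    have := dvd_sum_cnt (G := G) (n := 18) (by rw [h.card]; norm_num)
    rw [show (18 : ℕ).divisors = {1, 2, 3, 6, 9, 18} by decide] at this
    simp only [Finset.sum_insert, Finset.sum_singleton, Finset.mem_insert, Finset.mem_singleton,
      Nat.reduceEqDiff, or_self, not_false_eq_true, cnt_one, h.cnt_two, h.cnt_three] at this
    omega
  have h32 : cnt G 32 = 0 := by
    by_contra e
    exact e (five (p := 4) (q := 8) (r := 16) (s := 32) (by decide) (by decide) (by decide)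
      (by decide) (by decide) (ne_zero_of_dvd (by norm_num) e) (ne_zero_of_dvd (by norm_num) e)
      (ne_zero_of_dvd (by norm_num) e))
  have h64 : cnt G 64 = 0 := cnt_zero_of_dvd (m := 32) (by norm_num) h32
  have h128 : cnt G 128 = 0 := cnt_zero_of_dvd (m := 32) (by norm_num) h32
  have h4 : cnt G 4 ≠ 0 := fun e => by
    have := cnt_zero_of_dvd (show 4 ∣ 8 by norm_num) e
    have := cnt_zero_of_dvd (show 4 ∣ 16 by norm_num) e
    omega
  have o4 := o 4 (by decide) (by norm_num)
  have h8 : cnt G 8 ≠ 0 := fun e => by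
    have := cnt_zero_of_dvd (show 8 ∣ 16 by norm_num) e
    omega
  have o8 := o 8 (by decide) (by norm_num)
  have d48 : cnt G 4 ≠ cnt G 8 := fun e => absurd (h.inj (n := 4) (m := 8) (by decide) (by decide) h4 e)
    (by norm_num)
  have h6 : cnt G 6 ≠ 0 := fun e6 => by
    have e18 := cnt_zero_of_dvd (show 6 ∣ 18 by norm_num) e6
    have h9 : cnt G 9 ≠ 0 := fun e9 => by omega
    have h16 := five (p := 4) (q := 8) (r := 9) (s := 16) (by decide) (by decide) (by decide)
      (by decide) (by decide) h4 h8 h9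
    have o9 := o 9 (by decide) (by norm_num)
    have : cnt G 9 ≠ cnt G 4 := fun e => absurd (h.inj (n := 9) (m := 4) (by decide) (by decide) h9 e)
      (by norm_num)
    have : cnt G 9 ≠ cnt G 8 := fun e => absurd (h.inj (n := 9) (m := 8) (by decide) (by decide) h9 e)
      (by norm_num)
    omega
  have o6 := o 6 (by decide) (by norm_num)
  have h9 : cnt G 9 = 0 := five (p := 4) (q := 6) (r := 8) (s := 9) (by decide) (by decide)
    (by decide) (by decide) (by decide) h4 h6 h8
  have h18 : cnt G 18 = 0 := cnt_zero_of_dvd (m := 9) (by norm_num) h9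
  refine ⟨by omega, h4, h8, fun n hn => ?_⟩
  by_contra hnl
  simp only [List.mem_cons, List.not_mem_nil, or_false, not_or] at hnl
  exact hn (five (p := 4) (q := 6) (r := 8) (s := n) (by decide) (by decide) (by decide)
    (by simp [known, hnl]) (by simp [Finset.card_insert_of_notMem, eq_comm, hnl]) h4 h6 h8)

theorem Hyp.no_order (h : Hyp G) {g : G} {n : ℕ}
    (hn : n ∉ ([1, 2, 3, 4, 5, 6, 7, 8, 11, 14, 15, 23] : List ℕ)) : orderOf g ≠ n := fun e =>
  hn ((table h).2.2.2 n (Nat.card_ne_zero.2 ⟨⟨⟨g, e⟩⟩, inferInstance⟩))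

end CfsgLib.ClassK.M23Nse
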