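import Cfsg.Agent.Lib.ClassK.M23Nse.Table

/-!
The centralisers of the elements of order three and of the involutions; one class of each.
-/

set_option autoImplicit false
set_option linter.unusedSectionVars false

namespace CfsgLib.ClassK.M23Nse

open Subgroup CfsgLib.StructB.OrderCount

universe u

variable {G : Type u} [Group G] [Finite G]

theorem order_mul {x y : G} (hc : Commute x y) (hco : (orderOf x).Coprime (orderOf y)) {p q : ℕ}
    (hx : orderOf x = p) (hy : orderOf y = q) : orderOf (x * y) = p * q := by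
  rw [hc.orderOf_mul_eq_mul_orderOf_of_coprime hco, hx, hy]

/-- A 2-element centralising an element of order three squares to one. -/
theorem sq_of_cent_three (h : Hyp G) {x y : G} (hx : orderOf x = 3) (hc : Commute x y) {k : ℕ}
    (hy : orderOf y ∣ 2 ^ k) : y * y = 1 := by
  by_contra hne
  obtain ⟨j, -, hj⟩ := (Nat.dvd_prime_pow Nat.prime_two).1 hy
  have hy1 : ∀ m, m ≤ 1 → j ≠ m := fun m hm e => hne (by
    rw [← pow_two]
    exact orderOf_dvd_iff_pow_eq_one.1 (hj ▸ e ▸ (pow_dvd_pow 2 hm)))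
  obtain ⟨i, rfl⟩ : ∃ i, j = i + 2 := ⟨j - 2, by have := hy1 0 (by omega); have := hy1 1 le_rfl; omega⟩
  have h4 : orderOf (y ^ 2 ^ i) = 4 := by
    rw [orderOf_pow' _ (pow_ne_zero _ (by norm_num)), hj,
      Nat.gcd_eq_right (pow_dvd_pow 2 (by omega)), Nat.pow_div (by omega) (by norm_num),
      show i + 2 - i = 2 by omega]
  exact h.no_order (n := 3 * 4) (by decide)
    (order_mul (hc.pow_right (2 ^ i)) (by rw [hx, h4]; decide) hx h4)

theorem exists_subgroup_two_pow {k : ℕ} {K : Subgroup G} (hd : 2 ^ k ∣ Nat.card K) :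
    ∃ H : Subgroup G, H ≤ K ∧ Nat.card H = 2 ^ k := by
  have : Fact (Nat.Prime 2) := ⟨Nat.prime_two⟩
  obtain ⟨H, hH⟩ := Sylow.exists_subgroup_card_pow_prime 2 hd
  exact ⟨H.map K.subtype, map_subtype_le _,
    (card_map_of_injective K.subtype_injective).trans hH⟩

theorem not_sixty_four (h : Hyp G) {x : G} (hx : orderOf x = 3) :
    ¬ 64 ∣ Nat.card (centralizer ({x} : Set G)) := by
  intro hd
  have : Fact (Nat.Prime 2) := ⟨Nat.prime_two⟩
  obtain ⟨H, hHC, hH⟩ := exists_subgroup_two_pow (k := 6) (by norm_num; exact hd)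
  have hsq : ∀ a ∈ H, a * a = 1 := fun a ha => sq_of_cent_three h hx
    (mem_centralizer_singleton_iff.1 (hHC ha)).symm (hH ▸ Subgroup.orderOf_dvd_natCard _ ha)
  obtain ⟨S, hS⟩ := (IsPGroup.of_card (G := H) (p := 2) (n := 6) hH).exists_le_sylow
  obtain ⟨⟨g, hg⟩⟩ := (Nat.card_ne_zero.1 (table h).2.2.1).1
  obtain ⟨T, hT⟩ := (IsPGroup.of_card (G := zpowers g) (p := 2) (n := 3)
    (by rw [Nat.card_zpowers, hg]; norm_num)).exists_le_sylow
  obtain ⟨c, rfl⟩ := MulAction.exists_smul_eq G S T
  obtain ⟨b, hb, hbg⟩ : g ∈ ((c • S : Sylow 2 G) : Subgroup G) := hT (mem_zpowers g)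
  have hob : orderOf b = 8 := by
    rw [← hg, ← hbg]; exact (CfsgLib.Invol.orderOf_conj_eq c b).symm
  have hS7 : Nat.card (S : Subgroup G) = 2 ^ 7 := by
    rw [Sylow.card_eq_multiplicity, h.card, show (10200960 : ℕ).factorization 2 = 7 by
      rw [Nat.factorization_def _ Nat.prime_two, show (10200960 : ℕ) = 2 ^ 7 * 79695 by norm_num,
        padicValNat.mul (by norm_num) (by norm_num), padicValNat.prime_pow,
        padicValNat.eq_zero_of_not_dvd (by norm_num)]]
  have hi : (H.subgroupOf (S : Subgroup G)).index = 2 := by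
    have := (H.subgroupOf (S : Subgroup G)).card_mul_index
    rw [Nat.card_congr (subgroupOfEquivOfLe hS).toEquiv, hH, hS7] at this
    omega
  have h2 : b ^ 2 ∈ H := by
    have := Subgroup.sq_mem_of_index_two hi (⟨b, hb⟩ : (S : Subgroup G))
    exact this
  have h4 : b ^ 4 = 1 := by
    rw [show 4 = 2 + 2 from rfl, pow_add]; exact hsq _ h2
  have := orderOf_dvd_of_pow_eq_one h4
  rw [hob] at this
  norm_num at this

theorem commute_cent_five {h : Hyp G} {x y z : G} (hx : orderOf x = 3) (hy : orderOf y = 5)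
    (hc : Commute x y) (hz : z ∈ centralizer ({y} : Set G)) : Commute x z := by
  have h15 : orderOf (x * y) = 15 := order_mul hc (by rw [hx, hy]; decide) hx hy
  have heq : centralizer ({y} : Set G) = zpowers (x * y) :=
    (eq_of_le_of_card_ge (zpowers_le.2 (mem_centralizer_singleton_iff.2
      ((hc.mul_left (Commute.refl y)).eq)))
      (by rw [cent_five h hy, Nat.card_zpowers, h15])).symm
  rw [heq] at hz
  obtain ⟨k, rfl⟩ := mem_zpowers_iff.1 hz
  exact ((Commute.refl x).mul_right hc).zpow_right k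

theorem ncom_five_eq (x : G) : ncom x 5 =
    Nat.card {g : centralizer ({x} : Set G) // orderOf g = 5} := by
  refine Nat.card_congr
    { toFun := fun g => ⟨⟨g.1, mem_centralizer_singleton_iff.2 g.2.2.symm.eq⟩,
        by rw [Subgroup.orderOf_mk]; exact g.2.1⟩
      invFun := fun g => ⟨g.1.1, by rw [Subgroup.orderOf_coe]; exact g.2,
        (mem_centralizer_singleton_iff.1 g.1.2).symm⟩
      left_inv := fun g => rfl
      right_inv := fun g => rfl }

theorem cent_three_dvd (h : Hyp G) {x : G} (hx : orderOf x = 3) :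
    Nat.card (centralizer ({x} : Set G)) ∣ 5760 := by
  have hd := (centralizer ({x} : Set G)).card_subgroup_dvd_card
  rw [h.card] at hd
  have hno : ∀ p : ℕ, p.Prime → p = 7 ∨ p = 11 ∨ p = 23 →
      (Nat.card (centralizer ({x} : Set G))).Coprime p := by
    intro p hp hp'
    refine ((Nat.Prime.coprime_iff_not_dvd hp).2 fun hdp => ?_).symm
    have : Fact p.Prime := ⟨hp⟩
    obtain ⟨⟨y, hy⟩, hyo⟩ := exists_prime_orderOf_dvd_card' (G := centralizer ({x} : Set G)) p hdp
    rw [Subgroup.orderOf_mk] at hyo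
    have hne : 3 ≠ p := by rcases hp' with rfl | rfl | rfl <;> norm_num
    refine h.no_order (n := 3 * p) ?_ (order_mul (mem_centralizer_singleton_iff.1 hy).symm
      (by rw [hx, hyo]; exact (Nat.coprime_primes Nat.prime_three hp).2 hne) hx hyo)
    rcases hp' with rfl | rfl | rfl <;> decide
  exact (((hno 7 (by norm_num) (by simp)).mul_right (hno 11 (by norm_num) (by simp))).mul_right
    (hno 23 (by norm_num) (by simp))).dvd_of_dvd_mul_right
    (show _ ∣ 5760 * (7 * 11 * 23) by norm_num; exact hd)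

theorem nine_dvd_cent_three (h : Hyp G) {x : G} (hx : orderOf x = 3) :
    9 ∣ Nat.card (centralizer ({x} : Set G)) := by
  have : Fact (Nat.Prime 3) := ⟨Nat.prime_three⟩
  obtain ⟨P, hP⟩ := (IsPGroup.of_card (G := zpowers x) (p := 3) (n := 1)
    (by rw [Nat.card_zpowers, hx, pow_one])).exists_le_sylow
  have hPc : Nat.card (P : Subgroup G) = 3 ^ 2 := by
    rw [P.card_eq_multiplicity, h.card, show (10200960 : ℕ).factorization 3 = 2 by
      rw [Nat.factorization_def _ Nat.prime_three, show (10200960 : ℕ) = 3 ^ 2 * 1133440 by norm_num,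
        padicValNat.mul (by norm_num) (by norm_num), padicValNat.prime_pow,
        padicValNat.eq_zero_of_not_dvd (by norm_num)]]
  have hle : (P : Subgroup G) ≤ centralizer ({x} : Set G) := fun c hc =>
    mem_centralizer_singleton_iff.2 (congrArg Subtype.val
      (IsPGroup.commutative_of_card_eq_prime_sq hPc (⟨c, hc⟩ : P) ⟨x, hP (mem_zpowers x)⟩))
  have := card_dvd_of_le hle
  rw [hPc] at this
  exact this

theorem size_mul (h : Hyp G) (g : G) :
    (M12Nse.cl g).ncard * Nat.card (centralizer ({g} : Set G)) = 10200960 := by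
  rw [← h.card]; exact M12Nse.ncard_cl_mul g

theorem ncard_cl_le {n : ℕ} {g : G} (hg : orderOf g = n) : (M12Nse.cl g).ncard ≤ cnt G n := by
  rw [← Nat.card_coe_set_eq]
  exact Nat.card_le_card_of_injective (fun t => ⟨t.1, (M12Nse.orderOf_mem_cl t.2).trans hg⟩)
    fun a b e => Subtype.ext (congrArg (fun z : {x : G // orderOf x = n} => (z : G)) e)

theorem isConj_of_ncard {n : ℕ} {g : G} (hg : orderOf g = n) (hc : cnt G n ≤ (M12Nse.cl g).ncard)
    {s : G} (hs : orderOf s = n) : IsConj g s := by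
  have hsub : M12Nse.cl g ⊆ {x | orderOf x = n} := fun t ht => (M12Nse.orderOf_mem_cl ht).trans hg
  have heq := Set.eq_of_subset_of_ncard_le hsub (by rw [← Nat.card_coe_set_eq {x | orderOf x = n}]; exact hc)
    (Set.toFinite _)
  exact (show s ∈ M12Nse.cl g from heq ▸ hs)

/-- An element of order three commuting with one of order five has centraliser of order 180. -/
theorem cent_three_of_five (h : Hyp G) {x : G} (hx : orderOf x = 3)
    (h5 : 5 ∣ Nat.card (centralizer ({x} : Set G))) :
    Nat.card (centralizer ({x} : Set G)) = 180 := by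
  classical
  have : Fact (Nat.Prime 5) := ⟨by norm_num⟩
  have : Fact (Nat.Prime 2) := ⟨Nat.prime_two⟩
  set C := centralizer ({x} : Set G) with hC
  have hd := cent_three_dvd h hx
  obtain ⟨P⟩ : Nonempty (Sylow 5 C) := inferInstance
  have hPc : Nat.card (P : Subgroup C) = 5 := CfsgLib.Transfer.card_sylow_eq_prime P h5 fun h25 => by
    have := h25.trans hd
    norm_num at this
  obtain ⟨⟨⟨y, hyC⟩, hyP⟩, hy⟩ := exists_prime_orderOf_dvd_card' (G := (P : Subgroup C)) 5 hPc.symm.dvd
  rw [Subgroup.orderOf_mk, Subgroup.orderOf_mk] at hy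
  have hPy : (P : Subgroup C).map C.subtype = zpowers y :=
    (eq_of_le_of_card_ge (zpowers_le.2
      (show y ∈ (P : Subgroup C).map C.subtype from Subgroup.mem_map_of_mem C.subtype hyP))
      (by rw [card_map_of_injective C.subtype_injective, hPc, Nat.card_zpowers, hy])).symm
  have hxy : Commute x y := (mem_centralizer_singleton_iff.1 hyC).symm
  set NP := normalizer ((P : Subgroup C) : Set C) with hNP
  have hmem : ∀ z : C, z ∈ NP ↔ (z : G) ∈ normalizer (zpowers y : Set G) := by
    intro z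
    constructor
    · intro hz
      refine mem_normalizer_fintype fun s hs => ?_
      have hs' : s ∈ (P : Subgroup C).map C.subtype := hPy ▸ hs
      obtain ⟨p, hp, rfl⟩ := hs'
      show _ ∈ zpowers y
      rw [← hPy]
      exact ⟨z * p * z⁻¹, (mem_normalizer_iff.1 hz p).1 hp, rfl⟩
    · intro hz
      refine mem_normalizer_fintype fun p hp => ?_
      have h1 : ((z : G) * p * (z : G)⁻¹) ∈ zpowers y := (mem_normalizer_iff.1 hz p).1
        (show (p : G) ∈ zpowers y from hPy ▸ ⟨p, hp, rfl⟩)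
      rw [← hPy] at h1
      obtain ⟨q, hq, hqe⟩ := h1
      exact (show q = z * p * z⁻¹ from Subtype.ext hqe) ▸ hq
  set M := NP.map C.subtype with hM
  have hMN : M ≤ normalizer (zpowers y : Set G) := by
    rintro _ ⟨z, hz, rfl⟩; exact (hmem z).1 hz
  have hCM : centralizer ({y} : Set G) ≤ M := fun z hz =>
    ⟨⟨z, mem_centralizer_singleton_iff.2 (commute_cent_five (h := h) hx hy hxy hz).symm.eq⟩,
      (hmem _).2 (M12Nse.centralizer_le_normalizer_zpowers y hz), rfl⟩
  have hMc : Nat.card M = Nat.card NP := card_map_of_injective C.subtype_injective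
  have h15 : 15 ∣ Nat.card NP := hMc ▸ cent_five h hy ▸ card_dvd_of_le hCM
  have h60 : Nat.card NP ∣ 60 := hMc ▸ norm_five h hy ▸ card_dvd_of_le hMN
  have hn60 : Nat.card NP ≠ 60 := fun e => by
    obtain ⟨T, hTM, hT⟩ := exists_subgroup_two_pow (k := 2) (K := M) (by rw [hMc, e]; norm_num)
    have hinv : ∀ a ∈ T, a ≠ 1 → a * y * a⁻¹ = y⁻¹ := by
      intro a ha ha1
      obtain ⟨za, -, hza⟩ := hTM ha
      have haC : Commute x a := (mem_centralizer_singleton_iff.1 (hza ▸ za.2)).symm
      have ha2 := sq_of_cent_three h hx haC (hT ▸ Subgroup.orderOf_dvd_natCard _ ha)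
      obtain ⟨k, hk⟩ := mem_zpowers_iff.1 ((mem_normalizer_iff.1 (hMN (hTM ha)) y).1 (mem_zpowers y))
      have ha' : a⁻¹ = a := inv_eq_of_mul_eq_one_right ha2
      have hkk : y ^ (k * k - 1) = 1 := by
        rw [zpow_sub, zpow_one, mul_inv_eq_one, zpow_mul, hk, conj_zpow, hk]
        calc a * (a * y * a⁻¹) * a⁻¹ = (a * a) * y * (a * a)⁻¹ := by group
          _ = y := by rw [ha2]; group
      have hdiv := orderOf_dvd_iff_zpow_eq_one.2 hkk
      rw [hy, show k * k - 1 = (k - 1) * (k + 1) by ring] at hdiv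
      have h5i : Prime ((5 : ℕ) : ℤ) := Nat.prime_iff_prime_int.1 (by norm_num)
      rcases h5i.dvd_or_dvd hdiv with hk1 | hk1
      · exfalso
        have : y ^ k = y := by
          have e1 : y ^ (k - 1) = 1 := orderOf_dvd_iff_zpow_eq_one.1 (by rw [hy]; exact hk1)
          rwa [zpow_sub, zpow_one, mul_inv_eq_one] at e1
        rw [this] at hk
        have hc : a ∈ centralizer ({y} : Set G) :=
          mem_centralizer_singleton_iff.2 (eq_mul_inv_iff_mul_eq.1 hk).symm
        have h2a : orderOf a = 2 := orderOf_eq_prime (by rw [pow_two]; exact ha2) ha1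
        have := Subgroup.orderOf_dvd_natCard _ hc
        rw [h2a, cent_five h hy] at this
        norm_num at this
      · rw [← hk]
        have e1 : y ^ (k + 1) = 1 := orderOf_dvd_iff_zpow_eq_one.1 (by rw [hy]; exact hk1)
        rw [zpow_add, zpow_one] at e1
        exact eq_inv_of_mul_eq_one_left e1
    obtain ⟨a, b, ha, hb, hab⟩ : ∃ a b : T, a ≠ 1 ∧ b ≠ 1 ∧ a ≠ b := by
      have : Fintype T := Fintype.ofFinite T
      have hcard : ((Finset.univ : Finset T).erase 1).card = 3 := by
        rw [Finset.card_erase_of_mem (Finset.mem_univ _), Finset.card_univ, ← Nat.card_eq_fintype_card,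
          hT]
        norm_num
      obtain ⟨a, b, c, hab, -, -, habc⟩ := Finset.card_eq_three.1 hcard
      have ha : a ∈ (Finset.univ : Finset T).erase 1 := by rw [habc]; simp
      have hb : b ∈ (Finset.univ : Finset T).erase 1 := by rw [habc]; simp
      exact ⟨a, b, (Finset.mem_erase.1 ha).1, (Finset.mem_erase.1 hb).1, hab⟩
    have ea := hinv a a.2 (fun e' => ha (Subtype.ext e'))
    have eb := hinv b b.2 (fun e' => hb (Subtype.ext e'))
    have hne : (b : G)⁻¹ * a ≠ 1 := fun e' => hab (Subtype.ext (inv_mul_eq_one.1 e').symm)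
    have hc : (b : G)⁻¹ * a ∈ centralizer ({y} : Set G) := by
      refine mem_centralizer_singleton_iff.2 (mul_inv_eq_iff_eq_mul.1 ?_)
      rw [mul_inv_rev, inv_inv, show (b : G)⁻¹ * a * y * ((a : G)⁻¹ * b) =
        (b : G)⁻¹ * ((a : G) * y * (a : G)⁻¹) * b by group, ea, ← eb]
      group
    have hd4 : orderOf ((b : G)⁻¹ * a) ∣ 4 := by
      have := Subgroup.orderOf_dvd_natCard T (show (b : G)⁻¹ * a ∈ T from
        mul_mem (inv_mem b.2) a.2)
      rwa [hT] at this
    have hd15 := Subgroup.orderOf_dvd_natCard _ hc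
    rw [cent_five h hy] at hd15
    exact hne (orderOf_eq_one_iff.1 (Nat.eq_one_of_dvd_coprimes (by decide : Nat.Coprime 4 15) hd4 hd15))
  have hn5 : Nat.card (Sylow 5 C) * Nat.card NP = Nat.card C := by
    rw [P.card_eq_index_normalizer]; exact index_mul_card NP
  have hmod : Nat.card (Sylow 5 C) % 5 = 1 := card_sylow_modEq_one 5 C
  have hge : 180 ≤ Nat.card C := by
    by_contra hlt
    have h1 := size_mul h x
    rw [← hC] at h1
    have h2 := ncard_cl_le hx
    rw [h.cnt_three] at h2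
    have := Nat.mul_le_mul h2 (show Nat.card C ≤ 179 by omega)
    omega
  have h64 := not_sixty_four h hx
  have hfind : ∀ c ∈ Nat.divisors 5760, ∀ m ∈ Nat.divisors 60, 15 ∣ m → m ≠ 60 → m ∣ c →
      (c / m) % 5 = 1 → 9 ∣ c → 180 ≤ c → ¬ 64 ∣ c → c = 180 ∧ m = 30 ∨ c = 1440 ∧ m = 15 := by
    decide +kernel
  have hdiv : Nat.card C / Nat.card NP = Nat.card (Sylow 5 C) :=
    Nat.div_eq_of_eq_mul_left Nat.card_pos hn5.symm
  rcases hfind _ (Nat.mem_divisors.2 ⟨hd, by norm_num⟩) _ (Nat.mem_divisors.2 ⟨h60, by norm_num⟩) h15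
    hn60 ⟨_, by rw [mul_comm]; exact hn5.symm⟩ (hdiv ▸ hmod) (nine_dvd_cent_three h hx) hge h64
    with ⟨e, -⟩ | ⟨e, e15⟩
  · exact e
  exfalso
  -- a class with too many commuting elements of order five
  have hf : ncom x 5 = 384 := by
    rw [ncom_five_eq, CfsgLib.Transfer.card_orderOf_eq_prime P hPc, ← hdiv, e, e15]
  have hcl : (M12Nse.cl x).ncard = 7084 := by
    have := size_mul h x
    rw [← hC, e] at this
    omega
  have hsum := cnt_mul (G := G) (p := 3) (q := 5) (by norm_num)
  rw [show 3 * 5 = 15 from rfl, cnt_fifteen h] at hsum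
  have hle : Nat.card (Σ z : M12Nse.cl x, {w : G // orderOf w = 5 ∧ Commute (z : G) w}) ≤
      Nat.card (Σ z : {g : G // orderOf g = 3}, {w : G // orderOf w = 5 ∧ Commute (z : G) w}) :=
    Nat.card_le_card_of_injective
      (fun a => ⟨⟨a.1.1, (M12Nse.orderOf_mem_cl a.1.2).trans hx⟩, ⟨a.2.1, a.2.2⟩⟩) (by
        rintro ⟨⟨z, hz⟩, w⟩ ⟨⟨z', hz'⟩, w'⟩ e'
        simp only [Sigma.mk.injEq, Subtype.mk.injEq] at e'
        obtain ⟨rfl, e''⟩ := e'
        rw [heq_eq_eq] at e''
        simp only [Sigma.mk.injEq, heq_eq_eq, true_and]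
        exact Subtype.ext (congrArg Subtype.val e''))
  have : Fintype (M12Nse.cl x) := Fintype.ofFinite _
  rw [Nat.card_sigma, Finset.sum_congr rfl (g := fun _ => 384) fun z _ => ?_, Finset.sum_const,
    Finset.card_univ, ← Nat.card_eq_fintype_card, Nat.card_coe_set_eq, hcl, smul_eq_mul, ← hsum] at hle
  · norm_num at hle
  · obtain ⟨c, hc⟩ := isConj_iff.1 (show IsConj x (z : G) from z.2)
    rw [← hf, ← ncom_conj c x, hc]
    rfl

theorem exists_three_five (h : Hyp G) :
    ∃ x : G, orderOf x = 3 ∧ 5 ∣ Nat.card (centralizer ({x} : Set G)) := by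
  have : Fact (Nat.Prime 5) := ⟨by norm_num⟩
  have : Fact (Nat.Prime 3) := ⟨by norm_num⟩
  obtain ⟨y, hy⟩ := exists_prime_orderOf_dvd_card' (G := G) 5 (by rw [h.card]; norm_num)
  obtain ⟨⟨x, hxy⟩, hx⟩ := exists_prime_orderOf_dvd_card' (G := centralizer ({y} : Set G)) 3
    (three_dvd_cent_five h hy)
  rw [Subgroup.orderOf_mk] at hx
  exact ⟨x, hx, hy ▸ Subgroup.orderOf_dvd_natCard _
    (mem_centralizer_singleton_iff.2 (mem_centralizer_singleton_iff.1 hxy).symm)⟩

theorem isConj_three (h : Hyp G) {x y : G} (hx : orderOf x = 3) (hy : orderOf y = 3) : IsConj x y := by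
  obtain ⟨x0, h0, h5⟩ := exists_three_five h
  have hsz := size_mul h x0
  rw [cent_three_of_five h h0 h5] at hsz
  have hle : cnt G 3 ≤ (M12Nse.cl x0).ncard := by rw [h.cnt_three]; omega
  exact (isConj_of_ncard h0 hle hx).symm.trans (isConj_of_ncard h0 hle hy)

theorem cent_three (h : Hyp G) {x : G} (hx : orderOf x = 3) :
    Nat.card (centralizer ({x} : Set G)) = 180 := by
  obtain ⟨x0, h0, h5⟩ := exists_three_five h
  obtain ⟨c, hc⟩ := isConj_iff.1 (isConj_three h h0 hx)
  have h1 := size_mul h x0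
  have h2 := size_mul h x
  rw [cent_three_of_five h h0 h5] at h1
  have heq : M12Nse.cl x = M12Nse.cl x0 := Set.ext fun s =>
    ⟨fun hs => (isConj_three h h0 hx).trans hs, fun hs => (isConj_three h h0 hx).symm.trans hs⟩
  rw [heq] at h2
  have : (M12Nse.cl x0).ncard = 56672 := by omega
  rw [this] at h2
  omega

theorem ncom_three_two (h : Hyp G) {x : G} (hx : orderOf x = 3) : ncom x 2 = 15 := by
  classical
  have := Fintype.ofFinite {g : G // orderOf g = 3}
  have hs := cnt_mul_sum (G := G) (p := 3) (q := 2) (by norm_num)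
  rw [show 3 * 2 = 6 from rfl, (table h).1,
    Finset.sum_congr rfl (g := fun _ => ncom x 2) fun z _ => ?_, Finset.sum_const, Finset.card_univ,
    ← Nat.card_eq_fintype_card, smul_eq_mul,
    show Nat.card {g : G // orderOf g = 3} = 56672 from h.cnt_three] at hs
  · omega
  · obtain ⟨c, hc⟩ := isConj_iff.1 (isConj_three h hx z.2)
    rw [← hc, ncom_conj]

theorem ncom_seven_two (h : Hyp G) {y : G} (hy : orderOf y = 7) : ncom y 2 = 1 := by
  have : Fact (Nat.Prime 7) := ⟨by norm_num⟩
  have h1 := cnt_mul_prime (q := 2) (h.card ▸ by norm_num) (h.card ▸ by norm_num) (by norm_num) hy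
  rw [h.cnt_seven, show 7 * 2 = 14 from rfl, cnt_fourteen h] at h1
  omega

theorem cent_two_of_seven (h : Hyp G) {t y : G} (ht : orderOf t = 2) (hy : orderOf y = 7)
    (hc : Commute y t) : Nat.card (centralizer ({t} : Set G)) = 2688 := by
  classical
  have : Fact (Nat.Prime 7) := ⟨by norm_num⟩
  set C := centralizer ({t} : Set G) with hC
  have hyC : y ∈ C := mem_centralizer_singleton_iff.2 hc.eq
  have huniq : ∀ s, orderOf s = 2 → Commute y s → s = t := by
    intro s hs hys
    have h1 := (Nat.card_eq_one_iff_unique.1 (ncom_seven_two h hy)).1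
    exact congrArg Subtype.val (h1.elim ⟨s, hs, hys⟩ ⟨t, ht, hc⟩)
  have hN : normalizer (zpowers y : Set G) ≤ C := by
    intro n hn
    refine mem_centralizer_singleton_iff.2 (mul_inv_eq_iff_eq_mul.1 ?_)
    refine huniq _ ((CfsgLib.Invol.orderOf_conj_eq n t).trans ht) ?_
    obtain ⟨k, hk⟩ := mem_zpowers_iff.1 (show n⁻¹ * y * n ∈ zpowers y by
      simpa using (mem_normalizer_iff.1 (inv_mem hn) y).1 (mem_zpowers y))
    have e : n⁻¹ * y * n = y ^ k := hk.symm
    have h2 : Commute (n⁻¹ * y * n) t := e ▸ hc.zpow_left k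
    have h3 := h2.map (MulAut.conj n).toMonoidHom
    simp only [MulEquiv.coe_toMonoidHom, MulAut.conj_apply] at h3
    rwa [show n * (n⁻¹ * y * n) * n⁻¹ = y by group] at h3
  have hno : ∀ p : ℕ, p.Prime → p = 5 ∨ p = 11 ∨ p = 23 → (Nat.card C).Coprime p := by
    intro p hp hp'
    refine ((Nat.Prime.coprime_iff_not_dvd hp).2 fun hdp => ?_).symm
    have : Fact p.Prime := ⟨hp⟩
    obtain ⟨⟨z, hz⟩, hzo⟩ := exists_prime_orderOf_dvd_card' (G := C) p hdp
    rw [Subgroup.orderOf_mk] at hzo
    have hne : 2 ≠ p := by rcases hp' with rfl | rfl | rfl <;> norm_num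
    refine h.no_order (n := 2 * p) ?_ (order_mul (mem_centralizer_singleton_iff.1 hz).symm
      (by rw [ht, hzo]; exact (Nat.coprime_primes Nat.prime_two hp).2 hne) ht hzo)
    rcases hp' with rfl | rfl | rfl <;> decide
  have hd : Nat.card C ∣ 8064 := by
    have hd' := C.card_subgroup_dvd_card
    rw [h.card] at hd'
    exact (((hno 5 (by norm_num) (by simp)).mul_right (hno 11 (by norm_num) (by simp))).mul_right
      (hno 23 (by norm_num) (by simp))).dvd_of_dvd_mul_right
      (show _ ∣ 8064 * (5 * 11 * 23) by norm_num; exact hd')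
  have h7 : 7 ∣ Nat.card C := hy ▸ Subgroup.orderOf_dvd_natCard _ hyC
  obtain ⟨P, hP⟩ := (IsPGroup.of_card (G := (zpowers y).subgroupOf C) (p := 7) (n := 1) (by
    rw [Nat.card_congr (subgroupOfEquivOfLe (zpowers_le.2 hyC)).toEquiv, Nat.card_zpowers, hy,
      pow_one])).exists_le_sylow
  have hPc : Nat.card (P : Subgroup C) = 7 := CfsgLib.Transfer.card_sylow_eq_prime P h7 fun h49 => by
    have := h49.trans hd
    norm_num at this
  have hPy : (P : Subgroup C) = (zpowers y).subgroupOf C := (eq_of_le_of_card_ge hP (by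
    rw [hPc, Nat.card_congr (subgroupOfEquivOfLe (zpowers_le.2 hyC)).toEquiv, Nat.card_zpowers, hy])).symm
  have hNc : Nat.card (normalizer ((P : Subgroup C) : Set C)) = 42 := by
    rw [hPy, ← subgroupOf_normalizer_eq (zpowers_le.2 hyC),
      Nat.card_congr (subgroupOfEquivOfLe hN).toEquiv, norm_seven h hy]
  have hn7 : Nat.card (Sylow 7 C) * 42 = Nat.card C := by
    rw [← hNc, P.card_eq_index_normalizer]; exact index_mul_card _
  have hmod : Nat.card (Sylow 7 C) % 7 = 1 := card_sylow_modEq_one 7 C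
  have hge : 2688 ≤ Nat.card C := by
    by_contra hlt
    have h1 := size_mul h t
    rw [← hC] at h1
    have h2 := ncard_cl_le ht
    rw [h.cnt_two] at h2
    have := Nat.mul_le_mul h2 (show Nat.card C ≤ 2687 by omega)
    omega
  have hfind : ∀ c ∈ Nat.divisors 8064, 42 ∣ c → (c / 42) % 7 = 1 → 2688 ≤ c → c = 2688 := by
    decide +kernel
  exact hfind _ (Nat.mem_divisors.2 ⟨hd, by norm_num⟩) ⟨_, by rw [mul_comm]; exact hn7.symm⟩
    (by rw [← hn7, Nat.mul_div_cancel _ (by norm_num)]; exact hmod) hge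

theorem exists_two_seven (h : Hyp G) :
    ∃ t y : G, orderOf t = 2 ∧ orderOf y = 7 ∧ Commute y t := by
  have : Fact (Nat.Prime 7) := ⟨by norm_num⟩
  obtain ⟨y, hy⟩ := exists_prime_orderOf_dvd_card' (G := G) 7 (by rw [h.card]; norm_num)
  obtain ⟨⟨t, ht, hc⟩⟩ := (Nat.card_eq_one_iff_unique.1 (ncom_seven_two h hy)).2
  exact ⟨t, y, ht, hy, hc⟩

theorem isConj_two (h : Hyp G) {s t : G} (hs : orderOf s = 2) (ht : orderOf t = 2) : IsConj s t := by
  obtain ⟨t0, y, h0, hy, hc⟩ := exists_two_seven h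
  have hsz := size_mul h t0
  rw [cent_two_of_seven h h0 hy hc] at hsz
  have hle : cnt G 2 ≤ (M12Nse.cl t0).ncard := by rw [h.cnt_two]; omega
  exact (isConj_of_ncard h0 hle hs).symm.trans (isConj_of_ncard h0 hle ht)

theorem cent_two (h : Hyp G) {t : G} (ht : orderOf t = 2) :
    Nat.card (centralizer ({t} : Set G)) = 2688 := by
  obtain ⟨t0, y, h0, hy, hc⟩ := exists_two_seven h
  have h1 := size_mul h t0
  have h2 := size_mul h t
  rw [cent_two_of_seven h h0 hy hc] at h1
  have heq : M12Nse.cl t = M12Nse.cl t0 := Set.ext fun s =>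
    ⟨fun hs => (isConj_two h h0 ht).trans hs, fun hs => (isConj_two h h0 ht).symm.trans hs⟩
  rw [heq] at h2
  have : (M12Nse.cl t0).ncard = 3795 := by omega
  rw [this] at h2
  omega

end CfsgLib.ClassK.M23Nse
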