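import Cfsg.Agent.Lib.ClassK.M23Nse.Three
import Mathlib.GroupTheory.QuotientGroup.Basic
import Mathlib.GroupTheory.Index

/-!
General tools: fixed points of an element of prime order, a 2-group with an involution whose
centraliser has order four, and a counting form of the Frattini argument.
-/

set_option autoImplicit false
set_option linter.unusedSectionVars false

namespace CfsgLib.ClassK.M23Nse

open Subgroup

universe u

section Generic

variable {G : Type u} [Group G] [Finite G]

theorem card_modEq_fixed {p : ℕ} [hp : Fact p.Prime] {K : Subgroup G} {g : G} (hg : orderOf g = p)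
    (hn : g ∈ normalizer (K : Set G)) :
    Nat.card K % p = Nat.card (K ⊓ centralizer ({g} : Set G) : Subgroup G) % p := by
  set a := normalizerMonoidHom K ⟨g, hn⟩ with ha
  have hP : IsPGroup p (zpowers a) := by
    have hd : orderOf a ∣ p := by
      have := orderOf_map_dvd (normalizerMonoidHom K) ⟨g, hn⟩
      rwa [Subgroup.orderOf_mk, hg] at this
    obtain ⟨k, -, hk⟩ := (Nat.dvd_prime_pow hp.out).1 (show orderOf a ∣ p ^ 1 by rwa [pow_one])
    exact IsPGroup.of_card (n := k) (by rw [Nat.card_zpowers, hk])
  have hval : ∀ x : K, ((a x : K) : G) = g * x * g⁻¹ := fun x => rfl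
  have hmem : ∀ x : K, x ∈ MulAction.fixedPoints (zpowers a) K ↔
      (x : G) ∈ centralizer ({g} : Set G) := by
    intro x
    rw [mem_centralizer_singleton_iff]
    refine ⟨fun h => ?_, fun h => ?_⟩
    · have := congrArg Subtype.val (h ⟨a, mem_zpowers a⟩)
      change g * x * g⁻¹ = x at this
      exact (mul_inv_eq_iff_eq_mul.1 this).symm
    · rintro ⟨b, hb⟩
      have hfix : a ∈ MulAction.stabilizer (MulAut K) x := by
        refine Subtype.ext ?_
        show ((a x : K) : G) = x
        rw [hval, ← h, mul_inv_cancel_right]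
      exact (zpowers_le.2 hfix) hb
  have hc : Nat.card (MulAction.fixedPoints (zpowers a) K)
      = Nat.card (K ⊓ centralizer ({g} : Set G) : Subgroup G) :=
    Nat.card_congr
      { toFun := fun x => ⟨x.1.1, x.1.2, (hmem x.1).1 x.2⟩
        invFun := fun x => ⟨⟨x.1, x.2.1⟩, (hmem ⟨x.1, x.2.1⟩).2 x.2.2⟩
        left_inv := fun x => rfl
        right_inv := fun x => rfl }
  rw [← hc]
  exact hP.card_modEq_card_fixedPoints (α := K)

theorem mem_of_coprime_index {S K : Subgroup G} (hn : K ≤ normalizer (S : Set G))
    {g : G} (hg : g ∈ K) (hco : (orderOf g).Coprime (S.relIndex K)) : g ∈ S := by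
  have : (S.subgroupOf K).Normal := normal_subgroupOf_of_le_normalizer hn
  have hp : g ^ S.relIndex K ∈ S := by
    have := (S.subgroupOf K).pow_index_mem ⟨g, hg⟩
    rwa [mem_subgroupOf] at this
  obtain ⟨m, hm⟩ := exists_pow_eq_self_of_coprime (hco.symm : (S.relIndex K).Coprime (orderOf g))
  exact hm ▸ pow_mem hp m

theorem dvd_mul_norm {p : ℕ} [hp : Fact p.Prime] {K L : Subgroup G} (hKL : K ≤ L)
    (hn : L ≤ normalizer (K : Set G)) {x : G} (hx : x ∈ K) (ho : orderOf x = p)
    (hd2 : ¬ p ^ 2 ∣ Nat.card L) :
    ∃ d, d * Nat.card (K ⊓ normalizer (zpowers x : Set G) : Subgroup G) =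
        Nat.card (L ⊓ normalizer (zpowers x : Set G) : Subgroup G) ∧
      d * Nat.card K = Nat.card L := by
  set N := L ⊓ normalizer (zpowers x : Set G) with hN
  have hKN : K ⊓ normalizer (zpowers x : Set G) = K ⊓ N := by
    rw [hN, ← inf_assoc, inf_eq_left.2 hKL]
  refine ⟨K.relIndex N, ?_, ?_⟩
  · rw [hKN, mul_comm, ← inf_relIndex_right, ← Nat.card_congr
      (subgroupOfEquivOfLe (inf_le_right : K ⊓ N ≤ N)).toEquiv]
    exact ((K ⊓ N).subgroupOf N).card_mul_index
  have key : K.relIndex N = K.relIndex L := by
    show (K.subgroupOf N).index = (K.subgroupOf L).index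
    have hnN : (K.subgroupOf N).Normal :=
      normal_subgroupOf_of_le_normalizer ((inf_le_left : N ≤ L).trans hn)
    have hnL : (K.subgroupOf L).Normal := normal_subgroupOf_of_le_normalizer hn
    rw [index_eq_card, index_eq_card]
    let f := QuotientGroup.map (K.subgroupOf N) (K.subgroupOf L)
      (inclusion (inf_le_left : N ≤ L)) (fun a ha => ha)
    refine Nat.card_congr (Equiv.ofBijective f ⟨?_, ?_⟩)
    · rw [injective_iff_map_eq_one]
      intro a ha
      induction a using QuotientGroup.induction_on with
      | H a =>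
        change ((inclusion (inf_le_left : N ≤ L) a : L) : L ⧸ K.subgroupOf L) = 1 at ha
        rw [QuotientGroup.eq_one_iff] at ha ⊢
        exact ha
    · intro b
      induction b using QuotientGroup.induction_on with
      | H b =>
        -- conjugate subgroups of order `p` are Sylow subgroups of `K`
        obtain ⟨b, hb⟩ := b
        have hpK : p ∣ Nat.card K := ho ▸ Subgroup.orderOf_dvd_natCard _ hx
        have hd2K : ¬ p ^ 2 ∣ Nat.card K := fun h => hd2 (h.trans (card_dvd_of_le hKL))
        have hbx : b * x * b⁻¹ ∈ K := (mem_normalizer_iff.1 (hn hb) x).1 hx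
        obtain ⟨P, hP⟩ := exists_sylow_eq (G := K) hpK hd2K (x := ⟨x, hx⟩)
          (by rw [Subgroup.orderOf_mk, ho])
        obtain ⟨Q, hQ⟩ := exists_sylow_eq (G := K) hpK hd2K (x := ⟨_, hbx⟩)
          (by rw [Subgroup.orderOf_mk, CfsgLib.Invol.orderOf_conj_eq, ho])
        obtain ⟨c, rfl⟩ := MulAction.exists_smul_eq K Q P
        have h1 : ((c : G) * b) * x * ((c : G) * b)⁻¹ ∈ zpowers x := by
          have hm : (⟨_, hbx⟩ : K) ∈ (Q : Subgroup K) := hQ ▸ mem_zpowers _
          have hm' : c * (⟨_, hbx⟩ : K) * c⁻¹ ∈ ((c • Q : Sylow p K) : Subgroup K) := by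
            rw [Sylow.coe_subgroup_smul]
            exact ⟨_, hm, rfl⟩
          rw [hP] at hm'
          obtain ⟨k, hk⟩ := mem_zpowers_iff.1 hm'
          refine mem_zpowers_iff.2 ⟨k, ?_⟩
          have hk' := congrArg Subtype.val hk
          simp only [SubgroupClass.coe_zpow, Subgroup.coe_mul, InvMemClass.coe_inv] at hk'
          rw [hk']
          group
        have hcb : (c : G) * b ∈ N := by
          refine mem_inf.2 ⟨mul_mem (hKL c.2) hb, mem_normalizer_fintype fun s hs => ?_⟩
          obtain ⟨k, rfl⟩ := mem_zpowers_iff.1 hs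
          rw [← conj_zpow]
          exact zpow_mem h1 k
        refine ⟨QuotientGroup.mk ⟨_, hcb⟩, ?_⟩
        show ((inclusion (inf_le_left : N ≤ L) ⟨_, hcb⟩ : L) : L ⧸ K.subgroupOf L) = _
        rw [QuotientGroup.eq, mem_subgroupOf]
        show ((c : G) * b)⁻¹ * b ∈ K
        rw [show ((c : G) * b)⁻¹ * b = b⁻¹ * (c : G)⁻¹ * b by group]
        have := (mem_normalizer_iff.1 (hn (inv_mem hb)) _).1 (inv_mem c.2)
        simpa using this
  rw [key, mul_comm, ← Nat.card_congr (subgroupOfEquivOfLe hKL).toEquiv]
  exact (K.subgroupOf L).card_mul_index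

end Generic

/-- A 2-group with an involution whose centraliser has order four has an element of index two. -/
theorem exists_half_order : ∀ (n : ℕ) (Q : Type u) [Group Q] [Finite Q],
    Nat.card Q = 2 ^ (n + 3) → ∀ u : Q, u * u = 1 →
      Nat.card (centralizer ({u} : Set Q)) = 4 → ∃ g : Q, orderOf g = 2 ^ (n + 2) := by
  intro n
  induction n with
  | zero =>
    intro Q _ _ hQ u hu hC
    by_contra hne
    push Not at hne
    have hsq : ∀ g : Q, g * g = 1 := by
      intro g
      have hd : orderOf g ∣ 2 ^ 3 := by simpa [hQ] using orderOf_dvd_natCard g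
      obtain ⟨k, hk, hk'⟩ := (Nat.dvd_prime_pow Nat.prime_two).1 hd
      rw [← pow_two]
      refine orderOf_dvd_iff_pow_eq_one.1 (hk' ▸ ?_)
      interval_cases k
      · norm_num
      · norm_num
      · exact absurd (by simpa using hk') (hne g)
      · refine absurd ?_ (hne (g ^ 2))
        rw [orderOf_pow' _ (by norm_num), hk']
        norm_num
    have htop : centralizer ({u} : Set Q) = ⊤ := by
      refine eq_top_iff.2 fun g _ => mem_centralizer_singleton_iff.2 ?_
      calc g * u = (g * u)⁻¹ := eq_inv_of_mul_eq_one_left (hsq _)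
        _ = u * g := by rw [mul_inv_rev, inv_eq_of_mul_eq_one_right (hsq g),
            inv_eq_of_mul_eq_one_right hu]
    rw [htop, card_top, hQ] at hC
    norm_num at hC
  | succ n ih =>
    intro Q _ _ hQ u hu hC
    classical
    have : Fact (Nat.Prime 2) := ⟨Nat.prime_two⟩
    have hp : IsPGroup 2 Q := IsPGroup.of_card hQ
    have hbig : 16 ≤ Nat.card Q := by
      rw [hQ, show 16 = 2 ^ 4 by norm_num]; exact Nat.pow_le_pow_right (by norm_num) (by omega)
    have : Nontrivial Q := Finite.one_lt_card_iff_nontrivial.1 (by omega)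
    obtain ⟨z, hz, hzo⟩ : ∃ z ∈ center Q, orderOf z = 2 := by
      have hnt := hp.center_nontrivial
      obtain ⟨k, hk⟩ := (hp.to_subgroup (center Q)).exists_card_eq
      have : k ≠ 0 := fun h => by
        have := Finite.one_lt_card (α := center Q)
        rw [hk, h] at this; norm_num at this
      obtain ⟨⟨z, hz⟩, hzo⟩ := exists_prime_orderOf_dvd_card' (G := center Q) 2
        (hk ▸ dvd_pow_self 2 this)
      exact ⟨z, hz, by rwa [Subgroup.orderOf_mk] at hzo⟩
    have hzz : z * z = 1 := CfsgLib.Invol.invol_mul_self hzo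
    have hui : u⁻¹ = u := inv_eq_of_mul_eq_one_right hu
    have hz1 : z ≠ 1 := fun e => by rw [e, orderOf_one] at hzo; norm_num at hzo
    have hnc : ¬ centralizer ({u} : Set Q) = ⊤ := fun e => by
      rw [e, card_top] at hC; omega
    have hu1 : u ≠ 1 := fun e => hnc (by subst e; simp)
    have hzu : z ≠ u := fun e => hnc (eq_top_iff.2 fun g _ => mem_centralizer_singleton_iff.2
      (e ▸ (mem_center_iff.1 hz g)))
    have huz : u * z = z * u := mem_center_iff.1 hz u
    have hCmem : ∀ g, g * u = u * g → g = 1 ∨ g = u ∨ g = z ∨ g = u * z := by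
      intro g hg
      have h4 : ({1, u, z, u * z} : Finset Q).card = 4 := by
        rw [Finset.card_insert_of_notMem, Finset.card_insert_of_notMem,
          Finset.card_insert_of_notMem, Finset.card_singleton]
        · simpa using fun e => hu1 e
        · simp only [Finset.mem_insert, Finset.mem_singleton, not_or]
          exact ⟨Ne.symm hzu, fun e => hz1 (by simpa using e)⟩
        · simp only [Finset.mem_insert, Finset.mem_singleton, not_or]
          refine ⟨Ne.symm hu1, Ne.symm hz1, fun e => hzu ?_⟩
          rw [← inv_eq_of_mul_eq_one_right e.symm, hui]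
      have hsub : (↑({1, u, z, u * z} : Finset Q) : Set Q) ⊆ centralizer ({u} : Set Q) := by
        intro a ha
        simp only [Finset.coe_insert, Finset.coe_singleton, Set.mem_insert_iff,
          Set.mem_singleton_iff] at ha
        rw [SetLike.mem_coe, mem_centralizer_singleton_iff]
        rcases ha with rfl | rfl | rfl | rfl
        · simp
        · rfl
        · exact huz.symm
        · rw [mul_assoc, ← huz]
      have heq := Set.eq_of_subset_of_ncard_le hsub
        (by rw [Set.ncard_coe_finset, h4, ← Nat.card_coe_set_eq]; exact hC.le) (Set.toFinite _)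
      have : g ∈ (↑({1, u, z, u * z} : Finset Q) : Set Q) :=
        heq ▸ (mem_centralizer_singleton_iff.2 hg)
      simpa using this
    have hZn : (zpowers z).Normal := ⟨fun a ha g => by
      obtain ⟨k, rfl⟩ := mem_zpowers_iff.1 ha
      rw [mem_center_iff.1 (zpow_mem hz k) g, mul_inv_cancel_right]
      exact zpow_mem (mem_zpowers z) k⟩
    have hZ : ∀ a ∈ zpowers z, a = 1 ∨ a = z := by
      intro a ha
      obtain ⟨k, hk, rfl⟩ := (isOfFinOrder_of_finite z).mem_zpowers_iff_mem_range_orderOf.1 ha
        |> Finset.mem_image.1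
      rw [Finset.mem_range, hzo] at hk
      interval_cases k
      · exact Or.inl (pow_zero z)
      · exact Or.inr (pow_one z)
    set π := QuotientGroup.mk' (zpowers z) with hπ
    have hsurj : Function.Surjective π := QuotientGroup.mk'_surjective _
    have hπone : ∀ a, π a = 1 ↔ a = 1 ∨ a = z := fun a => by
      rw [hπ, QuotientGroup.mk'_apply, QuotientGroup.eq_one_iff]
      exact ⟨hZ a, by rintro (rfl | rfl); exacts [one_mem _, mem_zpowers _]⟩
    have hq : Nat.card (Q ⧸ zpowers z) = 2 ^ (n + 3) := by
      have := (zpowers z).card_mul_index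
      rw [Nat.card_zpowers, hzo, hQ, index_eq_card, pow_succ] at this
      omega
    -- the centraliser of the image of `u`
    set C' := centralizer ({π u} : Set (Q ⧸ zpowers z)) with hC'
    have hN : ∀ g, g ∈ C'.comap π ↔ g * u = u * g ∨ g * u = u * g * z := by
      intro g
      rw [mem_comap, hC', mem_centralizer_singleton_iff, ← map_mul, ← map_mul,
        ← inv_mul_eq_one, ← map_inv, ← map_mul, hπone, inv_mul_eq_one, inv_mul_eq_iff_eq_mul]
      constructor
      · rintro (e | e)
        · exact Or.inl e
        · right; rw [e, mul_assoc (g * u) z z, hzz, mul_one]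
      · rintro (e | e)
        · exact Or.inl e
        · right; rw [e, mul_assoc (u * g) z z, hzz, mul_one]
    have hle : Nat.card (C'.comap π) ≤ 8 := by
      by_cases hex : ∃ g₀, g₀ * u = u * g₀ * z
      · obtain ⟨g₀, hg₀⟩ := hex
        have hsub : ((C'.comap π : Subgroup Q) : Set Q) ⊆
            (centralizer ({u} : Set Q) : Set Q) ∪ (g₀ * ·) '' (centralizer ({u} : Set Q) : Set Q) := by
          intro g hg
          rcases (hN g).1 hg with e | e
          · exact Or.inl (mem_centralizer_singleton_iff.2 e)
          · refine Or.inr ⟨g₀⁻¹ * g, mem_centralizer_singleton_iff.2 ?_, mul_inv_cancel_left g₀ g⟩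
            calc g₀⁻¹ * g * u = g₀⁻¹ * u * g₀ * ((g₀⁻¹ * g) * z) := by rw [mul_assoc, e]; group
              _ = g₀⁻¹ * (u * g₀ * z) * (g₀⁻¹ * g) := by rw [mem_center_iff.1 hz (g₀⁻¹ * g)]; group
              _ = u * (g₀⁻¹ * g) := by rw [← hg₀]; group
        rw [← SetLike.coe_sort_coe, Nat.card_coe_set_eq]
        refine (Set.ncard_le_ncard hsub (Set.toFinite _)).trans ((Set.ncard_union_le _ _).trans ?_)
        refine le_trans (Nat.add_le_add le_rfl (Set.ncard_image_le (Set.toFinite _))) ?_
        rw [← Nat.card_coe_set_eq, SetLike.coe_sort_coe, hC]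
      · refine le_trans (card_le_of_le fun g hg => ?_) (hC.le.trans (by norm_num))
        exact mem_centralizer_singleton_iff.2 (((hN g).1 hg).resolve_right fun e => hex ⟨g, e⟩)
    have hC4 : Nat.card C' = 4 := by
      have h1 := (C'.comap π).card_mul_index
      rw [index_comap_of_surjective _ hsurj] at h1
      have h2 := C'.card_mul_index
      rw [hq] at h2
      rw [hQ, pow_succ, ← h2] at h1
      have hi : 0 < C'.index := Nat.pos_of_ne_zero index_ne_zero_of_finite
      have h3 : Nat.card (C'.comap π) = 2 * Nat.card C' :=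
        Nat.eq_of_mul_eq_mul_right hi (h1.trans (by ring))
      obtain ⟨k, hk⟩ := ((hp.to_quotient (zpowers z)).to_subgroup C').exists_card_eq
      have hk2 : 2 ≤ k := by
        by_contra hlt
        have : (↑({1, u, z, u * z} : Finset Q) : Set Q) ⊆ C'.comap π := by
          intro a ha
          simp only [Finset.coe_insert, Finset.coe_singleton, Set.mem_insert_iff,
            Set.mem_singleton_iff] at ha
          refine (hN a).2 (Or.inl ?_)
          rcases ha with rfl | rfl | rfl | rfl
          · simp
          · rfl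
          · exact huz.symm
          · rw [mul_assoc, ← huz]
        have h4 : 4 ≤ Nat.card (C'.comap π) := hC ▸ card_le_of_le (fun a ha => by
          rcases hCmem a (mem_centralizer_singleton_iff.1 ha) with e | e | e | e <;>
            exact this (by simp [e]))
        have : (2 : ℕ) ^ k ≤ 2 ^ 1 := Nat.pow_le_pow_right (by norm_num) (by omega)
        -- the image of `u` is then central
        obtain ⟨w, hw, hwo⟩ : ∃ w ∈ center (Q ⧸ zpowers z), orderOf w = 2 := by
          have hp' := hp.to_quotient (zpowers z)
          have : Nontrivial (Q ⧸ zpowers z) := Finite.one_lt_card_iff_nontrivial.1 (by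
            rw [hq]; exact Nat.one_lt_two_pow (by omega))
          have hnt := hp'.center_nontrivial
          obtain ⟨j, hj⟩ := (hp'.to_subgroup (center _)).exists_card_eq
          have : j ≠ 0 := fun h => by
            have := Finite.one_lt_card (α := center (Q ⧸ zpowers z))
            rw [hj, h] at this; norm_num at this
          obtain ⟨⟨w, hw⟩, hwo⟩ := exists_prime_orderOf_dvd_card'
            (G := center (Q ⧸ zpowers z)) 2 (hj ▸ dvd_pow_self 2 this)
          exact ⟨w, hw, by rwa [Subgroup.orderOf_mk] at hwo⟩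
        have hC2 : C' = zpowers w := (eq_of_le_of_card_ge
          (zpowers_le.2 (mem_centralizer_singleton_iff.2 (mem_center_iff.1 hw _).symm))
          (by rw [Nat.card_zpowers, hwo, hk]; omega)).symm
        have hmem : π u ∈ zpowers w := hC2 ▸ mem_centralizer_singleton_iff.2 rfl
        have htop : C' = ⊤ := by
          refine eq_top_iff.2 fun a _ => mem_centralizer_singleton_iff.2 ?_
          obtain ⟨j, hj⟩ := mem_zpowers_iff.1 hmem
          rw [← hj]
          exact mem_center_iff.1 (zpow_mem hw j) a
        rw [htop, card_top, hq] at hk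
        have := Nat.pow_le_pow_right (show 0 < 2 by norm_num) (show 2 ≤ n + 3 by omega)
        omega
      have : 2 ^ 2 ≤ 2 ^ k := Nat.pow_le_pow_right (by norm_num) hk2
      omega
    obtain ⟨gb, hgb⟩ := ih (Q ⧸ zpowers z) hq (π u) (by rw [← map_mul, hu, map_one]) hC4
    obtain ⟨g, rfl⟩ := hsurj gb
    have hd1 : 2 ^ (n + 2) ∣ orderOf g := hgb ▸ orderOf_map_dvd π g
    have hd2 : orderOf g ∣ 2 ^ (n + 3) := by
      refine orderOf_dvd_of_pow_eq_one ?_
      rw [pow_succ 2 (n + 2), pow_mul]
      have : π (g ^ 2 ^ (n + 2)) = 1 := by rw [map_pow, ← hgb, pow_orderOf_eq_one]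
      rcases (hπone _).1 this with e | e <;> rw [e]
      · simp
      · rw [pow_two, hzz]
    obtain ⟨m, hm, hm'⟩ := (Nat.dvd_prime_pow Nat.prime_two).1 hd2
    have hm2 : n + 2 ≤ m := (Nat.pow_dvd_pow_iff_le_right (by norm_num)).1 (hm' ▸ hd1)
    rcases (show m = n + 3 ∨ m = n + 2 by omega) with rfl | rfl
    · exact ⟨g, hm'⟩
    exfalso
    set h := g ^ 2 ^ (n + 1) with hh
    have hho : orderOf h = 2 := by
      rw [hh, orderOf_pow' _ (by positivity), hm', Nat.gcd_eq_right (pow_dvd_pow 2 (by omega)),
        Nat.pow_div (by omega) (by norm_num), show n + 2 - (n + 1) = 1 by omega, pow_one]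
    have hhz : ¬ π h = 1 := fun e => by
      rw [hh, map_pow] at e
      have := orderOf_dvd_of_pow_eq_one e
      rw [hgb] at this
      have := Nat.le_of_dvd (by positivity) this
      have := Nat.pow_lt_pow_right (show 1 < 2 by norm_num) (show n + 1 < n + 2 by omega)
      omega
    set M := (zpowers (π g)).comap π with hM
    have hMi : M.index = 2 := by
      rw [hM, index_comap_of_surjective _ hsurj]
      have := (zpowers (π g)).card_mul_index
      rw [Nat.card_zpowers, hgb, hq, pow_succ 2 (n + 2)] at this
      exact Nat.eq_of_mul_eq_mul_left (by positivity) this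
    have hMn : M.Normal := normal_of_index_eq_two hMi
    have huM : u ∉ M := fun hu' => by
      obtain ⟨i, hi⟩ := mem_zpowers_iff.1 (mem_comap.1 hu')
      have e : π u = π (g ^ i) := by rw [map_zpow, hi]
      have hgu : g * u = u * g := by
        have e' : π ((g ^ i)⁻¹ * u) = 1 := by rw [map_mul, map_inv, e, inv_mul_cancel]
        rcases (hπone _).1 e' with f | f
        · rw [← inv_mul_eq_one.1 f]; exact (Commute.self_zpow g i).eq
        · rw [inv_mul_eq_iff_eq_mul.1 f]
          exact ((Commute.self_zpow g i).mul_right (show Commute g z from mem_center_iff.1 hz g)).eq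
      have hgg : g * g = 1 := by
        rcases hCmem g hgu with rfl | rfl | rfl | rfl
        · simp
        · exact hu
        · exact hzz
        · rw [huz, mul_assoc, ← mul_assoc u z u, huz, mul_assoc z u u, hu, mul_one, hzz]
      rw [← pow_two] at hgg
      have := orderOf_dvd_of_pow_eq_one hgg
      rw [hm'] at this
      have := Nat.le_of_dvd (by norm_num) this
      have := Nat.pow_le_pow_right (show 0 < 2 by norm_num) (show 2 ≤ n + 2 by omega)
      omega
    have hfix : u * h = h * u := by
      have hg' : u * g * u⁻¹ ∈ M := hMn.conj_mem g (mem_comap.2 (mem_zpowers _)) u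
      obtain ⟨i, hi⟩ := mem_zpowers_iff.1 (mem_comap.1 hg')
      have e' : π ((g ^ i)⁻¹ * (u * g * u⁻¹)) = 1 := by
        rw [map_mul, map_inv, map_zpow, hi, inv_mul_cancel]
      have hpow : u * h * u⁻¹ = h ^ i := by
        rw [hh, ← conj_pow]
        rcases (hπone _).1 e' with f | f
        · rw [← inv_mul_eq_one.1 f, ← zpow_natCast, ← zpow_mul, mul_comm, zpow_mul, zpow_natCast]
        · rw [inv_mul_eq_iff_eq_mul.1 f,
            (show Commute (g ^ i) z from mem_center_iff.1 hz _).mul_pow,
            show z ^ 2 ^ (n + 1) = 1 by rw [pow_succ', pow_mul, pow_two, hzz, one_pow], mul_one,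
            ← zpow_natCast, ← zpow_mul, mul_comm, zpow_mul, zpow_natCast]
      have hmem : u * h * u⁻¹ ∈ zpowers h := hpow ▸ zpow_mem (mem_zpowers h) i
      obtain ⟨k, hk, hke⟩ := (isOfFinOrder_of_finite h).mem_zpowers_iff_mem_range_orderOf.1 hmem
        |> Finset.mem_image.1
      rw [Finset.mem_range, hho] at hk
      interval_cases k
      · rw [pow_zero, eq_comm, conj_eq_one_iff] at hke
        rw [hke, orderOf_one] at hho; norm_num at hho
      · rw [pow_one] at hke
        exact mul_inv_eq_iff_eq_mul.1 hke.symm
    rcases hCmem h hfix.symm with e | e | e | e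
    · exact hhz (by rw [e, map_one])
    · exact huM (e ▸ mem_comap.2 (by rw [hh, map_pow]; exact pow_mem (mem_zpowers _) _))
    · exact hhz ((hπone _).2 (Or.inr e))
    · refine huM ?_
      have hzM : z ∈ M := mem_comap.2 (by rw [(hπone z).2 (Or.inr rfl)]; exact one_mem _)
      have : h ∈ M := mem_comap.2 (by rw [hh, map_pow]; exact pow_mem (mem_zpowers _) _)
      rw [e] at this
      exact (mul_mem_cancel_right hzM).1 this

end CfsgLib.ClassK.M23Nse
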