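import Cfsg.Agent.Lib.ClassK.M22Nse.Split

/-! Orders of the values of words in the stabiliser chain of M23. -/

set_option autoImplicit false
set_option maxRecDepth 100000

namespace CfsgLib.ClassK.M23Nse

open Cfsg CfsgLib.Golay
open CfsgLib.ClassK.M12Nse (wval app appIter wval_pt wval_pow_pt appIter_lt wval_append wval_mem
  prods exists_prod)
open CfsgLib.ClassK.M22Nse (ordSet)
open scoped Pointwise

theorem faith_fix23 {σ : Equiv.Perm GolayPt} (hσ : σ ∈ fixMasks X23)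
    (h : ∀ i, i ≤ 5 → σ (pt i) = pt i) : σ = 1 := by
  have hc : chainOK [32, 16, 8, 4, 2, 1, 8388608] (chainM24Levels.drop 7) chainM24Fin = true := by
    decide +kernel
  have h1 := card_fixMasks hc
  rw [show chainCard (chainM24Levels.drop 7) = 1 by decide +kernel] at h1
  have : σ ∈ fixMasks [32, 16, 8, 4, 2, 1, 8388608] := by
    rw [show ([32, 16, 8, 4, 2, 1, 8388608] : List ℕ) = Nat.shiftLeft 1 5 :: Nat.shiftLeft 1 4 ::
      Nat.shiftLeft 1 3 :: Nat.shiftLeft 1 2 :: Nat.shiftLeft 1 1 :: Nat.shiftLeft 1 0 :: X23 from rfl]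
    simp only [mem_fixMasks_bit (show (5 : ℕ) < 24 by norm_num),
      mem_fixMasks_bit (show (4 : ℕ) < 24 by norm_num), mem_fixMasks_bit (show (3 : ℕ) < 24 by norm_num),
      mem_fixMasks_bit (show (2 : ℕ) < 24 by norm_num), mem_fixMasks_bit (show (1 : ℕ) < 24 by norm_num),
      mem_fixMasks_bit (show (0 : ℕ) < 24 by norm_num)]
    exact ⟨⟨⟨⟨⟨⟨hσ, h 0 (by norm_num)⟩, h 1 (by norm_num)⟩, h 2 (by norm_num)⟩,
      h 3 (by norm_num)⟩, h 4 (by norm_num)⟩, h 5 le_rfl⟩
  rwa [Subgroup.card_eq_one.1 h1, Subgroup.mem_bot] at this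

/-- The images of the first six points. -/
structure Six where
  /-- image of `0` -/
  a : ℕ
  /-- image of `1` -/
  b : ℕ
  /-- image of `2` -/
  c : ℕ
  /-- image of `3` -/
  d : ℕ
  /-- image of `4` -/
  e : ℕ
  /-- image of `5` -/
  f : ℕ

/-- The starting state. -/
def sixId : Six := ⟨0, 1, 2, 3, 4, 5⟩

/-- One application of a word. -/
def Six.step (w : List ℕ) (s : Six) : Six :=
  ⟨app w s.a, app w s.b, app w s.c, app w s.d, app w s.e, app w s.f⟩

/-- The state is the starting one. -/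
def Six.triv (s : Six) : Bool :=
  Nat.beq s.a 0 && Nat.beq s.b 1 && Nat.beq s.c 2 && Nat.beq s.d 3 && Nat.beq s.e 4 && Nat.beq s.f 5

/-- The state after `k` applications. -/
def sixAt (w : List ℕ) (k : ℕ) : Six :=
  ⟨appIter w k 0, appIter w k 1, appIter w k 2, appIter w k 3, appIter w k 4, appIter w k 5⟩

/-- The first exponent killing the value (searching at most `f` steps from `k`; `0` if none), with
the state after `k` applications. -/
def ordAux (w : List ℕ) : ℕ → ℕ → Six → ℕ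
  | 0, _, _ => 0
  | f + 1, k, s => bif s.triv then k else ordAux w f (k + 1) (s.step w)

/-- The order of the value, if it is at most 23. -/
def ord23 (w : List ℕ) : ℕ := ordAux w 23 1 (sixId.step w)

theorem ordAux_spec {w : List ℕ} : ∀ (f k : ℕ), ordAux w f k (sixAt w k) ≠ 0 →
    k ≤ ordAux w f k (sixAt w k) ∧ (sixAt w (ordAux w f k (sixAt w k))).triv = true ∧
      ∀ m, k ≤ m → m < ordAux w f k (sixAt w k) → (sixAt w m).triv = false
  | 0, _, h => absurd rfl h
  | f + 1, k, h => by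
    simp only [ordAux] at h ⊢
    cases hk : (sixAt w k).triv with
    | true =>
      simp only [cond_true]
      exact ⟨le_rfl, hk, fun m h1 h2 => absurd h1 (by omega)⟩
    | false =>
      simp only [hk, cond_false] at h ⊢
      have e : Six.step w (sixAt w k) = sixAt w (k + 1) := rfl
      rw [e] at h ⊢
      obtain ⟨h1, h2, h3⟩ := ordAux_spec f (k + 1) h
      refine ⟨by omega, h2, fun m hm hm' => ?_⟩
      rcases Nat.eq_or_lt_of_le hm with rfl | hlt
      · exact hk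
      · exact h3 m hlt hm'

theorem triv_iff {w : List ℕ} (h : ∀ t ∈ w, valid t = true) (hw : wval w ∈ fixMasks X23) (k : ℕ) :
    (sixAt w k).triv = true ↔ wval w ^ k = 1 := by
  constructor
  · intro hk
    simp only [Six.triv, sixAt, Bool.and_eq_true] at hk
    obtain ⟨⟨⟨⟨⟨h0, h1⟩, h2⟩, h3⟩, h4⟩, h5⟩ := hk
    refine faith_fix23 (Subgroup.pow_mem _ hw k) fun i hi => ?_
    rw [wval_pow_pt h (by omega)]
    congr 1
    interval_cases i
    exacts [Nat.eq_of_beq_eq_true h0, Nat.eq_of_beq_eq_true h1, Nat.eq_of_beq_eq_true h2,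
      Nat.eq_of_beq_eq_true h3, Nat.eq_of_beq_eq_true h4, Nat.eq_of_beq_eq_true h5]
  · intro hk
    have hb : ∀ i < 24, Nat.beq (appIter w k i) i = true := by
      intro i hi
      have e := wval_pow_pt h hi k
      rw [hk, Equiv.Perm.one_apply] at e
      have := congrArg idx e
      rw [idx_pt hi, idx_pt (appIter_lt h hi k)] at this
      rw [← this]; exact Nat.beq_refl i
    simp [Six.triv, sixAt, hb 0 (by norm_num), hb 1 (by norm_num), hb 2 (by norm_num),
      hb 3 (by norm_num), hb 4 (by norm_num), hb 5 (by norm_num)]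

theorem orderOf_wval {w : List ℕ} (h : ∀ t ∈ w, valid t = true) (hw : wval w ∈ fixMasks X23)
    (h0 : ord23 w ≠ 0) : orderOf (wval w) = ord23 w := by
  have e : Six.step w sixId = sixAt w 1 := rfl
  rw [ord23, e] at h0 ⊢
  obtain ⟨h1, h2, h3⟩ := ordAux_spec (w := w) 23 1 h0
  rw [orderOf_eq_iff (by exact h1)]
  refine ⟨(triv_iff h hw _).1 h2, fun m hm hm0 he => ?_⟩
  have := h3 m hm0 hm
  rw [(triv_iff h hw m).2 he] at this
  exact absurd this (by simp)

/-- Counts of the orders along a list of words. -/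
def hist (W : List (List ℕ)) (n : ℕ) : ℕ := (W.map ord23).countP fun o => Nat.beq o n

/-- A duplicate-free surjective list of words computes an order count. -/
theorem ncard_ordSet_list {X : List ℕ} (hX : fixMasks X ≤ fixMasks X23)
    {P : Equiv.Perm GolayPt → Prop} (W : List (List ℕ))
    (hW : ∀ w ∈ W, ∀ t ∈ w, valid t = true)
    (hsurj : ∀ σ, σ ∈ fixMasks X ∧ P σ → ∃ w ∈ W, wval w = σ)
    (hmem : ∀ w ∈ W, wval w ∈ fixMasks X ∧ P (wval w))
    (hlen : W.length ≤ Set.ncard {σ | σ ∈ fixMasks X ∧ P σ})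
    (hord : ∀ w ∈ W, ord23 w ≠ 0) (n : ℕ) :
    (ordSet X P n).ncard = hist W n := by
  classical
  have hset : {σ | σ ∈ fixMasks X ∧ P σ} = ↑((W.map wval).toFinset) := by
    ext σ
    simp only [List.coe_toFinset, List.mem_map, Set.mem_setOf_eq]
    exact ⟨hsurj σ, by rintro ⟨w, hw, rfl⟩; exact hmem w hw⟩
  rw [hset, Set.ncard_coe_finset] at hlen
  have hnd : (W.map wval).Nodup := by
    rw [List.card_toFinset] at hlen
    exact List.dedup_eq_self.1
      ((List.dedup_sublist _).eq_of_length_le (by simpa using hlen))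
  have hsub : ordSet X P n = ↑((((W.filter fun w => Nat.beq (ord23 w) n)).map wval).toFinset) := by
    ext σ
    simp only [List.coe_toFinset, List.mem_map, List.mem_filter, Set.mem_setOf_eq, ordSet]
    constructor
    · rintro ⟨h1, h2, h3⟩
      obtain ⟨w, hw, rfl⟩ := hsurj σ ⟨h1, h2⟩
      refine ⟨w, ⟨hw, ?_⟩, rfl⟩
      rw [← h3, orderOf_wval (hW w hw) (hX h1) (hord w hw)]
      exact Nat.beq_refl _
    · rintro ⟨w, ⟨hw, hn⟩, rfl⟩
      refine ⟨(hmem w hw).1, (hmem w hw).2, ?_⟩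
      rw [orderOf_wval (hW w hw) (hX (hmem w hw).1) (hord w hw)]
      exact Nat.eq_of_beq_eq_true hn
  rw [hsub, Set.ncard_coe_finset, List.toFinset_card_of_nodup, List.length_map, hist,
    List.countP_map, List.countP_eq_length_filter]
  · rfl
  · exact hnd.sublist (List.filter_sublist.map _)

/-- The count of a coset `e * fixMasks X'`, described by the images of three points. -/
theorem ncard_ordSet_coset3 {X : List ℕ} {b b' b'' z z' z'' : ℕ} (hb : b < 24) (hb' : b' < 24)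
    (hb'' : b'' < 24) {L : List Level} {fin : List (ℕ × ℕ × ℕ)}
    (hc : chainOK (Nat.shiftLeft 1 b'' :: Nat.shiftLeft 1 b' :: Nat.shiftLeft 1 b :: X) L fin = true)
    (hX : fixMasks X ≤ fixMasks X23) (e : List ℕ) (he : e.all (inFix X) = true)
    (he1 : app e b = z) (he2 : app e b' = z') (he3 : app e b'' = z'')
    (hin : (prods L).all (fun w =>
      w.all (inFix (Nat.shiftLeft 1 b'' :: Nat.shiftLeft 1 b' :: Nat.shiftLeft 1 b :: X))
        && !Nat.beq (ord23 (e ++ w)) 0) = true)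
    (hlen : (prods L).length = chainCard L) (n : ℕ) :
    (ordSet X (fun σ => (σ (pt b) = pt z ∧ σ (pt b') = pt z') ∧ σ (pt b'') = pt z'') n).ncard =
      hist ((prods L).map (e ++ ·)) n := by
  simp only [List.all_eq_true, Bool.and_eq_true, Bool.not_eq_true'] at hin he
  have hev : ∀ t ∈ e, valid t = true := fun t ht => inFix_valid (he t ht)
  have hem := wval_mem he
  have e1 : wval e (pt b) = pt z := by rw [wval_pt hev hb, he1]
  have e2 : wval e (pt b') = pt z' := by rw [wval_pt hev hb', he2]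
  have e3 : wval e (pt b'') = pt z'' := by rw [wval_pt hev hb'', he3]
  have unfold3 : ∀ {σ}, σ ∈ fixMasks (Nat.shiftLeft 1 b'' :: Nat.shiftLeft 1 b' ::
      Nat.shiftLeft 1 b :: X) → σ ∈ fixMasks X ∧ σ (pt b) = pt b ∧ σ (pt b') = pt b' ∧
        σ (pt b'') = pt b'' := fun hσ => by
    obtain ⟨h1, h2⟩ := (mem_fixMasks_cons hb'').1 hσ
    obtain ⟨h3, h4⟩ := (mem_fixMasks_cons hb').1 h1
    obtain ⟨h5, h6⟩ := (mem_fixMasks_cons hb).1 h3
    exact ⟨h5, h6, h4, h2⟩
  refine ncard_ordSet_list hX _ ?_ ?_ ?_ ?_ ?_ n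
  · intro w hw t ht
    obtain ⟨v, hv, rfl⟩ := List.mem_map.1 hw
    rcases List.mem_append.1 ht with ht | ht
    · exact hev t ht
    · exact inFix_valid ((hin v hv).1 t ht)
  · rintro σ ⟨hσ, ⟨h1, h2⟩, h3⟩
    obtain ⟨v, hv, hve⟩ := exists_prod hc ((wval e)⁻¹ * σ) ((mem_fixMasks_cons hb'').2
      ⟨(mem_fixMasks_cons hb').2 ⟨(mem_fixMasks_cons hb).2 ⟨Subgroup.mul_mem _
        (Subgroup.inv_mem _ hem) hσ, by
        rw [Equiv.Perm.mul_apply, h1, Equiv.Perm.inv_eq_iff_eq, e1]⟩, by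
        rw [Equiv.Perm.mul_apply, h2, Equiv.Perm.inv_eq_iff_eq, e2]⟩, by
        rw [Equiv.Perm.mul_apply, h3, Equiv.Perm.inv_eq_iff_eq, e3]⟩)
    exact ⟨e ++ v, List.mem_map.2 ⟨v, hv, rfl⟩, by rw [wval_append, hve, mul_inv_cancel_left]⟩
  · intro w hw
    obtain ⟨v, hv, rfl⟩ := List.mem_map.1 hw
    obtain ⟨h1, h2, h3, h4⟩ := unfold3 (wval_mem (hin v hv).1)
    rw [wval_append]
    exact ⟨Subgroup.mul_mem _ hem h1, ⟨by rw [Equiv.Perm.mul_apply, h2, e1],
      by rw [Equiv.Perm.mul_apply, h3, e2]⟩, by rw [Equiv.Perm.mul_apply, h4, e3]⟩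
  · rw [List.length_map, hlen, ← card_fixMasks hc, ← Nat.card_coe_set_eq]
    refine Nat.card_le_card_of_injective
      (fun s => ⟨wval e * s.1, ?_⟩) fun s s' h => ?_
    · obtain ⟨h1, h2, h3, h4⟩ := unfold3 s.2
      exact ⟨Subgroup.mul_mem _ hem h1, ⟨by rw [Equiv.Perm.mul_apply, h2, e1],
        by rw [Equiv.Perm.mul_apply, h3, e2]⟩, by rw [Equiv.Perm.mul_apply, h4, e3]⟩
    · exact Subtype.ext (mul_left_cancel (congrArg Subtype.val h))
  · intro w hw h0
    obtain ⟨v, hv, rfl⟩ := List.mem_map.1 hw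
    have := (hin v hv).2
    rw [h0] at this
    simp at this

/-- Splitting by the image of a third point into one value and an orbit. -/
theorem ncard_third {X : List ℕ} {b b' c z z' z'' : ℕ} (hb : b < 24) (hb' : b' < 24)
    {lv : Level} (h : levelOK (Nat.shiftLeft 1 c :: Nat.shiftLeft 1 b' :: Nat.shiftLeft 1 b :: X) lv
      = true) (hc : c < 24) (hz : z < 24) (hz' : z' < 24) (hz'' : z'' < 24)
    (hfix : ∀ k ∈ fixMasks (Nat.shiftLeft 1 c :: Nat.shiftLeft 1 b' :: Nat.shiftLeft 1 b :: X),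
      k (pt z) = pt z ∧ k (pt z') = pt z')
    (hout : (orbMask lv.1 lv.2.1).testBit z'' = false)
    (himg : ∀ σ ∈ fixMasks X, σ (pt b) = pt z → σ (pt b') = pt z' →
      σ (pt c) = pt z'' ∨ σ (pt c) ∈ mset (orbMask lv.1 lv.2.1)) (n : ℕ) :
    (ordSet X (fun σ => σ (pt b) = pt z ∧ σ (pt b') = pt z') n).ncard =
      (ordSet X (fun σ => (σ (pt b) = pt z ∧ σ (pt b') = pt z') ∧ σ (pt c) = pt z'') n).ncard +
      pop (orbMask lv.1 lv.2.1) *
      (ordSet X (fun σ => (σ (pt b) = pt z ∧ σ (pt b') = pt z') ∧ σ (pt c) = pt lv.1) n).ncard := by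
  classical
  obtain ⟨hl, -, -, horb⟩ := levelOK_unpack h
  set O := mset (orbMask lv.1 lv.2.1)
  set P : Equiv.Perm GolayPt → Prop := fun σ => σ (pt b) = pt z ∧ σ (pt b') = pt z' with hP
  have hzO : pt z'' ∉ O := by rw [mem_mset, idx_pt hz'', hout]; simp
  have e0 : ordSet X P n = ordSet X (fun σ => P σ ∧ σ (pt c) = pt z'') n ∪
      ordSet X (fun σ => P σ ∧ σ (pt c) ∈ O) n := by
    ext σ
    simp only [ordSet, Set.mem_union, Set.mem_setOf_eq]
    constructor
    · rintro ⟨h1, h2, h3⟩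
      rcases himg σ h1 h2.1 h2.2 with h4 | h4
      · exact Or.inl ⟨h1, ⟨h2, h4⟩, h3⟩
      · exact Or.inr ⟨h1, ⟨h2, h4⟩, h3⟩
    · rintro (⟨h1, ⟨h2, -⟩, h3⟩ | ⟨h1, ⟨h2, -⟩, h3⟩) <;> exact ⟨h1, h2, h3⟩
  have d0 : Disjoint (ordSet X (fun σ => P σ ∧ σ (pt c) = pt z'') n)
      (ordSet X (fun σ => P σ ∧ σ (pt c) ∈ O) n) := by
    rw [Set.disjoint_left]
    rintro σ ⟨-, ⟨-, h1⟩, -⟩ ⟨-, ⟨-, h2⟩, -⟩
    rw [h1] at h2
    exact hzO h2
  have hK : ∀ {k}, k ∈ fixMasks (Nat.shiftLeft 1 c :: Nat.shiftLeft 1 b' :: Nat.shiftLeft 1 b :: X) →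
      k ∈ fixMasks X ∧ k (pt b) = pt b ∧ k (pt b') = pt b' ∧ k (pt c) = pt c := fun hk => by
    obtain ⟨h1, h2⟩ := (mem_fixMasks_cons hc).1 hk
    obtain ⟨h3, h4⟩ := (mem_fixMasks_cons hb').1 h1
    obtain ⟨h5, h6⟩ := (mem_fixMasks_cons hb).1 h3
    exact ⟨h5, h6, h4, h2⟩
  rw [e0, Set.ncard_union_eq d0 (Set.toFinite _) (Set.toFinite _),
    M22Nse.ncard_fibres O _ n (fun y hy => M22Nse.ncard_fibre (fun k hk => (hK hk).1)
      (fun k hk => (hK hk).2.2.2) (fun k hk σ hσ => ?_) ((horb y).2 hy) n), card_mset]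
  obtain ⟨-, h1, h2, -⟩ := hK hk
  obtain ⟨h3, h4⟩ := hfix k hk
  have i1 : k⁻¹ (pt b) = pt b := by rw [Equiv.Perm.inv_eq_iff_eq]; exact h1.symm
  have i2 : k⁻¹ (pt b') = pt b' := by rw [Equiv.Perm.inv_eq_iff_eq]; exact h2.symm
  exact ⟨by rw [Equiv.Perm.mul_apply, Equiv.Perm.mul_apply, i1, hσ.1, h3],
    by rw [Equiv.Perm.mul_apply, Equiv.Perm.mul_apply, i2, hσ.2, h4]⟩

end CfsgLib.ClassK.M23Nse
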